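import Cfsg.Agent.H6.Count
import Cfsg.Agent.H9.Invol
import Cfsg.Agent.H9.Extra
import Cfsg.Agent.H4.Dihedral

/-!
# Thompson's order formula
-/

set_option autoImplicit false

namespace Cfsg.Agent.H5

open Subgroup

variable {G : Type*} [Group G]

/-- The pairs of conjugates of `z`, `t` whose product has a power equal to `u`. -/
def thompsonPairs (z t u : G) : Set (G × G) :=
  {p | IsConj z p.1 ∧ IsConj t p.2 ∧ u ∈ zpowers (p.1 * p.2)}

theorem mem_thompsonPairs {z t u : G} {p : G × G} :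
    p ∈ thompsonPairs z t u ↔ IsConj z p.1 ∧ IsConj t p.2 ∧ u ∈ zpowers (p.1 * p.2) := Iff.rfl

theorem commute_of_mem_zpowers_mul {x y u : G} (hx : x * x = 1) (hy : y * y = 1) (hu : u * u = 1)
    (h : u ∈ zpowers (x * y)) : x * u = u * x ∧ y * u = u * y := by
  have hinv : u⁻¹ = u := inv_eq_of_mul_eq_one_left hu
  have h1 := H4.conj_eq_inv_of_mem_zpowers (H4.left_conj_mul_eq_inv hx hy) h
  have h2 := H4.conj_eq_inv_of_mem_zpowers (H4.right_conj_mul_eq_inv hx hy) h
  rw [hinv] at h1 h2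
  exact ⟨mul_inv_eq_iff_eq_mul.mp h1, mul_inv_eq_iff_eq_mul.mp h2⟩

theorem ncard_thompsonPairs_conj (z t u g : G) :
    (thompsonPairs z t (g * u * g⁻¹)).ncard = (thompsonPairs z t u).ncard := by
  symm
  refine Set.ncard_congr (fun p _ => (g * p.1 * g⁻¹, g * p.2 * g⁻¹)) ?_ ?_ ?_
  · rintro ⟨x, y⟩ ⟨h1, h2, k, hk⟩
    refine ⟨h1.trans (isConj_iff.mpr ⟨g, rfl⟩), h2.trans (isConj_iff.mpr ⟨g, rfl⟩), k, ?_⟩
    change (g * x * g⁻¹ * (g * y * g⁻¹)) ^ k = _
    rw [← hk, conj_mul, conj_zpow]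
  · rintro ⟨x, y⟩ ⟨x', y'⟩ - - h
    simpa using h
  · rintro ⟨x, y⟩ ⟨h1, h2, k, hk⟩
    refine ⟨(g⁻¹ * x * g⁻¹⁻¹, g⁻¹ * y * g⁻¹⁻¹), ⟨h1.trans (isConj_iff.mpr ⟨g⁻¹, rfl⟩),
      h2.trans (isConj_iff.mpr ⟨g⁻¹, rfl⟩), k, ?_⟩, by simp [mul_assoc]⟩
    change (g⁻¹ * x * g⁻¹⁻¹ * (g⁻¹ * y * g⁻¹⁻¹)) ^ k = _
    have hk' : (x * y) ^ k = g * u * g⁻¹ := hk
    rw [conj_mul, conj_zpow, hk']; group

theorem thompson_order_formula [Finite G] {z t : G} (hz : orderOf z = 2) (ht : orderOf t = 2)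
    (hzt : ¬ IsConj z t) (hcl : ∀ x : G, orderOf x = 2 → IsConj x z ∨ IsConj x t) :
    Nat.card G = (thompsonPairs z t z).ncard * Nat.card (centralizer ({t} : Set G)) +
      (thompsonPairs z t t).ncard * Nat.card (centralizer ({z} : Set G)) := by
  let P : Set (G × G) := H6.cl z ×ˢ H6.cl t
  have key : ∀ w : G, orderOf w = 2 →
      {p ∈ P | ∃ u ∈ H6.cl w, u ∈ zpowers (p.1 * p.2)}.ncard =
        (H6.cl w).ncard * (thompsonPairs z t w).ncard := by
    intro w hw
    rw [← H6.ncard_mul_eq_of_rel {p ∈ P | ∃ u ∈ H6.cl w, u ∈ zpowers (p.1 * p.2)} (H6.cl w)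
      (fun p u => u ∈ zpowers (p.1 * p.2)) (m := 1), mul_one]
    · rintro p ⟨-, u, hu, hu'⟩
      rw [Set.ncard_eq_one]
      refine ⟨u, Set.eq_singleton_iff_unique_mem.mpr ⟨⟨hu, hu'⟩, fun v hv => ?_⟩⟩
      have h1 := (H6.orderOf_eq_of_isConj hu).symm.trans hw
      have h2 := (H6.orderOf_eq_of_isConj hv.1).symm.trans hw
      exact H9.eq_of_isCyclic_of_mul_self inferInstance hv.2 hu' (H9.mul_self_of_orderOf_two h2)
        (H9.mul_self_of_orderOf_two h1) (H9.ne_one_of_orderOf_two h2) (H9.ne_one_of_orderOf_two h1)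
    · intro u hu
      obtain ⟨g, rfl⟩ := H6.mem_cl_iff.mp hu
      rw [← ncard_thompsonPairs_conj z t w g]
      congr 1
      ext p
      exact ⟨fun h => ⟨h.1.1.1, h.1.1.2, h.2⟩, fun h => ⟨⟨⟨h.1, h.2.1⟩, _, hu, h.2.2⟩, h.2.2⟩⟩
  have hP : P.ncard = (H6.cl z).ncard * (thompsonPairs z t z).ncard +
      (H6.cl t).ncard * (thompsonPairs z t t).ncard := by
    rw [← key z hz, ← key t ht, ← Set.ncard_union_eq]
    · congr 1
      ext p
      refine ⟨fun hp => ?_, fun hp => hp.elim And.left And.left⟩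
      have h1 := (H6.orderOf_eq_of_isConj hp.1).symm.trans hz
      have h2 := (H6.orderOf_eq_of_isConj hp.2).symm.trans ht
      obtain ⟨n, hn, -⟩ := H9.exists_central_involution_of_not_isConj
        (H9.mul_self_of_orderOf_two h1) (H9.mul_self_of_orderOf_two h2)
        (fun h => hzt ((hp.1.trans h).trans hp.2.symm))
      rcases hcl _ hn with h | h
      · exact Or.inl ⟨hp, _, h.symm, npow_mem_zpowers _ n⟩
      · exact Or.inr ⟨hp, _, h.symm, npow_mem_zpowers _ n⟩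
    · rw [Set.disjoint_left]
      rintro p ⟨-, u, hu, hu'⟩ ⟨-, v, hv, hv'⟩
      have h1 := (H6.orderOf_eq_of_isConj hu).symm.trans hz
      have h2 := (H6.orderOf_eq_of_isConj hv).symm.trans ht
      have := H9.eq_of_isCyclic_of_mul_self inferInstance hv' hu' (H9.mul_self_of_orderOf_two h2)
        (H9.mul_self_of_orderOf_two h1) (H9.ne_one_of_orderOf_two h2) (H9.ne_one_of_orderOf_two h1)
      subst this
      exact hzt (IsConj.trans hu (IsConj.symm hv))
  rw [Set.ncard_prod] at hP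
  have h1 := H6.ncard_cl_mul_card_centralizer z
  have h2 := H6.ncard_cl_mul_card_centralizer t
  have h3 : 0 < Nat.card G := Nat.card_pos
  apply Nat.eq_of_mul_eq_mul_left h3
  calc Nat.card G * Nat.card G = (H6.cl z).ncard * (H6.cl t).ncard *
        (Nat.card (centralizer ({z} : Set G)) * Nat.card (centralizer ({t} : Set G))) := by
        conv_lhs => enter [1]; rw [← h1]
        conv_lhs => enter [2]; rw [← h2]
        ring
    _ = ((H6.cl z).ncard * Nat.card (centralizer ({z} : Set G))) *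
          ((thompsonPairs z t z).ncard * Nat.card (centralizer ({t} : Set G))) +
        ((H6.cl t).ncard * Nat.card (centralizer ({t} : Set G))) *
          ((thompsonPairs z t t).ncard * Nat.card (centralizer ({z} : Set G))) := by
        rw [hP]; ring
    _ = _ := by rw [h1, h2]; ring

end Cfsg.Agent.H5
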