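import Cfsg.Agent.H5.AutRank
import Cfsg.Agent.H5.OrderFormula
import Cfsg.Agent.H9.Quat

/-!
# Extraspecial groups of order 32 with an automorphism of order 5
-/

set_option autoImplicit false

namespace Cfsg.Agent.H5

open Subgroup

variable {G : Type*} [Group G]

open Classical in
/-- The commutator form. -/
noncomputable def cform (a b : G) : ZMod 2 := if a * b = b * a then 0 else 1

open Classical in
/-- The squaring form. -/
noncomputable def qform (a : G) : ZMod 2 := if a * a = 1 then 0 else 1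

theorem cform_eq_zero {a b : G} : cform a b = 0 ↔ a * b = b * a := by
  unfold cform; split_ifs with h <;> simp [h]

theorem cform_eq_one {a b : G} : cform a b = 1 ↔ a * b ≠ b * a := by
  unfold cform; split_ifs with h <;> simp [h]

theorem qform_eq_zero {a : G} : qform a = 0 ↔ a * a = 1 := by
  unfold qform; split_ifs with h <;> simp [h]

theorem qform_eq_one {a : G} : qform a = 1 ↔ a * a ≠ 1 := by
  unfold qform; split_ifs with h <;> simp [h]

theorem cform_comm (a b : G) : cform a b = cform b a := by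
  classical
  unfold cform; exact if_congr eq_comm rfl rfl

theorem cform_self (a : G) : cform a a = 0 := cform_eq_zero.mpr rfl

theorem cform_conj (g a b : G) : cform (g * a * g⁻¹) (g * b * g⁻¹) = cform a b := by
  classical
  unfold cform
  exact if_congr (by simp only [conj_mul, mul_left_inj, mul_right_inj]) rfl rfl

theorem qform_conj (g a : G) : qform (g * a * g⁻¹) = qform a := by
  classical
  unfold qform
  exact if_congr (by simp only [conj_mul, conj_eq_one_iff]) rfl rfl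

theorem zmod_two_cases (a : ZMod 2) : a = 0 ∨ a = 1 := by revert a; decide

section

variable {Q : Subgroup G} {z : G}

theorem cform_mul (h : H9.C2 Q z) {w x y : G} (hw : w ∈ Q) (hx : x ∈ Q) (hy : y ∈ Q) :
    cform w (x * y) = cform w x + cform w y := by
  have := h.comm_mul_iff hw hx hy
  unfold cform
  split_ifs <;> first | tauto | decide

theorem mul_cform (h : H9.C2 Q z) {w x y : G} (hw : w ∈ Q) (hx : x ∈ Q) (hy : y ∈ Q) :
    cform (x * y) w = cform x w + cform y w := by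
  rw [cform_comm, cform_mul h hw hx hy, cform_comm w, cform_comm w]

theorem qform_mul [Finite G] (h : H9.ES Q z) {x y : G} (hx : x ∈ Q) (hy : y ∈ Q) :
    qform (x * y) = qform x + qform y + cform x y := by
  classical
  have hz := h.ne
  have hzz := h.sq
  have e : x * y * (x * y) = x * x * (y * y) * (if x * y = y * x then 1 else z) := by
    split_ifs with hc
    · calc x * y * (x * y) = x * (y * x) * y := by group
        _ = _ := by rw [← hc]; group
    · exact h.toC2.mul_sq_of_ne hx hy hc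
  unfold qform cform
  rw [e]
  rcases h.sq_eq hx with h1 | h1 <;> rcases h.sq_eq hy with h2 | h2 <;> rw [h1, h2] <;>
    split_ifs <;> simp_all <;> decide

theorem cform_z (h : H9.C2 Q z) {w : G} (hw : w ∈ Q) : cform w z = 0 :=
  cform_eq_zero.mpr (h.cz w hw)

theorem qform_z (h : H9.C2 Q z) : qform z = 0 := qform_eq_zero.mpr h.sq

variable [Finite G]

/-- An element of order `5` acting nontrivially on an extraspecial group of order `32`. -/
structure Five (Q : Subgroup G) (z f : G) : Prop where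
  es : H9.ES Q z
  card : Nat.card Q = 32
  ord : orderOf f = 5
  norm : f ∈ normalizer (Q : Set G)
  nc : f ∉ centralizer (Q : Set G)

namespace Five

variable {f : G}

theorem card_modEq (h : Five Q z f) {D : Subgroup G} (hf : f ∈ normalizer (D : Set G)) :
    Nat.card D ≡ Nat.card ↥(D ⊓ centralizer {f}) [MOD 5] := by
  haveI : Fact (Nat.Prime 5) := ⟨Nat.prime_five⟩
  have := card_modEq_card_inf_centralizer (q := 5) (A := zpowers f) (K := D)
    (H9.isPGroup_zpowers ⟨1, by rw [pow_one, ← h.ord, pow_orderOf_eq_one]⟩) (zpowers_le_of_mem hf)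
  rwa [H8.centralizer_zpowers] at this

theorem card_cases (h : Five Q z f) {D : Subgroup G} (hD : D ≤ Q) (h2 : Nat.card D % 5 = 2) :
    Nat.card D = 2 ∨ D = Q := by
  have h1 : Nat.card D ∣ 2 ^ 5 := by
    have := card_dvd_of_le hD
    rwa [h.card] at this
  obtain ⟨k, hk, e⟩ := (Nat.dvd_prime_pow Nat.prime_two).mp h1
  rw [e] at h2
  interval_cases k <;> simp at h2
  · exact Or.inl e
  · exact Or.inr (eq_of_le_of_card_le hD (by rw [e, h.card]; norm_num))

theorem fz (h : Five Q z f) : f * z = z * f := mul_inv_eq_iff_eq_mul.mp (h.es.conj_z h.norm)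

theorem card_inf (h : Five Q z f) : Nat.card ↥(Q ⊓ centralizer {f}) = 2 := by
  have h1 := h.card_modEq h.norm
  rw [h.card] at h1
  refine (h.card_cases inf_le_left h1.symm).resolve_right fun e => h.nc ?_
  rw [mem_centralizer_iff]
  intro y hy
  exact mem_centralizer_singleton_iff.mp (e.ge hy).2

theorem fixed (h : Five Q z f) {y : G} (hy : y ∈ Q) (hc : f * y * f⁻¹ = y) : y = 1 ∨ y = z :=
  H9.eq_one_or_eq_of_card_le_two h.card_inf.le
    ⟨h.es.mem, mem_centralizer_singleton_iff.mpr h.fz.symm⟩ h.es.ne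
    ⟨hy, mem_centralizer_singleton_iff.mpr (mul_inv_eq_iff_eq_mul.mp hc).symm⟩

theorem pow_five (h : Five Q z f) : f ^ 5 = 1 := h.ord ▸ pow_orderOf_eq_one f

theorem fixed' (h : Five Q z f) {y : G} (hy : y ∈ Q) (hc : f * y * f⁻¹ = y ∨ f * y * f⁻¹ = y * z) :
    y = 1 ∨ y = z := by
  refine h.fixed hy (hc.resolve_right fun e => h.es.ne ?_)
  have hz : f * z * f⁻¹ = z := h.es.conj_z h.norm
  have e2 : f ^ 2 * y * (f ^ 2)⁻¹ = y := by
    calc f ^ 2 * y * (f ^ 2)⁻¹ = f * (f * y * f⁻¹) * f⁻¹ := by simp only [sq]; group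
      _ = (f * y * f⁻¹) * (f * z * f⁻¹) := by conv_lhs => rw [e]
                                              group
      _ = y := by rw [e, hz, mul_assoc, h.es.sq, mul_one]
  have e3 : f = (f ^ 2) ^ 3 := by rw [← pow_mul, show 2 * 3 = 5 + 1 from rfl, pow_succ, h.pow_five, one_mul]
  have e4 : Commute f y := by
    rw [e3]; exact (show Commute (f ^ 2) y from mul_inv_eq_iff_eq_mul.mp e2).pow_left 3
  rw [e4.eq, mul_inv_cancel_right] at e
  simpa using e.symm

theorem pow (h : Five Q z f) {n : ℕ} (hn : ¬ 5 ∣ n) : Five Q z (f ^ n) := by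
  have hco : (orderOf f).Coprime n := h.ord ▸ (Nat.Prime.coprime_iff_not_dvd Nat.prime_five).mpr hn
  refine ⟨h.es, h.card, hco.orderOf_pow.trans h.ord, pow_mem h.norm n, fun hc => h.nc ?_⟩
  obtain ⟨m, hm⟩ := exists_pow_eq_self_of_coprime hco.symm
  rw [← hm]; exact pow_mem hc m

theorem irr (h : Five Q z f) {D : Subgroup G} (hD : D ≤ Q) (hz : z ∈ D)
    (hf : f ∈ normalizer (D : Set G)) {y : G} (hy : y ∈ D) (h1 : y ≠ 1) (h2 : y ≠ z) : D = Q := by
  have e1 := h.card_modEq hf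
  have e2 : D ⊓ centralizer {f} = Q ⊓ centralizer {f} := by
    refine le_antisymm (inf_le_inf_right _ hD) fun w hw => ⟨?_, hw.2⟩
    rcases h.fixed hw.1 (mul_inv_eq_iff_eq_mul.mpr (mem_centralizer_singleton_iff.mp hw.2).symm)
      with rfl | rfl
    exacts [one_mem _, hz]
  rw [e2, h.card_inf] at e1
  refine (h.card_cases hD e1).resolve_left fun e => ?_
  rcases H9.eq_one_or_eq_of_card_le_two e.le hz h.es.ne hy with h' | h'
  exacts [h1 h', h2 h']

/-- The orbit of `y` under `f` and multiplication by `z`. -/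
def orb (z f y : G) : Set G := {w | ∃ n : ℕ, w = f ^ n * y * (f ^ n)⁻¹ ∨ w = f ^ n * y * (f ^ n)⁻¹ * z}

theorem ten_le_ncard_orb (h : Five Q z f) {y : G} (hy : y ∈ Q) (h1 : y ≠ 1) (h2 : y ≠ z) :
    10 ≤ (orb z f y).ncard := by
  let φ : Fin 5 × Fin 2 → G := fun p => f ^ p.1.val * y * (f ^ p.1.val)⁻¹ * z ^ p.2.val
  have key : ∀ a b : Fin 5, ∀ c d : Fin 2, a < b → φ (a, c) ≠ φ (b, d) := by
    intro a b c d hab e
    obtain ⟨k, hk⟩ := Nat.exists_eq_add_of_lt hab
    have hk5 : ¬ 5 ∣ k + 1 := by have := b.2; omega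
    have hz : Commute (f ^ a.val) z := (show Commute f z from h.fz).pow_left _
    have e1 : f ^ (k + 1) * y * (f ^ (k + 1))⁻¹ = y * (z ^ c.val * (z ^ d.val)⁻¹) := by
      have e2 : f ^ a.val * y * (f ^ a.val)⁻¹ * z ^ c.val =
        f ^ b.val * y * (f ^ b.val)⁻¹ * z ^ d.val := e
      rw [hk, add_assoc, pow_add] at e2
      have hz' : Commute (f ^ a.val) (z ^ c.val * (z ^ d.val)⁻¹) :=
        (hz.pow_right _).mul_right (hz.pow_right _).inv_right
      calc f ^ (k + 1) * y * (f ^ (k + 1))⁻¹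
          = (f ^ a.val)⁻¹ * (f ^ a.val * f ^ (k + 1) * y * (f ^ a.val * f ^ (k + 1))⁻¹ * z ^ d.val)
            * (z ^ d.val)⁻¹ * f ^ a.val := by group
        _ = y * (f ^ a.val)⁻¹ * ((z ^ c.val * (z ^ d.val)⁻¹) * f ^ a.val) := by rw [← e2]; group
        _ = _ := by rw [← hz'.eq]; group
    have e3 : z ^ c.val * (z ^ d.val)⁻¹ = 1 ∨ z ^ c.val * (z ^ d.val)⁻¹ = z := by
      fin_cases c <;> fin_cases d <;> simp [h.es.toC2.inv, h.es.sq]
    rcases (h.pow hk5).fixed' hy (by rcases e3 with e3 | e3 <;> rw [e1, e3] <;> simp) with h' | h'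
    exacts [h1 h', h2 h']
  have hφ : Function.Injective φ := by
    rintro ⟨a, c⟩ ⟨b, d⟩ e
    rcases lt_trichotomy a b with hab | rfl | hab
    · exact absurd e (key a b c d hab)
    · have e2 : z ^ c.val = z ^ d.val := mul_left_cancel e
      have := h.es.ne
      fin_cases c <;> fin_cases d <;> simp_all
    · exact absurd e.symm (key b a d c hab)
  have := Set.ncard_le_ncard (s := Set.range φ) (t := orb z f y) (by
    rintro _ ⟨⟨a, c⟩, rfl⟩
    refine ⟨a.val, ?_⟩
    fin_cases c <;> simp [φ]) (Set.toFinite _)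
  rwa [Set.ncard_range_of_injective hφ, Nat.card_prod, Nat.card_fin, Nat.card_fin] at this

theorem conj_mem (h : Five Q z f) (n : ℕ) {y : G} (hy : y ∈ Q) : f ^ n * y * (f ^ n)⁻¹ ∈ Q :=
  H9.conj_mem_of_mem_normalizer (pow_mem h.norm n) hy

theorem orb_subset (h : Five Q z f) {y : G} (hy : y ∈ Q) {w : G} (hw : w ∈ orb z f y) :
    w ∈ Q ∧ qform w = qform y ∧ cform w (f * w * f⁻¹) = cform y (f * y * f⁻¹) ∧
      (y ≠ 1 → y ≠ z → w ≠ 1 ∧ w ≠ z) := by
  have hz : ∀ n : ℕ, f ^ n * z * (f ^ n)⁻¹ = z := fun n => h.es.conj_z (pow_mem h.norm n)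
  have hc : ∀ n : ℕ, f * (f ^ n * y * (f ^ n)⁻¹) * f⁻¹ = f ^ n * (f * y * f⁻¹) * (f ^ n)⁻¹ := by
    intro n; group
  have hn1 : ∀ n : ℕ, y ≠ 1 → f ^ n * y * (f ^ n)⁻¹ ≠ 1 := fun n h1 e => h1 (by simpa using e)
  have hn2 : ∀ n : ℕ, y ≠ z → f ^ n * y * (f ^ n)⁻¹ ≠ z := fun n h1 e => h1 (by
    rw [← hz n] at e; simpa using e)
  obtain ⟨n, rfl | rfl⟩ := hw
  · exact ⟨h.conj_mem n hy, qform_conj _ _, by rw [hc, cform_conj], fun h1 h2 => ⟨hn1 n h1, hn2 n h2⟩⟩
  · have hy' := h.conj_mem n hy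
    have hy'' := H9.conj_mem_of_mem_normalizer h.norm hy'
    refine ⟨mul_mem hy' h.es.mem, ?_, ?_, fun h1 h2 => ⟨fun e => hn2 n h2 ?_, fun e => hn1 n h1 ?_⟩⟩
    · rw [qform_mul h.es hy' h.es.mem, qform_z h.es.toC2, cform_z h.es.toC2 hy', qform_conj]; simp
    · have : f * (f ^ n * y * (f ^ n)⁻¹ * z) * f⁻¹ = f * (f ^ n * y * (f ^ n)⁻¹) * f⁻¹ * z := by
        rw [← conj_mul, h.es.conj_z h.norm]
      rw [this, cform_mul h.es.toC2 (mul_mem hy' h.es.mem) hy'' h.es.mem,
        cform_z h.es.toC2 (mul_mem hy' h.es.mem), mul_cform h.es.toC2 hy'' hy' h.es.mem,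
        cform_comm z, cform_z h.es.toC2 hy'', hc, cform_conj]; simp
    · rw [← h.es.toC2.inv]; exact eq_inv_of_mul_eq_one_left e
    · simpa using e

theorem cform_conj_eq_one (h : Five Q z f) {x : G} (hx : x ∈ Q) (h1 : x ≠ 1) (h2 : x ≠ z)
    (hxx : x * x = 1) : ∀ n : ℕ, ¬ 5 ∣ n → cform x (f ^ n * x * (f ^ n)⁻¹) = 1 := by
  obtain ⟨c, hc⟩ : ∃ c : ℕ → G, ∀ n, c n = f ^ n * x * (f ^ n)⁻¹ := ⟨_, fun _ => rfl⟩
  simp only [← hc]
  have hcQ : ∀ n, c n ∈ Q := fun n => hc n ▸ h.conj_mem n hx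
  have hc0 : c 0 = x := by simp [hc]
  have hadd : ∀ m n, f ^ m * c n * (f ^ m)⁻¹ = c (m + n) := by intro m n; simp only [hc]; group
  have hper : ∀ n, c (5 + n) = c n := by intro n; simp only [hc, pow_add, h.pow_five, one_mul]
  have hshift : ∀ m n, cform (c m) (c (m + n)) = cform x (c n) := by
    intro m n; rw [← hadd m n, ← cform_conj (f ^ m) x, hc m]
  have hq : ∀ n, qform (c n) = 0 := fun n => by
    rw [hc n]; exact (qform_conj _ _).trans (qform_eq_zero.mpr hxx)
  set α := cform x (c 1) with hαdef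
  set β := cform x (c 2) with hβdef
  have e3 : cform x (c 3) = β := by rw [cform_comm, ← hc0, ← hper 0]; exact hshift 3 2
  have e4 : cform x (c 4) = α := by rw [cform_comm, ← hc0, ← hper 0]; exact hshift 4 1
  have hw : qform (c 0 * c 1 * c 2 * c 3 * c 4) = 0 := by
    have hw1 : c 1 * c 2 * c 3 * c 4 ∈ Q := mul_mem (mul_mem (mul_mem (hcQ 1) (hcQ 2)) (hcQ 3)) (hcQ 4)
    have : f * (c 0 * c 1 * c 2 * c 3 * c 4) * f⁻¹ = c 1 * c 2 * c 3 * c 4 * c 0 := by
      conv_rhs => rw [← hper 0]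
      simp only [hc]; group
    rcases h.fixed' (y := c 0 * c 1 * c 2 * c 3 * c 4)
      (by simpa only [mul_assoc] using mul_mem (hcQ 0) hw1) (by
        rw [this]
        simpa only [mul_assoc] using h.es.comm _ hw1 _ (hcQ 0)) with e | e <;> rw [e]
    · exact qform_eq_zero.mpr (one_mul 1)
    · exact qform_z h.es.toC2
  have m2 := mul_mem (hcQ 0) (hcQ 1)
  have m3 := mul_mem m2 (hcQ 2)
  have m4 := mul_mem m3 (hcQ 3)
  simp only [qform_mul h.es m4 (hcQ 4), qform_mul h.es m3 (hcQ 3), qform_mul h.es m2 (hcQ 2),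
    qform_mul h.es (hcQ 0) (hcQ 1), mul_cform h.es.toC2 (hcQ _) m3 (hcQ 3),
    mul_cform h.es.toC2 (hcQ _) m2 (hcQ 2), mul_cform h.es.toC2 (hcQ _) (hcQ 0) (hcQ 1), hq,
    hshift 0 1, hshift 0 2, hshift 0 3, hshift 0 4, hshift 1 1, hshift 1 2, hshift 1 3,
    hshift 2 1, hshift 2 2, hshift 3 1] at hw
  have s01 := hshift 0 1
  have s02 := hshift 0 2
  have s03 := hshift 0 3
  have s04 := hshift 0 4
  have s12 := hshift 1 1
  have s13 := hshift 1 2
  have s14 := hshift 1 3
  have s23 := hshift 2 1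
  have s24 := hshift 2 2
  have s34 := hshift 3 1
  norm_num only at s01 s02 s03 s04 s12 s13 s14 s23 s24 s34
  have hαβ : α = β := by
    simp only [s01, s02, s03, s04, s12, s13, s14, s23, s24, s34, e3, e4, ← hαdef, ← hβdef] at hw
    revert hw
    generalize α = a; generalize β = b
    revert a b; decide
  have hall : ∀ n, ¬ 5 ∣ n → cform x (c n) = α := by
    intro n hn
    induction n using Nat.strong_induction_on with
    | _ n ih =>
      rcases n with _ | _ | _ | _ | _ | n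
      · simp at hn
      · rfl
      · exact hαβ.symm
      · exact e3.trans hαβ.symm
      · exact e4
      · rw [show n + 1 + 1 + 1 + 1 + 1 = 5 + n by ring, hper]
        exact ih n (by omega) (by omega)
  have hα : α = 1 := by
    refine (zmod_two_cases α).resolve_left fun h0 => ?_
    have hD := h.irr (D := Q ⊓ centralizer (Set.range c)) inf_le_left
      ⟨h.es.mem, by rintro _ ⟨n, rfl⟩; exact h.es.cz _ (hcQ n)⟩ (by
        apply mem_normalizer_of_conj_mem
        intro y hy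
        refine ⟨H9.conj_mem_of_mem_normalizer h.norm hy.1, ?_⟩
        rintro _ ⟨n, rfl⟩
        have e1 : c n = f * c (4 + n) * f⁻¹ := by
          rw [← hper n, show 5 + n = 1 + (4 + n) by ring, ← hadd 1, pow_one]
        rw [e1, conj_mul, conj_mul, hy.2 _ ⟨4 + n, rfl⟩]) (y := x) ⟨hx, by
        rintro _ ⟨n, rfl⟩
        by_cases hn : 5 ∣ n
        · obtain ⟨m, rfl⟩ := hn
          simp [hc, pow_mul, h.pow_five]
        · exact (cform_eq_zero.mp ((hall n hn).trans h0)).symm⟩ h1 h2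
    rcases h.es.center x hx (fun q hq => by
      have := (hD.ge hq).2 _ ⟨0, rfl⟩
      rw [hc0] at this; exact this.symm) with e | e
    exacts [h1 e, h2 e]
  exact fun n hn => (hall n hn).trans hα

end Five

/-- The noncentral involutions. -/
def invols (Q : Subgroup G) (z : G) : Set G := {x | x ∈ Q ∧ x * x = 1 ∧ x ≠ 1 ∧ x ≠ z}

theorem exists_mem_invols_of_comm (h : H9.ES Q z) {R : Subgroup G} (hR : R ≤ Q) (hz : z ∈ R)
    (hc : ∀ a ∈ R, ∀ b ∈ R, a * b = b * a) (h4 : 4 < Nat.card R) : ∃ x ∈ R, x ∈ invols Q z := by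
  obtain ⟨a, ha, ha1, ha2⟩ := H9.exists_ne_ne_of_two_lt_card (H := R) (by omega) z
  obtain ⟨b, hb, hb'⟩ : ∃ b ∈ R, b ∉ ({1, a, z, a * z} : Set G) := by
    by_contra hcon
    push Not at hcon
    have := (H9.card_le_of_subset (Set.toFinite _) hcon).trans (H9.ncard_le_four _ _ _ _)
    omega
  simp only [Set.mem_insert_iff, Set.mem_singleton_iff, not_or] at hb'
  by_cases h1 : a * a = 1
  · exact ⟨a, ha, hR ha, h1, ha1, ha2⟩
  by_cases h2 : b * b = 1
  · exact ⟨b, hb, hR hb, h2, hb'.1, hb'.2.2.1⟩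
  have h1' := (h.sq_eq (hR ha)).resolve_left h1
  have hainv : a⁻¹ = a * z := by
    rw [inv_eq_iff_mul_eq_one, ← mul_assoc, h1', h.sq]
  refine ⟨a * b, mul_mem ha hb, mul_mem (hR ha) (hR hb), ?_, fun e => ?_, fun e => ?_⟩
  · rw [← qform_eq_zero, qform_mul h (hR ha) (hR hb), qform_eq_one.mpr h1, qform_eq_one.mpr h2,
      cform_eq_zero.mpr (hc a ha b hb)]; decide
  · exact hb'.2.2.2 (by rw [← hainv]; exact eq_inv_of_mul_eq_one_right e)
  · apply hb'.2.1
    rw [← h1'] at e; exact mul_left_cancel e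

namespace Five

variable {f : G}

theorem invols_eq_orb (h : Five Q z f) {x : G} (hx : x ∈ invols Q z) :
    invols Q z = orb z f x ∧ (invols Q z).ncard = 10 := by
  obtain ⟨hxQ, hxx, h1, h2⟩ := hx
  have hc := h.cform_conj_eq_one hxQ h1 h2 hxx
  let c : ℕ → G := fun n => f ^ n * x * (f ^ n)⁻¹
  have hcQ : ∀ n, c n ∈ Q := fun n => h.conj_mem n hxQ
  have hshift : ∀ m n, ¬ 5 ∣ n → cform (c m) (c (m + n)) = 1 := by
    intro m n hn
    rw [← hc n hn, ← cform_conj (f ^ m) x]
    congr 1; simp only [c]; group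
  have hq : ∀ n, qform (c n) = 0 := fun n => (qform_conj _ _).trans (qform_eq_zero.mpr hxx)
  have hf : ∀ m n, f * (c m * c n) * f⁻¹ = c (m + 1) * c (n + 1) := by
    intro m n; simp only [c]; group
  have q1 : qform (c 0 * c 1) = 1 := by
    rw [qform_mul h.es (hcQ 0) (hcQ 1), hq, hq, hshift 0 1 (by norm_num)]; decide
  have q2 : qform (c 0 * c 2) = 1 := by
    rw [qform_mul h.es (hcQ 0) (hcQ 2), hq, hq, hshift 0 2 (by norm_num)]; decide
  have a1 : cform (c 0 * c 1) (f * (c 0 * c 1) * f⁻¹) = 1 := by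
    rw [hf, mul_cform h.es.toC2 (mul_mem (hcQ _) (hcQ _)) (hcQ _) (hcQ _),
      cform_mul h.es.toC2 (hcQ _) (hcQ _) (hcQ _), cform_mul h.es.toC2 (hcQ _) (hcQ _) (hcQ _),
      hshift 0 1 (by norm_num), hshift 0 2 (by norm_num), cform_self, hshift 1 1 (by norm_num)]
    decide
  have a2 : cform (c 0 * c 2) (f * (c 0 * c 2) * f⁻¹) = 0 := by
    rw [hf, mul_cform h.es.toC2 (mul_mem (hcQ _) (hcQ _)) (hcQ _) (hcQ _),
      cform_mul h.es.toC2 (hcQ _) (hcQ _) (hcQ _), cform_mul h.es.toC2 (hcQ _) (hcQ _) (hcQ _),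
      hshift 0 1 (by norm_num), hshift 0 3 (by norm_num), cform_comm (c 2) (c (0 + 1)),
      hshift 1 1 (by norm_num), hshift 2 1 (by norm_num)]
    decide
  have hne : ∀ y, qform y = 1 → y ≠ 1 ∧ y ≠ z := by
    intro y hy
    constructor <;> rintro rfl
    · exact qform_eq_one.mp hy (one_mul 1)
    · exact qform_eq_one.mp hy h.es.sq
  have m1 := mul_mem (hcQ 0) (hcQ 1)
  have m2 := mul_mem (hcQ 0) (hcQ 2)
  have b1 := h.ten_le_ncard_orb m1 (hne _ q1).1 (hne _ q1).2
  have b2 := h.ten_le_ncard_orb m2 (hne _ q2).1 (hne _ q2).2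
  have b0 := h.ten_le_ncard_orb hxQ h1 h2
  have hsub : orb z f x ⊆ invols Q z := fun w hw =>
    ⟨(h.orb_subset hxQ hw).1, qform_eq_zero.mp ((h.orb_subset hxQ hw).2.1.trans
      (qform_eq_zero.mpr hxx)), (h.orb_subset hxQ hw).2.2.2 h1 h2⟩
  have d1 : Disjoint (orb z f (c 0 * c 1)) (orb z f (c 0 * c 2)) := by
    rw [Set.disjoint_left]
    intro w hw hw'
    have := (h.orb_subset m1 hw).2.2.1.symm.trans (h.orb_subset m2 hw').2.2.1
    rw [a1, a2] at this; exact absurd this (by decide)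
  have hJ : ∀ w ∈ orb z f (c 0 * c 1) ∪ orb z f (c 0 * c 2), w ∈ Q ∧ w * w ≠ 1 := by
    rintro w (hw | hw)
    · exact ⟨(h.orb_subset m1 hw).1, qform_eq_one.mp ((h.orb_subset m1 hw).2.1.trans q1)⟩
    · exact ⟨(h.orb_subset m2 hw).1, qform_eq_one.mp ((h.orb_subset m2 hw).2.1.trans q2)⟩
  have d2 : Disjoint (invols Q z) (orb z f (c 0 * c 1) ∪ orb z f (c 0 * c 2)) := by
    rw [Set.disjoint_left]
    exact fun w hw hw' => (hJ w hw').2 hw.2.1
  have d3 : Disjoint ({1, z} : Set G) (invols Q z ∪ (orb z f (c 0 * c 1) ∪ orb z f (c 0 * c 2))) := by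
    rw [Set.disjoint_left]
    rintro w (rfl | rfl) (hw | hw)
    · exact hw.2.2.1 rfl
    · exact (hJ _ hw).2 (one_mul 1)
    · exact hw.2.2.2 rfl
    · exact (hJ _ hw).2 h.es.sq
  have hle := Set.ncard_le_ncard (s := {1, z} ∪ (invols Q z ∪
      (orb z f (c 0 * c 1) ∪ orb z f (c 0 * c 2)))) (t := (Q : Set G)) (by
    rintro w ((rfl | rfl) | hw | hw)
    exacts [one_mem _, h.es.mem, hw.1, (hJ w hw).1]) (Set.toFinite _)
  rw [Set.ncard_union_eq d3, Set.ncard_union_eq d2, Set.ncard_union_eq d1,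
    Set.ncard_pair h.es.ne.symm, H6.ncard_subgroup, h.card] at hle
  have b3 := Set.ncard_le_ncard hsub (Set.toFinite _)
  exact ⟨(Set.eq_of_subset_of_ncard_le hsub (by omega) (Set.toFinite _)).symm, by omega⟩

theorem eq_of_commute (h : Five Q z f) {x y : G} (hx : x ∈ invols Q z) (hy : y ∈ invols Q z)
    (hc : x * y = y * x) : y = x ∨ y = x * z := by
  rw [(h.invols_eq_orb hx).1] at hy
  obtain ⟨n, hn⟩ := hy
  by_cases h5 : 5 ∣ n
  · obtain ⟨m, rfl⟩ := h5
    simpa [pow_mul, h.pow_five] using hn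
  · exfalso
    have := h.cform_conj_eq_one hx.1 hx.2.2.1 hx.2.2.2 hx.2.1 n h5
    rw [← cform_eq_zero] at hc
    rcases hn with rfl | rfl
    · rw [hc] at this; exact absurd this (by decide)
    · rw [cform_mul h.es.toC2 hx.1 (h.conj_mem n hx.1) h.es.mem, cform_z h.es.toC2 hx.1, this] at hc
      exact absurd hc (by decide)

end Five

end

end Cfsg.Agent.H5
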