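import Cfsg.Agent.H1.F4
import Cfsg.Agent.H1.SLn

/-! The embedding of `GL(4,2)` into the alternating group of degree 8. -/

set_option autoImplicit false

namespace Cfsg.Agent.H5

open Matrix

/-- eight alternating `4 × 4` matrices over `𝔽₂` whose pairwise sums are permuted by `SL(4,2)` -/
def g42a : Fin 8 → Matrix (Fin 4) (Fin 4) (ZMod 2) :=
  ![!![0,0,0,0; 0,0,0,0; 0,0,0,0; 0,0,0,0],
    !![0,0,0,1; 0,0,1,0; 0,1,0,0; 1,0,0,0],
    !![0,0,1,0; 0,0,1,1; 1,1,0,0; 0,1,0,0],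
    !![0,0,1,1; 0,0,0,1; 1,0,0,1; 1,1,1,0],
    !![0,1,0,0; 1,0,1,1; 0,1,0,1; 0,1,1,0],
    !![0,1,0,1; 1,0,0,0; 0,0,0,1; 1,0,1,0],
    !![0,1,1,0; 1,0,1,0; 1,1,0,1; 0,0,1,0],
    !![0,1,1,1; 1,0,0,1; 1,0,0,0; 1,1,0,0]]

/-- the permutation attached to the transvection `1 + E i j` -/
def g42s : Fin 4 → Fin 4 → Fin 8 → Fin 8 :=
  ![![![0,1,2,3,4,5,6,7], ![5,6,4,7,2,0,1,3], ![7,2,1,5,6,3,4,0], ![1,0,7,4,3,6,5,2]],
    ![![4,5,6,7,0,1,2,3], ![0,1,2,3,4,5,6,7], ![1,0,7,6,5,4,3,2], ![2,7,0,5,6,3,4,1]],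
    ![![2,3,0,1,6,7,4,5], ![1,0,3,2,7,6,5,4], ![0,1,2,3,4,5,6,7], ![6,5,4,7,2,1,0,3]],
    ![![1,0,3,2,5,4,7,6], ![3,2,1,0,6,7,4,5], ![5,4,6,7,1,0,2,3], ![0,1,2,3,4,5,6,7]]]

theorem g42a_zero : g42a 0 = 0 := by decide +kernel

theorem g42s_invol : ∀ i j k, g42s i j (g42s i j k) = k := by decide +kernel

theorem g42_trans : ∀ i j : Fin 4, i ≠ j → ∀ k : Fin 8,
    (1 + single i j 1) * g42a k * (1 + single i j 1)ᵀ = g42a (g42s i j k) + g42a (g42s i j 0) := by
  decide +kernel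

theorem g42_sum : ∀ i j k l : Fin 8, g42a i + g42a j = g42a k + g42a l → i ≠ j →
    (i = k ∧ j = l) ∨ (i = l ∧ j = k) := by
  decide +kernel

/-- the relation between `g ∈ SL(4,2)` and the permutation it induces -/
def G42R (g : SpecialLinearGroup (Fin 4) (ZMod 2)) (σ : Equiv.Perm (Fin 8)) : Prop :=
  ∀ i j, g.1 * (g42a i + g42a j) * g.1ᵀ = g42a (σ i) + g42a (σ j)

theorem g42_add_self (A : Matrix (Fin 4) (Fin 4) (ZMod 2)) : A + A = 0 := by
  ext i j; simp only [Matrix.add_apply, Matrix.zero_apply]; exact CharTwo.add_self_eq_zero _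

theorem G42R.mul {g h : SpecialLinearGroup (Fin 4) (ZMod 2)} {σ τ : Equiv.Perm (Fin 8)}
    (h1 : G42R g σ) (h2 : G42R h τ) : G42R (g * h) (σ * τ) := by
  intro i j
  have := h1 (τ i) (τ j)
  rw [← h2 i j] at this
  change (g.1 * h.1) * _ * (g.1 * h.1)ᵀ = g42a (σ (τ i)) + g42a (σ (τ j))
  rw [← this]
  simp only [Matrix.mul_assoc, transpose_mul]

theorem G42R.one : G42R 1 1 := by
  intro i j; simp

theorem G42R.total (g : SpecialLinearGroup (Fin 4) (ZMod 2)) : ∃ σ, G42R g σ := by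
  refine H1.SLn.transvection_induction (fun g => ∃ σ, G42R g σ) ?_ ?_ g
  · intro i j h c
    have hc : c = 0 ∨ c = 1 := by revert c; decide
    rcases hc with rfl | rfl
    · refine ⟨1, ?_⟩
      have : SpecialLinearGroup.transvection h (0 : ZMod 2) = 1 := by
        apply Subtype.ext
        change (1 : Matrix (Fin 4) (Fin 4) (ZMod 2)) + single i j 0 = 1
        simp
      rw [this]; exact G42R.one
    · refine ⟨Function.Involutive.toPerm (g42s i j) (g42s_invol i j), fun k l => ?_⟩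
      change (1 + single i j 1) * (g42a k + g42a l) * (1 + single i j 1)ᵀ =
        g42a (g42s i j k) + g42a (g42s i j l)
      rw [Matrix.mul_add, Matrix.add_mul, g42_trans i j h k, g42_trans i j h l, add_add_add_comm,
        g42_add_self, add_zero]
  · rintro A B ⟨σ, hσ⟩ ⟨τ, hτ⟩
    exact ⟨σ * τ, hσ.mul hτ⟩

theorem G42R.uniq {g : SpecialLinearGroup (Fin 4) (ZMod 2)} {σ τ : Equiv.Perm (Fin 8)}
    (h1 : G42R g σ) (h2 : G42R g τ) : σ = τ := by
  ext1 i
  have key : ∀ j, j ≠ i → (σ i = τ i ∧ σ j = τ j) ∨ (σ i = τ j ∧ σ j = τ i) := fun j hj =>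
    g42_sum _ _ _ _ ((h1 i j).symm.trans (h2 i j)) (fun h => hj (σ.injective h).symm)
  obtain ⟨j, k, hj, hk, hjk⟩ : ∃ j k : Fin 8, j ≠ i ∧ k ≠ i ∧ j ≠ k := by
    clear key; revert i; decide
  rcases key j hj with h | h
  · exact h.1
  rcases key k hk with h' | h'
  · exact h'.1
  exact absurd (τ.injective (h.1.symm.trans h'.1)) hjk

theorem center_SL42 : Subgroup.center (SpecialLinearGroup (Fin 4) (ZMod 2)) = ⊥ := by
  rw [eq_bot_iff]
  intro A hA
  obtain ⟨r, hr, hA'⟩ := Matrix.SpecialLinearGroup.mem_center_iff.1 hA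
  have : r = 1 := by
    clear hA'; revert r; decide
  subst this
  rw [Subgroup.mem_bot]
  apply Subtype.ext
  rw [← hA']; simp

theorem isSimpleGroup_SL42 : IsSimpleGroup (SpecialLinearGroup (Fin 4) (ZMod 2)) := by
  have : Fact (Nat.Prime 2) := ⟨Nat.prime_two⟩
  have h : IsSimpleGroup (ProjectiveSpecialLinearGroup (Fin 4) (ZMod 2)) :=
    H1.SLn.isSimpleGroup_PSL (Or.inl (by simp))
  have e : (SpecialLinearGroup (Fin 4) (ZMod 2) ⧸
      Subgroup.center (SpecialLinearGroup (Fin 4) (ZMod 2))) ≃* SpecialLinearGroup (Fin 4) (ZMod 2) :=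
    (QuotientGroup.quotientMulEquivOfEq center_SL42).trans QuotientGroup.quotientBot
  exact @MulEquiv.isSimpleGroup _ _ _ _ h e.symm

/-- `SL(4,2)` embeds in `A₈`. -/
theorem exists_SL42_embedding :
    ∃ f : SpecialLinearGroup (Fin 4) (ZMod 2) →* alternatingGroup (Fin 8), Function.Injective f := by
  have : Fact (Nat.Prime 2) := ⟨Nat.prime_two⟩
  obtain ⟨f, hf⟩ := H1.exists_hom_of_rel G42R G42R.total (fun _ _ _ _ => G42R.mul)
    (fun _ _ _ => G42R.uniq)
  have hs := isSimpleGroup_SL42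
  have hinj : Function.Injective f := by
    rw [← MonoidHom.ker_eq_bot_iff]
    rcases hs.eq_bot_or_eq_top_of_normal f.ker inferInstance with h | h
    · exact h
    · exfalso
      have h01 : (1 : Fin 4) ≠ 0 := by decide
      have hR : G42R (SpecialLinearGroup.transvection h01 (1 : ZMod 2)) 1 := by
        rw [hf]; exact (h ▸ Subgroup.mem_top _ : _ ∈ f.ker)
      have h1 := hR 1 0
      have h2 := g42_trans 1 0 h01 1
      have h0 := g42a_zero
      change (1 + single 1 0 1) * (g42a 1 + g42a 0) * (1 + single 1 0 1)ᵀ = g42a 1 + g42a 0 at h1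
      rw [h0, add_zero, h2] at h1
      revert h1; decide +kernel
  have hp : Group.IsPerfect (SpecialLinearGroup (Fin 4) (ZMod 2)) :=
    H1.SLn.isPerfect_SL (Or.inl (by simp))
  have hmem : ∀ g, f g ∈ alternatingGroup (Fin 8) := by
    intro g
    have h1 : (Equiv.Perm.sign.comp f).ker = ⊤ := by
      rw [eq_top_iff, ← hp.commutator_eq_top]
      exact Abelianization.commutator_subset_ker _
    have : g ∈ (Equiv.Perm.sign.comp f).ker := h1 ▸ Subgroup.mem_top _
    exact this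
  refine ⟨f.codRestrict _ hmem, fun a b h => hinj ?_⟩
  exact congrArg Subtype.val h

/-- `GL(4,2)` embeds in `A₈`. -/
theorem exists_GL42_embedding :
    ∃ f : GL (Fin 4) (ZMod 2) →* alternatingGroup (Fin 8), Function.Injective f := by
  obtain ⟨f, hf⟩ := exists_SL42_embedding
  have hdet : ∀ g : GL (Fin 4) (ZMod 2), (g : Matrix (Fin 4) (Fin 4) (ZMod 2)).det = 1 := by
    intro g
    have h : IsUnit (g : Matrix (Fin 4) (Fin 4) (ZMod 2)).det := (GeneralLinearGroup.det g).isUnit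
    generalize (g : Matrix (Fin 4) (Fin 4) (ZMod 2)).det = d at h
    have hd : d = 0 ∨ d = 1 := by revert d; decide
    rcases hd with rfl | rfl
    · exact absurd h not_isUnit_zero
    · rfl
  let φ : GL (Fin 4) (ZMod 2) →* SpecialLinearGroup (Fin 4) (ZMod 2) :=
    MonoidHom.mk' (fun g => ⟨g, hdet g⟩) (fun a b => Subtype.ext rfl)
  refine ⟨f.comp φ, hf.comp fun a b h => ?_⟩
  exact Units.ext (congrArg Subtype.val h)

end Cfsg.Agent.H5
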