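import Cfsg.Agent.H5.GWc3
import Cfsg.Agent.H6.O168
import Cfsg.Agent.H6.ZLine
import Cfsg.Agent.H1.SLn
import Cfsg.Agent.H5.A5Facts

/-! Dihedral Sylow subgroups; overgroups of involution centralizers in `L₂(q)`. -/

set_option autoImplicit false

namespace Cfsg.Agent.H5

open Subgroup GW H7 H9
open scoped MatrixGroups

variable {G : Type*} [Group G]

theorem ds_dihedral (m : ℕ) : DS (DihedralGroup m) := fun P _ => by
  obtain ⟨ρ, hρ⟩ := (isCyclic_of_le (inf_le_right : P ⊓ zpowers (.r 1) ≤ _)).exists_generator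
  have h1 : ∀ i, DihedralGroup.r i ∈ P → DihedralGroup.r i ∈ zpowers ρ.1 := fun i hi => by
    obtain ⟨j, rfl⟩ := ZMod.intCast_surjective i
    obtain ⟨k, hk⟩ := hρ ⟨_, hi, j, DihedralGroup.r_one_zpow j⟩
    exact ⟨k, congrArg Subtype.val hk⟩
  refine ⟨ρ, ρ.2.1, ?_, ?_⟩
  · rintro (i | i) hx hx'
    exacts [absurd (h1 i hx) hx', DihedralGroup.sr_mul_self i]
  · rintro (i | i) hx (j | j) hy hx' hy'
    exacts [absurd (h1 i hx) hx', absurd (h1 i hx) hx', absurd (h1 j hy) hy',
      h1 _ (mul_mem hx hy)]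

theorem ds_of_sylow [Finite G] (S : Sylow 2 G) (h : DS S) : DS G := fun P hP => by
  obtain ⟨T, hT⟩ := hP.exists_le_sylow
  obtain ⟨ρ, hρ, h1, h2⟩ := h.of_injective (T.equiv S).toMonoidHom (T.equiv S).injective
    (P.subgroupOf T) hP.comap_subtype
  have k : ∀ {x : T}, x ∈ zpowers ρ → x.1 ∈ zpowers ρ.1 := fun ⟨i, hi⟩ => ⟨i, congrArg Subtype.val hi⟩
  exact ⟨ρ, hρ, fun x hx hx' => congrArg Subtype.val (h1 ⟨x, hT hx⟩ hx fun e => hx' (k e)),
    fun x hx y hy hx' hy' => k (h2 ⟨x, hT hx⟩ hx ⟨y, hT hy⟩ hy (fun e => hx' (k e)) fun e => hy' (k e))⟩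

theorem bsw_map {G' : Type*} [Group G'] {t s : G} {K : Subgroup G} (h : BSW t s K) (e : G ≃* G') :
    BSW (e t) (e s) (K.map e) where
  ht := by rw [e.orderOf_eq, h.ht]
  comm := by
    rintro _ ⟨a, ha, rfl⟩ _ ⟨b, hb, rfl⟩
    rw [← map_mul, h.comm a ha b hb, map_mul]
  tK := mem_map_of_mem _ h.tK
  hs := by rw [← map_mul, h.hs, map_one]
  sK := by simpa using h.sK
  cent c hc := by
    obtain ⟨c, rfl⟩ := e.surjective c
    rw [← map_mul, ← map_mul, e.apply_eq_iff_eq] at hc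
    rw [← map_mul]
    exact (h.cent c hc).imp (mem_map_of_mem _) (mem_map_of_mem _)
  inv := by
    rintro _ ⟨a, ha, rfl⟩
    simpa using congrArg e (h.inv a ha)
  uniq := by
    rintro _ ⟨a, ha, rfl⟩ h1
    simpa using h.uniq a ha (e.injective (by simpa using h1))
  ti := by
    rintro g _ ⟨a, ha, rfl⟩ h1 ⟨b, hb, h2⟩
    obtain ⟨g, rfl⟩ := e.surjective g
    simpa using congrArg e (h.ti g a ha (by simpa using h1) (by
      rwa [← show b = g * a * g⁻¹ from e.injective (by simpa using h2)]))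
  fus u hu := by
    obtain ⟨u, rfl⟩ := e.surjective u
    exact e.toMonoidHom.map_isConj (h.fus u (by rwa [e.orderOf_eq] at hu))

theorem exists_bsw {t s v : G} {K : Subgroup G} (h : BSW t s K) (hv : orderOf v = 2) :
    ∃ s' K', BSW v s' K' ∧ Nat.card K' = Nat.card K := by
  obtain ⟨c, rfl⟩ := isConj_iff.1 (h.fus v hv)
  exact ⟨_, _, bsw_map h (MulAut.conj c), card_map_of_injective (MulAut.conj c).injective⟩

theorem bsw_refl {t s : G} {K : Subgroup G} (h : BSW t s K) : Refl t s :=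
  ⟨orderOf_two_of (fun e => h.sK (e ▸ one_mem _)) h.hs, h.st, fun e => h.sK (e ▸ h.tK)⟩

theorem bsw_centralizer_four {t s w : G} {K : Subgroup G} (h : BSW t s K) (hw : Refl t w) :
    centralizer (four t w : Set G) ≤ four t w := fun c hc => by
  obtain ⟨h1, h2⟩ := mem_centralizer_four.1 hc
  have hwK : w * s ∈ K := (h.cent w hw.2.1).resolve_left fun e =>
    (h.uniq w e hw.sq).elim (ne_one_of_orderOf_two hw.1) hw.2.2
  have k : ∀ x ∈ K, x * w = w * x → x ∈ four t w := fun x hx hxw => by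
    have := h.conj_of_mul_mem hwK hx
    rw [← hxw, mul_inv_cancel_right, eq_inv_iff_mul_eq_one] at this
    rcases h.uniq x hx this with rfl | rfl
    exacts [one_mem _, left_mem_four _ _]
  rcases h.cent c h1 with h3 | h3
  · exact k c h3 h2
  · refine (mul_mem_cancel_right (right_mem_four t w)).1 (k _ ?_ (by rw [h2, mul_assoc, h2]))
    have := mul_mem h3 (inv_mem hwK)
    rwa [mul_inv_rev, h.sinv, mul_assoc, ← mul_assoc s, h.hs, one_mul,
      inv_eq_of_mul_eq_one_left hw.sq] at this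

variable [Finite G]

theorem not_le_Cz_of_fus {t v : G} (hf : Fus t) (hv : orderOf v = 2) {M : Subgroup G}
    (hlt : Cz t < M) : ¬ M ≤ Cz v := fun h =>
  (index_strictAnti (hlt.trans_le h)).ne (index_Cz_eq (hf v hv)).symm

theorem bsw_odd_eq_bot {t s : G} {K M A : Subgroup G} (h : BSW t s K) (hlt : Cz t < M)
    (hn : M ≤ normalizer (A : Set G)) (hA : Group.IsNilpotent A) (ho : ¬ 2 ∣ Nat.card A) : A = ⊥ := by
  by_contra h0
  haveI := (nontrivial_iff_ne_bot A).2 h0
  obtain ⟨y, hy, hy1⟩ := (nontrivial_iff_exists_ne_one _).1 (Group.IsNilpotent.center_ne_bot A |>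
    (nontrivial_iff_ne_bot _).2)
  have hs := bsw_refl h
  have key : ∀ v, orderOf v = 2 → ∀ x ∈ A, x * v = v * x → x = 1 := fun v hv x hx hxv => by
    by_contra hx1
    obtain ⟨s', K', h', -⟩ := exists_bsw h hv
    have k1 : ∀ a ∈ A, a * v = v * a → a ∈ K' := fun a ha hav => (h'.cent a hav).resolve_right
      fun e => not_dvd_orderOf_of_mem ho ha (h'.orderOf_of_mul_mem e ▸ dvd_rfl)
    have k2 : ∀ a ∈ A, a * x = x * a → a ∈ K' := fun a ha hax => k1 a ha
      (h'.ti a x (k1 x hx hxv) hx1 (by rw [hax, mul_inv_cancel_right]; exact k1 x hx hxv))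
    have k3 : ∀ a ∈ A, y * a = a * y := fun a ha =>
      (congrArg Subtype.val (mem_center_iff.1 hy ⟨a, ha⟩)).symm
    refine not_le_Cz_of_fus h.fus hv hlt fun g hg => mem_Cz.2 (h'.ti g y (k2 _ y.2 (k3 x hx))
      (fun e => hy1 (Subtype.ext e)) (k2 _ ((hn hg _).1 y.2) ?_))
    have := k3 (g⁻¹ * x * g) (by simpa using (hn (inv_mem hg) x).1 hx)
    calc _ = g * (y * (g⁻¹ * x * g)) * g⁻¹ := by group
      _ = _ := by rw [this]; group
  have e1 := inverts_of_fpf (hn (hlt.le (mem_Cz.2 rfl))) h.tt (key t h.ht) (inv_mem y.2)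
  have e2 := inverts_of_fpf (hn (hlt.le (mem_Cz.2 h.st))) h.hs (key s hs.1) y.2
  refine hy1 (Subtype.ext (key _ (hs.mul h.ht).1 y y.2 ?_))
  calc y * (t * s) = t * y.1⁻¹ * t⁻¹ * (t * s) := by rw [e1, inv_inv]
    _ = t * (s * y * s⁻¹) * t⁻¹ * (t * s) := by rw [e2]
    _ = _ := by group

theorem bsw_card_of_op {t s : G} {K M : Subgroup G} (hd : DS G) (h : BSW t s K) (hlt : Cz t < M)
    (h0 : op 2 M ≠ ⊥) : Nat.card K = 2 ∨ Nat.card K = 4 := by
  rcases hd.four_or_char (op_isPGroup (p := 2) M) h0 with ⟨a, b, ha, hb, hP⟩ | ⟨z, -, hz, hn⟩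
  · have hc : op 2 M = four a b := by
      ext x
      rw [hP, mem_four ha hb]
    obtain ⟨s', K', h', -⟩ := exists_bsw h ha
    have h1 : M ≤ normalizer (four a b : Set G) := hc ▸ le_normalizer_op M
    have h2 := H6.card_mulAut_dvd_factorial (four a b)
    have h3 := card_dvd_of_injective _ (QuotientGroup.kerLift_injective (four a b).normalizerMonoidHom)
    have h4 := (four a b).normalizerMonoidHom.ker.card_mul_index
    have h5 : Nat.card (four a b).normalizerMonoidHom.ker ∣ 4 := by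
      rw [normalizerMonoidHom_ker, ← card_four ha hb, ← card_map_of_injective (subtype_injective _),
        subgroupOf_map_subtype]
      exact card_dvd_of_le (inf_le_left.trans (bsw_centralizer_four h' hb))
    rw [card_four ha hb] at h2
    have h6 : Nat.card M ∣ 4 * 6 := (card_dvd_of_le h1).trans (h4 ▸ mul_dvd_mul h5 (h3.trans h2))
    have h7 := ((Cz t).subgroupOf M).card_mul_index
    rw [Nat.card_congr (subgroupOfEquivOfLe hlt.le).toEquiv, h.card_cent] at h7
    have h8 : ¬ 2 ∣ ((Cz t).subgroupOf M).index := fun e =>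
      h.odd_index (e.trans (relIndex_dvd_index_of_le hlt.le))
    have h9 : ((Cz t).subgroupOf M).index ≠ 1 := fun e => hlt.not_ge (relIndex_eq_one.1 e)
    obtain ⟨k, hk⟩ := h.two_dvd
    rw [← h7, hk, ← mul_assoc, mul_assoc] at h6
    replace h6 := Nat.dvd_of_mul_dvd_mul_left (by norm_num : 0 < 4) h6
    generalize ((Cz t).subgroupOf M).index = j at *
    have := Nat.le_of_dvd (by norm_num) (Dvd.dvd.trans (Dvd.intro _ rfl) h6)
    have := Nat.le_of_dvd (by norm_num) (Dvd.dvd.trans (Dvd.intro_left _ rfl) h6)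
    interval_cases k <;> interval_cases j <;> omega
  · exact absurd ((le_normalizer_op M).trans hn) (not_le_Cz_of_fus h.fus hz hlt)

theorem card_PSL3_two : Nat.card PSL(3, ZMod 2) = 168 := by
  have h1 : center SL(3, ZMod 2) = ⊥ := eq_bot_iff.2 fun A hA => by
    obtain ⟨r, hr, hr'⟩ := Matrix.SpecialLinearGroup.mem_center_iff.mp hA
    obtain rfl : r = 1 := by clear hr'; revert r; decide
    exact Subtype.ext (by simpa using hr'.symm)
  have h2 : Function.Bijective (Matrix.SpecialLinearGroup.toGL : SL(3, ZMod 2) →* _) :=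
    ⟨Matrix.SpecialLinearGroup.toGL_injective, fun g => ⟨⟨g, by
      have : ∀ u : (ZMod 2)ˣ, u.1 = 1 := by decide
      simpa using this (Matrix.GeneralLinearGroup.det g)⟩, Units.ext rfl⟩⟩
  rw [← index_eq_card, h1, index_bot, Nat.card_eq_of_bijective _ h2, Matrix.card_GL_field,
    Fin.prod_univ_three, ZMod.card]
  rfl

theorem equiv_PSL3_of_card [IsSimpleGroup G] (h : Nat.card G = 168) :
    Nonempty (G ≃* PSL(3, ZMod 2)) := by
  haveI := H1.SLn.isSimpleGroup_PSL (ι := Fin 3) (F := ZMod 2) (Or.inl (by simp))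
  obtain ⟨e⟩ := H6.psl_of_card_sylow (p := 7) (ZMod.card 7) (H6.O168.na h) (H6.O168.n7 h) (by rw [h])
  obtain ⟨e'⟩ := H6.psl_of_card_sylow (p := 7) (ZMod.card 7) (H6.O168.na card_PSL3_two)
    (H6.O168.n7 card_PSL3_two) (by rw [card_PSL3_two])
  exact ⟨e.trans e'.symm⟩

theorem equiv_PSL_five_of_card [IsSimpleGroup G] (h : Nat.card G = 60) {F : Type*} [Field F]
    [Fintype F] (hF : Fintype.card F = 5) : Nonempty (G ≃* PSL(2, F)) := by
  haveI := Fact.mk Nat.prime_five
  have hc : ¬ IsMulCommutative G := H6.not_isMulCommutative_of_card (by rw [h]; norm_num)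
  have h2 := card_sylow_modEq_one 5 G
  have h3 := H6.card_sylow_ne_one (p := 5) hc (by rw [h]; norm_num)
  have h4 := H6.card_sylow_dvd_of (p := 5) (k := 1) (m := 12) h (by norm_num)
  refine H6.psl_of_card_sylow hF hc ?_ (by rw [h])
  have := Nat.le_of_dvd (by norm_num) h4
  unfold Nat.ModEq at h2
  generalize Nat.card (Sylow 5 G) = n at *
  interval_cases n <;> omega

theorem equiv_A5_of_card [IsSimpleGroup G] (h : Nat.card G = 60) :
    Nonempty (G ≃* alternatingGroup (Fin 5)) := by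
  haveI := Fact.mk Nat.prime_five
  haveI : IsSimpleGroup (alternatingGroup (Fin 5)) := alternatingGroup.isSimpleGroup (by simp)
  obtain ⟨e⟩ := equiv_PSL_five_of_card h (ZMod.card 5)
  obtain ⟨e'⟩ := equiv_PSL_five_of_card a5_card (ZMod.card 5)
  exact ⟨e.trans e'.symm⟩

theorem card_of_psl {F : Type*} [Field F] [Fintype F] (hodd : Odd (Fintype.card F))
    (e : G ≃* PSL(2, F)) : 2 * Nat.card G = Fintype.card F * (Fintype.card F ^ 2 - 1) := by
  rw [← card_SL2, (dc_SL (two_ne_zero_of_odd_card hodd)).card, Nat.card_congr e.toEquiv]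

end Cfsg.Agent.H5
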