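import Cfsg.Agent.H5.GWc6
import Cfsg.Agent.S3224

/-! Self-centralizing generalized dihedral subgroups: the case of `2`-rank one. -/

set_option autoImplicit false

namespace Cfsg.Agent.H5

open Subgroup GW H7 H9 H8
open scoped MatrixGroups

variable {G : Type*} [Group G]

theorem cdw_map {Q : Type*} [Group Q] {P : Subgroup G} {ρ : G} (f : G →* Q) (hρ : ρ ∈ P)
    (h1 : ∀ x ∈ P, x ∉ zpowers ρ → f (x * x) = 1)
    (h2 : ∀ x ∈ P, ∀ y ∈ P, x ∉ zpowers ρ → y ∉ zpowers ρ → x * y ∈ zpowers ρ) :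
    CDW (P.map f) (f ρ) := by
  have k : ∀ {x}, x ∈ zpowers ρ → f x ∈ zpowers (f ρ) := fun hx =>
    MonoidHom.map_zpowers f ρ ▸ mem_map_of_mem f hx
  refine ⟨mem_map_of_mem f hρ, ?_, ?_⟩
  · rintro _ ⟨x, hx, rfl⟩ hx'
    rw [← map_mul, h1 x hx fun e => hx' (k e)]
  · rintro _ ⟨x, hx, rfl⟩ _ ⟨y, hy, rfl⟩ hx' hy'
    rw [← map_mul]
    exact k (h2 x hx y hy (fun e => hx' (k e)) fun e => hy' (k e))

theorem cd_of_le {S P : Subgroup G} {ρ : G} (h : CDW S ρ) (hP : P ≤ S) : CD P := by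
  obtain ⟨r, hr⟩ := (isCyclic_of_le (inf_le_right : P ⊓ zpowers ρ ≤ _)).exists_generator
  have h1 : ∀ x ∈ P, x ∈ zpowers ρ → x ∈ zpowers r.1 := fun x hx hx' => by
    obtain ⟨k, hk⟩ := hr ⟨x, hx, hx'⟩
    exact ⟨k, congrArg Subtype.val hk⟩
  exact ⟨r, r.2.1, fun x hx hx' => h.sq x (hP hx) fun e => hx' (h1 x hx e),
    fun x hx y hy hx' hy' => h1 _ (mul_mem hx hy)
      (h.mul x (hP hx) y (hP hy) (fun e => hx' (h1 x hx e)) fun e => hy' (h1 y hy e))⟩

variable [Finite G]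

theorem ds_of_cdw {S : Subgroup G} {ρ : G} (hS : IsSylowIn 2 S ⊤) (h : CDW S ρ) : DS G := fun P hP => by
  obtain ⟨T, hT, hle⟩ := exists_isSylowIn_ge hP (le_top (a := P))
  obtain ⟨k, -, rfl⟩ := hS.exists_cj_eq hT
  exact cd_of_le (cdw_map (MulAut.conj k).toMonoidHom h.mem
    (fun x hx hx' => by rw [h.sq x hx hx', map_one]) h.mul) hle

theorem layer_le_of_index_two {K : Subgroup G} (hK : K.index = 2) (N : Subgroup G) :
    layerOf N ≤ K := by
  rw [← layerOf_perfect N, commutator_le]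
  intro x _ y _
  rw [commutatorElement_def]
  simp only [mul_mem_iff_of_index_two hK, inv_mem_iff]
  tauto

theorem exists_generator_of_comm {P : Subgroup G} (hP : IsPGroup 2 P)
    (hc : ∀ a ∈ P, ∀ b ∈ P, a * b = b * a)
    (h : ∀ x ∈ P, ∀ y ∈ P, orderOf x = 2 → orderOf y = 2 → x = y) : ∃ ρ, zpowers ρ = P := by
  by_cases h1 : IsCyclic P
  · obtain ⟨g, hg⟩ := h1.exists_generator
    exact ⟨g, le_antisymm (zpowers_le.2 g.2) fun x hx => by
      obtain ⟨k, hk⟩ := hg ⟨x, hx⟩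
      exact ⟨k, congrArg Subtype.val hk⟩⟩
  obtain ⟨m, a, b, ha, hb, hao, -, -, hab, -⟩ := exists_quaternion_gens hP h1 h
  rw [hc b hb a ha, mul_inv_cancel_right, eq_inv_iff_mul_eq_one, ← pow_two,
    ← orderOf_dvd_iff_pow_eq_one, hao] at hab
  have := Nat.le_of_dvd two_pos hab
  rw [pow_succ, pow_succ] at this
  have := Nat.one_le_two_pow (n := m)
  omega

theorem DG.rank_one {H A : Subgroup G} (h : DG H A) (h0 : pPrimeCore 2 G = ⊥)
    (hns : ¬ Group.IsSolvable G) {j x : G} (hj : j ∈ A) (j2 : orderOf j = 2)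
    (hu : ∀ y ∈ A, orderOf y = 2 → y = j) (hx : x ∈ H) (hx' : x ∉ A) :
    ∃ (C : Subgroup G) (_ : C.Normal), Nat.card C ∣ 2 ∧
      ∃ (F : Type) (_ : Field F) (_ : Fintype F), 3 < Fintype.card F ∧
        (Nonempty (G ⧸ C ≃* PSL(2, F)) ∨ Nonempty (G ⧸ C ≃* PGL(2, F))) := by
  have hH := h.cent j hj j2
  have hr : Refl j x := ⟨h.ord hx hx', mem_Cz.1 (hH ▸ hx), fun e => hx' (e ▸ hj)⟩
  obtain ⟨S, hS, hle⟩ := exists_isSylowIn_ge (isPGroup_four j2 hr) (four_le.2 ⟨h.le hj, hx⟩)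
  obtain ⟨ρ, hρ⟩ := exists_generator_of_comm (hS.pgroup.to_inf_left (K := A))
    (fun a ha b hb => h.comm a ha.2 b hb.2) fun a ha b hb a2 b2 => (hu a ha.2 a2).trans (hu b hb.2 b2).symm
  have hρ' : ρ ∈ S ⊓ A := hρ ▸ mem_zpowers ρ
  have hcd : CDW S ρ := ⟨hρ'.1, fun y hy hy' => h.sq y (hS.le hy) fun e => hy' (hρ ▸ ⟨hy, e⟩),
    fun y hy z hz hy' hz' => hρ ▸ ⟨mul_mem hy hz, h.mul y (hS.le hy) z (hS.le hz)
      (fun e => hy' (hρ ▸ ⟨hy, e⟩)) fun e => hz' (hρ ▸ ⟨hz, e⟩)⟩⟩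
  have hjρ : j ∈ zpowers ρ := hρ ▸ ⟨hle (left_mem_four j x), hj⟩
  have h4' : ρ * ρ = 1 → S = four j x := fun e => le_antisymm (fun y hy => (mem_four j2 hr).2
    (hcd.four (hle (right_mem_four j x)) (fun e => hx' (hρ ▸ e : x ∈ S ⊓ A).2) hjρ j2
      (by rw [← mul_inv_eq_iff_eq_mul, h.inv hx hx' hρ'.2, inv_eq_of_mul_eq_one_left e]) hy)) hle
  have h4 : ρ * ρ = 1 → Nat.card S = 4 := fun e => by rw [h4' e, card_four j2 hr]
  by_cases hd : DS G
  · obtain ⟨F, i1, i2, h1, h2⟩ := pgl_of_ds hd hns h0 j2 (fun I hI y hy => by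
      rw [hH] at hy
      by_cases hy' : y ∈ A
      · exact (mul_mem_cancel_right (hI x hr.1)).1
          (hI _ (h.ord (mul_mem hy hx) (by rwa [mul_mem_cancel_left hy'])))
      · exact hI y (h.ord hy hy')) fun hA h8 => by
      obtain ⟨hE, -⟩ := layer_of_ds hd hns h0
      obtain ⟨w, hw, h1⟩ := hA.four j trivial j2
      rw [top_inf_eq, hH] at h1
      have h2 := h4 (four_sq j2 hw ((mem_four j2 hw).2 ((h1 ρ).1 (L0.le_map_pCore
        (zpowers_le.2 (h.le hρ'.2)) (h.norm (zpowers_le.2 hρ'.2))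
        (hρ ▸ hS.pgroup.to_inf_left) (mem_zpowers ρ)))))
      have h3 := Fus.odd_index (fun u hu => isConj_iff.2 ((layer_fus hd hE j2 hu
        (hA.inner j trivial j2) (hA.inner u trivial hu)).imp fun _ e => e.2)) j2
      rw [← S.card_mul_index, h2, ← relIndex_mul_index hS.le, ← hH] at h8
      exact Nat.prime_two.not_dvd_mul (hH ▸ hS.not_dvd_relIndex) h3
        (Nat.dvd_of_mul_dvd_mul_left (by norm_num : 0 < 4) h8)
    exact ⟨⊥, inferInstance, by simp, F, i1, i2, h1, h2.imp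
      (fun ⟨e⟩ => ⟨QuotientGroup.quotientBot.trans e⟩) fun ⟨e⟩ => ⟨QuotientGroup.quotientBot.trans e⟩⟩
  have hρ2 : ρ * ρ = 1 := not_not.1 fun e => hd (ds_of_cdw (IsSylowIn.of_normalizer le_top
    (hS.of_le (le_inf le_top le_normalizer) fun g hg => hH ▸ mem_Cz.2 (mul_inv_eq_iff_eq_mul.1
      (eq_of_mem_zpowers ((hcd.normalizer_le e hg.2 j).1 hjρ) hjρ (by rw [H9.orderOf_conj, j2]) j2))))
    hcd)
  obtain ⟨T, hT, hST⟩ := exists_isSylowIn_ge hS.pgroup (le_top (a := S))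
  have hTS : T ≠ S := fun e => hd (ds_of_cdw (e ▸ hT) hcd)
  have hTH : T ⊓ H = S := hS.max _ inf_le_right hT.pgroup.to_inf_left (le_inf hST hS.le)
  have hjT := hST (hle (left_mem_four j x))
  obtain ⟨⟨a, haT⟩, h1, h2⟩ := S3224.aux _ T rfl hT.pgroup ⟨j, hjT⟩ (two_sub j2)
    (by rw [← card_map_sub, map_Cz, hH, hTH, h4 hρ2]) (not_isCyclic_of_four_le j2 hr (hle.trans hST))
  have k : ∀ {y : T}, y ∈ zpowers (⟨a, haT⟩ : T) ↔ y.1 ∈ zpowers a := fun {y} =>
    ⟨fun ⟨i, hi⟩ => ⟨i, congrArg Subtype.val hi⟩, fun ⟨i, hi⟩ => ⟨i, Subtype.ext hi⟩⟩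
  have h3 : ∀ y ∈ T, ∀ w ∈ T, (y * w ∈ zpowers a ↔ (y ∈ zpowers a ↔ w ∈ zpowers a)) :=
    fun y hy w hw => by simpa only [k, coe_mul] using mul_mem_iff_of_index_two h1 (a := ⟨y, hy⟩) (b := ⟨w, hw⟩)
  replace h2 : j ∉ zpowers a := k.not.1 h2
  have hn : T ≤ normalizer (zpowers a : Set G) := fun g hg => H9.mem_normalizer_of_conj_mem
    fun y hy => by
      rw [h3 _ (mul_mem hg (zpowers_le.2 haT hy)) _ (inv_mem hg), h3 _ hg _ (zpowers_le.2 haT hy),
        inv_mem_iff]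
      tauto
  have hm : ∀ y ∈ T, y ∉ zpowers a → y * j ∈ zpowers a := fun y hy hy' => by
    rw [h3 _ hy _ hjT]; tauto
  have haa : a * a ≠ 1 := fun e => hTS (le_antisymm (by
    have h5 := card_mul_index (zpowers (⟨a, haT⟩ : T))
    have h6 := Nat.le_of_dvd two_pos (orderOf_dvd_of_pow_eq_one ((pow_two a).trans e))
    rw [h1, Nat.card_zpowers, ← orderOf_coe] at h5
    exact (eq_of_le_of_card_ge hST (by rw [h4 hρ2, ← h5]; simp only; omega)).ge) hST)
  obtain ⟨z, hz, z2, hzT, -⟩ := exists_orderOf_centralized hT.pgroup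
    (hT.pgroup.to_le (zpowers_le.2 haT)) hn fun e => haa (by rw [zpowers_eq_bot.1 e, one_mul])
  have zz := sq_eq_one_of_orderOf_two z2
  have jj := sq_eq_one_of_orderOf_two j2
  obtain ⟨K, hK, hjK⟩ := H6.exists_index_two_of_not_conj (H := T) (M := zpowers a) (x := j)
    (Nat.odd_iff.2 (by have := hT.not_dvd_relIndex; rw [relIndex_top_right] at this; omega))
    (relIndex_eq_two_of hjT h2 hm) ⟨1, by rw [pow_one, pow_two, jj]⟩ (fun g hg => by
      have e := eq_of_mem_zpowers hg hz (by simpa using (H9.orderOf_conj g⁻¹ j).trans j2) z2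
      have := (hS.of_card_ge (Q := cj g T) (hT.cj g).pgroup (by
        rintro _ ⟨y, hy, rfl⟩
        refine hH ▸ mem_Cz.2 ?_
        calc g * y * g⁻¹ * j = g * (y * (g⁻¹ * j * g)) * g⁻¹ := by group
          _ = j * (g * y * g⁻¹) := by rw [e, hzT y hy, ← e]; group)
        (by rw [card_cj]; exact card_le_of_le hST)).card_eq_card hS
      exact hTS (eq_of_le_of_card_ge hST (by rw [← this, card_cj])).symm)
    fun k g hk _ => by
      obtain ⟨k, rfl⟩ := Nat.exists_eq_succ_of_ne_zero hk.ne'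
      rw [pow_succ', pow_mul, pow_two, jj]
      simpa using one_mem _
  have hb := (hn hjT a).1 (mem_zpowers a)
  have hsq : ∀ i : ℤ, a ^ i * j * (a ^ i * j) = (a * (j * a * j⁻¹)) ^ i := fun i => by
    rw [Commute.mul_zpow (comm_of_mem_zpowers (mem_zpowers a) hb), conj_zpow,
      inv_eq_of_mul_eq_one_left jj]
    group
  have hy : ∀ y ∈ T, y ∉ zpowers a → ∃ i : ℤ, y = a ^ i * j := fun y hy hy' => by
    obtain ⟨i, hi⟩ := hm y hy hy'
    exact ⟨i, by rw [show a ^ i = y * j from hi, mul_assoc, jj, mul_one]⟩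
  have hc : a * (j * a * j⁻¹) = z := by
    have h5 : a * (j * a * j⁻¹) ∈ S := hTH ▸ ⟨mul_mem haT (zpowers_le.2 haT hb), hH ▸ mem_Cz.2 (by
      calc _ = j * a * j⁻¹ * a * j := by rw [comm_of_mem_zpowers (mem_zpowers a) hb]
        _ = j * a * j⁻¹ * (j * j)⁻¹⁻¹ * a * (j * j)⁻¹ * j := by rw [jj]; group
        _ = _ := by group)⟩
    refine (mem_zpowers_cases (mul_mem (mem_zpowers a) hb) hz ?_ z2).resolve_left fun e => hd
      (ds_of_cdw hT ⟨haT, fun y h6 h7 => ?_, fun y h6 w h7 h8 h9 => by rw [h3 _ h6 _ h7]; tauto⟩)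
    · exact four_sq j2 hr (h4' hρ2 ▸ h5)
    · obtain ⟨i, rfl⟩ := hy y h6 h7
      rw [hsq, e, one_zpow]
  have hzK : z ∈ K := by
    rw [← hc, ← zpow_one (a * _), ← hsq]
    exact mul_self_mem_of_index_two hK _
  have hZ : z ∈ center G := (Isolated.of_sylow hT.exists_sylow_top.choose zz fun g hg => by
    rw [hT.exists_sylow_top.choose_spec] at hg
    have g2 : orderOf (g * z * g⁻¹) = 2 := by rw [H9.orderOf_conj, z2]
    refine eq_of_mem_zpowers (not_not.1 fun e => hjK ?_) hz g2 z2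
    obtain ⟨i, hi⟩ := hy _ hg e
    have h5 := sq_eq_one_of_orderOf_two g2
    rw [hi, hsq, hc, ← orderOf_dvd_iff_zpow_eq_one, z2] at h5
    obtain ⟨i, rfl⟩ := h5
    have h6 := (K.normal_of_index_eq_two hK).conj_mem z hzK g
    rwa [hi, mul_comm, zpow_mul, Nat.cast_ofNat, zpow_two,
      mul_mem_cancel_left (mul_self_mem_of_index_two hK _)] at h6).mem_center h0
  haveI : (zpowers z).Normal := ⟨fun y hy g => by
    rwa [mem_center_iff.1 (zpowers_le.2 hZ hy) g, mul_inv_cancel_right]⟩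
  set π := QuotientGroup.mk' (zpowers z)
  have hπ : ∀ y, π y = 1 ↔ y ∈ zpowers z := QuotientGroup.eq_one_iff
  have hd' : DS (G ⧸ zpowers z) := ds_of_cdw (by
    simpa [map_top_of_surjective π (QuotientGroup.mk'_surjective _)] using hT.map π)
    (cdw_map π haT (fun y h6 h7 => by
      obtain ⟨i, rfl⟩ := hy y h6 h7
      rw [hsq, hc, hπ]
      exact zpow_mem_zpowers z i) fun y h6 w h7 h8 h9 => by rw [h3 _ h6 _ h7]; tauto)
  have hns' : ¬ Group.IsSolvable (G ⧸ zpowers z) := fun _ => hns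
    (Group.isSolvable_of_ker_le_range (zpowers z).subtype π (by rw [QuotientGroup.ker_mk', range_subtype]))
  have h0' := pPrimeCore_quotient_central (isPGroup_zpowers_of_orderOf (p := 2) (k := 1) z2)
    (zpowers_le.2 hZ) h0
  have hzH : z ∈ H := hH ▸ mem_Cz.2 (mem_center_iff.1 hZ j).symm
  have hH2 : ∀ y ∈ H, y * y = 1 := fun y hy => by
    by_cases hy' : y ∈ A
    · have := h.inv hzH (fun e => h2 (hu z e z2 ▸ hz)) hy'
      rwa [← mem_center_iff.1 hZ y, mul_inv_cancel_right, eq_inv_iff_mul_eq_one] at this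
    · exact h.sq y hy hy'
  have j2' : orderOf (π j) = 2 := orderOf_two_of (fun e => h2 (zpowers_le.2 hz ((hπ j).1 e)))
    (by rw [← map_mul, jj, map_one])
  refine ⟨zpowers z, inferInstance, by rw [Nat.card_zpowers, z2],
    pgl_of_ds hd' hns' h0' j2' (fun I hI g hg => ?_) fun hA _ => hjK ?_⟩
  · obtain ⟨g, rfl⟩ := QuotientGroup.mk'_surjective _ g
    refine mem_of_two_elt hd' (layer_of_ds hd' hns' h0').1 hI ⟨2, ?_⟩
    have h5 : j⁻¹ * (g * j * g⁻¹) ∈ zpowers z := (hπ _).1 (by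
      rw [map_mul, map_mul, map_mul, show π g * π j = π j * π g from mem_Cz.1 hg, map_inv, map_inv]
      group)
    have h6 := hH2 (g * g) (hH ▸ mem_Cz.2 (by
      generalize hw : j⁻¹ * (g * j * g⁻¹) = w at h5
      have h7 : g * j = j * w * g := by rw [← hw]; group
      have h8 := mem_center_iff.1 (zpowers_le.2 hZ h5)
      have h9 : w * w = 1 := by
        obtain ⟨i, rfl⟩ := h5
        rw [← (Commute.refl _).mul_zpow, zz, one_zpow]
      calc g * g * j = j * w * (g * w) * g := by rw [mul_assoc, h7, ← mul_assoc, ← mul_assoc, h7]; group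
        _ = j * (w * w) * (g * g) := by rw [h8 g]; group
        _ = _ := by rw [h9, mul_one]))
    rw [← map_pow, show g ^ 2 ^ 2 = g * g * (g * g) by rw [show 2 ^ 2 = 2 + 2 from rfl, pow_add, pow_two],
      h6, map_one]
  · have hzK' : π.ker ≤ K := by rw [QuotientGroup.ker_mk']; exact zpowers_le.2 hzK
    rw [← comap_map_eq_self hzK', mem_comap]
    exact layer_le_of_index_two (by
      rw [← hK, index_map_eq _ (QuotientGroup.mk'_surjective _) hzK']) ⊤ (hA.inner _ trivial j2')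

end Cfsg.Agent.H5
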