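import Mathlib

/-! Splitting over an abelian normal subgroup. -/

set_option autoImplicit false

namespace Cfsg.Agent.H5

open Subgroup

theorem split_of_coprime_index {G : Type*} [Group G] [Finite G] {K U A : Subgroup G} [K.Normal]
    (hc : ∀ a ∈ K, ∀ b ∈ K, a * b = b * a) (hKU : K ≤ U) (hcop : (Nat.card K).Coprime U.index)
    (hAK : ∀ x ∈ A, x ∈ K → x = 1) (hKA : ∀ u ∈ U, ∃ k : K, (k : G)⁻¹ * u ∈ A) :
    ∃ H : Subgroup G, K ⊔ H = ⊤ ∧ K ⊓ H = ⊥ := by
  classical
  letI : CommGroup K := { (inferInstance : Group K) with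
    mul_comm := fun a b => Subtype.ext (hc _ a.2 _ b.2) }
  haveI := Fintype.ofFinite (G ⧸ U)
  choose! r hr using hKA
  let φ : G →* MulAut K := MulAut.conjNormal
  have uniq : ∀ {u : G} {k : K}, u ∈ U → (k : G)⁻¹ * u ∈ A → r u = k := fun {u k} hu h => by
    have h1 := hAK _ (mul_mem (hr u hu) (inv_mem h)) (by simpa using mul_mem (inv_mem (r u).2) k.2)
    have : (r u : G)⁻¹ * k = 1 := by rw [← h1]; group
    exact Subtype.ext (inv_mul_eq_one.1 this)
  have rmul : ∀ {u v : G}, u ∈ U → v ∈ U → r (u * v) = r u * φ u (r v) := fun {u v} hu hv =>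
    uniq (mul_mem hu hv) (by
      convert mul_mem (hr u hu) (hr v hv) using 1
      rw [mul_comm]
      simp [φ, mul_assoc])
  let T : G → G ⧸ U → K := fun g x => φ (g • x).out (r ((g • x).out⁻¹ * (g * x.out)))
  have mU : ∀ (g : G) (x : G ⧸ U), (g • x).out⁻¹ * (g * x.out) ∈ U := fun g x =>
    QuotientGroup.eq.1 (by rw [QuotientGroup.out_eq', ← smul_eq_mul, MulAction.Quotient.mk_smul_out])
  let R : G → K := fun g => ∏ x, T g x
  have Rmul : ∀ g h, R (g * h) = R g * φ g (R h) := fun g h => by
    simp only [R, map_prod]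
    rw [← Fintype.prod_equiv (MulAction.toPerm h) (fun x => T g (h • x)) _ fun _ => rfl, ← Finset.prod_mul_distrib]
    refine Finset.prod_congr rfl fun x _ => ?_
    simp only [T]
    rw [show ((g * h) • x).out⁻¹ * (g * h * x.out) = (g • h • x).out⁻¹ * (g * (h • x).out) *
      ((h • x).out⁻¹ * (h * x.out)) by rw [mul_smul]; group, rmul (mU _ _) (mU _ _), map_mul, mul_smul,
      ← MulAut.mul_apply, ← map_mul, ← MulAut.mul_apply, ← map_mul, mul_inv_cancel_left]
  have RK : ∀ k : K, R k = k ^ U.index := fun k => by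
    rw [index, Nat.card_eq_fintype_card, ← Finset.card_univ, ← Finset.prod_const]
    refine Finset.prod_congr rfl fun x _ => ?_
    have e : (k : G) • x = x := by
      rw [← QuotientGroup.out_eq' x, MulAction.Quotient.smul_mk, QuotientGroup.eq]
      simpa [mul_assoc] using hKU (‹K.Normal›.conj_mem' _ (inv_mem k.2) x.out)
    simp only [T, e]
    rw [uniq (k := φ x.out⁻¹ k) (by simpa [mul_assoc] using hKU (‹K.Normal›.conj_mem' _ k.2 x.out))
      (by simp [φ, mul_assoc]), ← MulAut.mul_apply, ← map_mul, mul_inv_cancel, map_one, MulAut.one_apply]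
  have R1 : R 1 = 1 := by simpa using RK 1
  let H : Subgroup G :=
    { carrier := {g | R g = 1}
      mul_mem' := fun {a b} ha hb => by
        simp only [Set.mem_ofPred_eq] at ha hb ⊢
        rw [Rmul, ha, hb, map_one, one_mul]
      one_mem' := R1
      inv_mem' := fun {a} ha => by
        simp only [Set.mem_ofPred_eq] at ha ⊢
        have := Rmul a a⁻¹
        rw [mul_inv_cancel, R1, ha, one_mul] at this
        simpa using this.symm }
  refine ⟨H, eq_top_iff.2 fun g _ => ?_, eq_bot_iff.2 fun k hk => ?_⟩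
  · obtain ⟨k, hk⟩ := (powCoprime hcop).surjective (R g)
    have : R ((k⁻¹ : K) * g) = 1 := by
      rw [Rmul, RK, ← hk, inv_pow, inv_mul_eq_one]
      apply Subtype.ext
      simp only [φ, MulAut.conjNormal_apply, powCoprime_apply]
      rw [hc _ (k⁻¹).2 _ (k ^ U.index).2, mul_inv_cancel_right]
    simpa using mul_mem_sup k.2 (show _ ∈ H from this)
  · have : (⟨k, hk.1⟩ : K) = 1 := (powCoprime hcop).injective (by
      rw [powCoprime_apply, ← RK, powCoprime_one]; exact hk.2)
    exact congrArg Subtype.val this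

end Cfsg.Agent.H5
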