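import Cfsg.Prelude.Def_Classical

/-!
# The centralizer of a transvection in `PSp₄(F)` in coordinates
-/

set_option autoImplicit false

namespace Cfsg.Agent.H5

open Matrix Subgroup

@[ext] structure HS (F : Type*) [Field F] where
  a : F
  b : F
  c : F
  d : F
  u : F
  v : F
  z : F
  det : a * d - b * c = 1

namespace HS

variable {F : Type*} [Field F]

instance : Mul (HS F) := ⟨fun x y => ⟨x.a * y.a + x.b * y.c, x.a * y.b + x.b * y.d,
  x.c * y.a + x.d * y.c, x.c * y.b + x.d * y.d, x.u + x.a * y.u + x.b * y.v,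
  x.v + x.c * y.u + x.d * y.v,
  x.z + y.z + x.u * (x.c * y.u + x.d * y.v) - x.v * (x.a * y.u + x.b * y.v),
  by linear_combination (y.a * y.d - y.b * y.c) * x.det + y.det⟩⟩
instance : One (HS F) := ⟨⟨1, 0, 0, 1, 0, 0, 0, by ring⟩⟩
instance : Inv (HS F) := ⟨fun x => ⟨x.d, -x.b, -x.c, x.a, x.b * x.v - x.d * x.u,
  x.c * x.u - x.a * x.v, -x.z, by linear_combination x.det⟩⟩

@[simp] theorem mul_a (x y : HS F) : (x * y).a = x.a * y.a + x.b * y.c := rfl
@[simp] theorem mul_b (x y : HS F) : (x * y).b = x.a * y.b + x.b * y.d := rfl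
@[simp] theorem mul_c (x y : HS F) : (x * y).c = x.c * y.a + x.d * y.c := rfl
@[simp] theorem mul_d (x y : HS F) : (x * y).d = x.c * y.b + x.d * y.d := rfl
@[simp] theorem mul_u (x y : HS F) : (x * y).u = x.u + x.a * y.u + x.b * y.v := rfl
@[simp] theorem mul_v (x y : HS F) : (x * y).v = x.v + x.c * y.u + x.d * y.v := rfl
@[simp] theorem mul_z (x y : HS F) : (x * y).z =
    x.z + y.z + x.u * (x.c * y.u + x.d * y.v) - x.v * (x.a * y.u + x.b * y.v) := rfl
@[simp] theorem one_a : (1 : HS F).a = 1 := rfl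
@[simp] theorem one_b : (1 : HS F).b = 0 := rfl
@[simp] theorem one_c : (1 : HS F).c = 0 := rfl
@[simp] theorem one_d : (1 : HS F).d = 1 := rfl
@[simp] theorem one_u : (1 : HS F).u = 0 := rfl
@[simp] theorem one_v : (1 : HS F).v = 0 := rfl
@[simp] theorem one_z : (1 : HS F).z = 0 := rfl
@[simp] theorem inv_a (x : HS F) : x⁻¹.a = x.d := rfl
@[simp] theorem inv_b (x : HS F) : x⁻¹.b = -x.b := rfl
@[simp] theorem inv_c (x : HS F) : x⁻¹.c = -x.c := rfl
@[simp] theorem inv_d (x : HS F) : x⁻¹.d = x.a := rfl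
@[simp] theorem inv_u (x : HS F) : x⁻¹.u = x.b * x.v - x.d * x.u := rfl
@[simp] theorem inv_v (x : HS F) : x⁻¹.v = x.c * x.u - x.a * x.v := rfl
@[simp] theorem inv_z (x : HS F) : x⁻¹.z = -x.z := rfl

instance : Group (HS F) := Group.ofLeftAxioms
  (fun x y w => by
    ext <;> simp only [mul_a, mul_b, mul_c, mul_d, mul_u, mul_v, mul_z]
    any_goals ring1
    linear_combination (y.u * (y.c * w.u + y.d * w.v) - y.v * (y.a * w.u + y.b * w.v)) * x.det)
  (fun x => by ext <;> simp)
  (fun x => by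
    ext <;> simp
    any_goals ring1
    · linear_combination x.det
    · linear_combination x.det)

instance [Finite F] : Finite (HS F) :=
  Finite.of_injective (fun x : HS F => (x.a, x.b, x.c, x.d, x.u, x.v, x.z)) fun x y h => by
    simp only [Prod.mk.injEq] at h
    ext <;> tauto

/-- elements of the Sylow subgroup -/
@[simps] def pe (b u v z : F) : HS F := ⟨1, b, 0, 1, u, v, z, by ring⟩

def mat (x : HS F) : Matrix (Fin 2 ⊕ Fin 2) (Fin 2 ⊕ Fin 2) F :=
  fromBlocks !![1, x.c * x.u - x.a * x.v; 0, x.a] !![x.z, x.d * x.u - x.b * x.v; x.u, x.b]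
    !![0, 0; 0, x.c] !![1, 0; x.v, x.d]

theorem mat_mem (x : HS F) : x.mat ∈ symplecticGroup (Fin 2) F := by
  rw [SymplecticGroup.mem_iff]
  ext (i | i) (j | j) <;> fin_cases i <;> fin_cases j <;>
    simp [mat, J, Matrix.mul_apply, Fintype.sum_sum_type, Fin.sum_univ_two, fromBlocks_transpose]
  any_goals ring1
  all_goals first | linear_combination x.u * x.det | linear_combination (-x.u) * x.det |
    linear_combination x.v * x.det | linear_combination (-x.v) * x.det |
    linear_combination x.det | linear_combination -x.det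

def emb : HS F →* symplecticGroup (Fin 2) F where
  toFun x := ⟨x.mat, x.mat_mem⟩
  map_one' := by
    ext (i | i) (j | j) <;> fin_cases i <;> fin_cases j <;> simp [mat]
  map_mul' x y := by
    ext (i | i) (j | j) <;> fin_cases i <;> fin_cases j <;>
      simp [mat, Matrix.mul_apply, Fintype.sum_sum_type, Fin.sum_univ_two]
    any_goals ring1
    all_goals first | linear_combination (y.c * y.u - y.a * y.v) * x.det |
      linear_combination (y.d * y.u - y.b * y.v) * x.det

theorem mat_inj {x y : HS F} (h : x.mat = y.mat) : x = y := by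
  have e := fun i j => congrFun (congrFun h i) j
  ext
  · simpa [mat] using e (.inl 1) (.inl 1)
  · simpa [mat] using e (.inl 1) (.inr 1)
  · simpa [mat] using e (.inr 1) (.inl 1)
  · simpa [mat] using e (.inr 1) (.inr 1)
  · simpa [mat] using e (.inl 1) (.inr 0)
  · simpa [mat] using e (.inr 1) (.inr 0)
  · simpa [mat] using e (.inl 0) (.inr 0)

theorem exists_mat {A : Matrix (Fin 2 ⊕ Fin 2) (Fin 2 ⊕ Fin 2) F}
    (hA : A ∈ symplecticGroup (Fin 2) F) {κ : F} (hκ : κ ≠ 0)
    (h : A * (pe 0 0 0 κ).mat = (pe 0 0 0 κ).mat * A) : ∃ x : HS F, A = x.mat ∨ A = -x.mat := by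
  have e := fun i j => congrFun (congrFun h i) j
  have s := fun i j => congrFun (congrFun (SymplecticGroup.mem_iff'.1 hA) i) j
  have e1 : A (.inl 1) (.inl 0) = 0 := by
    simpa [mat, Matrix.mul_apply, Fintype.sum_sum_type, hκ] using e (.inl 1) (.inr 0)
  have e2 : A (.inr 0) (.inl 0) = 0 := by
    simpa [mat, Matrix.mul_apply, Fintype.sum_sum_type, hκ] using e (.inl 0) (.inl 0)
  have e3 : A (.inr 1) (.inl 0) = 0 := by
    simpa [mat, Matrix.mul_apply, Fintype.sum_sum_type, hκ] using e (.inr 1) (.inr 0)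
  have e4 : A (.inr 0) (.inl 1) = 0 := by
    simpa [mat, Matrix.mul_apply, Fintype.sum_sum_type, hκ] using e (.inl 0) (.inl 1)
  have e5 : A (.inr 0) (.inr 1) = 0 := by
    simpa [mat, Matrix.mul_apply, Fintype.sum_sum_type, hκ] using e (.inl 0) (.inr 1)
  have e6 : A (.inl 0) (.inl 0) = A (.inr 0) (.inr 0) := by
    have := e (.inl 0) (.inr 0)
    simp [mat, Matrix.mul_apply, Fintype.sum_sum_type] at this
    exact mul_right_cancel₀ hκ (by linear_combination this)
  have s1 := s (.inl 0) (.inr 0)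
  have s2 := s (.inl 1) (.inr 1)
  have s3 := s (.inl 1) (.inr 0)
  have s4 := s (.inr 1) (.inr 0)
  simp [J, Matrix.mul_apply, Fintype.sum_sum_type, e1, e2, e3, e4, e5, e6] at s1 s2 s3 s4
  obtain ⟨l, hl⟩ : ∃ l, l = A (.inr 0) (.inr 0) := ⟨_, rfl⟩
  rw [← hl] at s1 s3 s4 e6
  have key : A = l • mat ⟨l * A (.inl 1) (.inl 1), l * A (.inl 1) (.inr 1),
      l * A (.inr 1) (.inl 1), l * A (.inr 1) (.inr 1), l * A (.inl 1) (.inr 0),
      l * A (.inr 1) (.inr 0), l * A (.inl 0) (.inr 0), by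
        linear_combination s1 - l * l * s2⟩ := by
    ext (i | i) (j | j) <;> fin_cases i <;> fin_cases j <;> simp [mat, e1, e2, e3, e4, e5, e6, ← hl]
    all_goals grind
  rcases mul_self_eq_one_iff.1 (show l * l = 1 by linear_combination s1) with rfl | rfl
  · exact ⟨_, Or.inl (key.trans (one_smul _ _))⟩
  · exact ⟨_, Or.inr (key.trans (neg_one_smul _ _))⟩

theorem pe_comm (κ : F) (x : HS F) : x * pe 0 0 0 κ = pe 0 0 0 κ * x := by
  ext <;> simp [add_comm]

theorem eq_pe_of_comm (h2 : (2 : F) ≠ 0) {x : HS F} (h : x * pe 0 1 0 0 = pe 0 1 0 0 * x)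
    (h' : x * pe 0 0 1 0 = pe 0 0 1 0 * x) : x = pe 0 0 0 x.z := by
  have a1 := congrArg HS.u h
  have a2 := congrArg HS.v h
  have a3 := congrArg HS.z h
  have b1 := congrArg HS.u h'
  have b2 := congrArg HS.v h'
  have b3 := congrArg HS.z h'
  simp at a1 a2 a3 b1 b2 b3
  ext <;> simp <;> grind

theorem mem_center_sp (h2 : (2 : F) ≠ 0) {A : symplecticGroup (Fin 2) F} :
    A ∈ center (symplecticGroup (Fin 2) F) ↔ A.1 = 1 ∨ A.1 = -1 := by
  refine ⟨fun h => ?_, fun h => mem_center_iff.mpr fun g => Subtype.ext ?_⟩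
  swap
  · rcases h with h | h <;> simp [h]
  have k : ∀ B : symplecticGroup (Fin 2) F, B.1 * A.1 = A.1 * B.1 := fun B =>
    congrArg Subtype.val (mem_center_iff.1 h B)
  obtain ⟨x, hx⟩ := exists_mat A.2 one_ne_zero (k (emb (pe 0 0 0 1))).symm
  have k' : ∀ B : symplecticGroup (Fin 2) F, B.1 * x.mat = x.mat * B.1 := fun B => by
    have := k B
    rcases hx with hx | hx <;> rw [hx] at this <;> simpa using this
  have c : ∀ y : HS F, x * y = y * x := fun y => mat_inj (by
    have := (k' (emb y)).symm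
    exact (congrArg Subtype.val (map_mul emb x y)).trans
      (this.trans (congrArg Subtype.val (map_mul emb y x)).symm))
  have e := eq_pe_of_comm h2 (c _) (c _)
  have := congrFun (congrFun (k' (SymplecticGroup.symJ _ _)) (.inl 0)) (.inl 0)
  rw [e] at this
  simp [mat, J, Matrix.mul_apply, Fintype.sum_sum_type] at this
  rw [← this] at e
  have : x.mat = 1 := by
    rw [e, show (pe 0 0 0 0 : HS F) = 1 from rfl]; exact congrArg Subtype.val (map_one emb)
  rwa [this] at hx

theorem mk_eq_iff (h2 : (2 : F) ≠ 0) {A B : symplecticGroup (Fin 2) F} :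
    (QuotientGroup.mk A : Cfsg.PSp 2 F) = QuotientGroup.mk B ↔ B.1 = A.1 ∨ B.1 = -A.1 := by
  rw [QuotientGroup.eq, mem_center_sp h2]
  have e : A.1 * (A⁻¹ * B).1 = B.1 := congrArg Subtype.val (mul_inv_cancel_left A B)
  have e' : A⁻¹.1 * A.1 = 1 := congrArg Subtype.val (inv_mul_cancel A)
  refine or_congr ⟨fun h => ?_, fun h => ?_⟩ ⟨fun h => ?_, fun h => ?_⟩
  · rw [← e, h, mul_one]
  · rw [Submonoid.coe_mul, h, e']
  · rw [← e, h, mul_neg, mul_one]
  · rw [Submonoid.coe_mul, h, mul_neg, e']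

variable {G : Type*} [Group G]

structure Setup (ι : HS F →* G) : Prop where
  two : (2 : F) ≠ 0
  inj : Function.Injective ι
  cent : ∀ κ, κ ≠ 0 → ∀ g, g * ι (pe 0 0 0 κ) = ι (pe 0 0 0 κ) * g → ∃ x, ι x = g

theorem setup_psp (h2 : (2 : F) ≠ 0) :
    Setup ((QuotientGroup.mk' (center (symplecticGroup (Fin 2) F))).comp emb) := by
  refine ⟨h2, fun x y h => ?_, fun κ hκ g hg => ?_⟩
  · rcases (mk_eq_iff h2).1 h with h | h
    · exact (mat_inj h).symm
    · have := congrFun (congrFun h (.inl 0)) (.inl 0)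
      simp [emb, mat] at this
      exact absurd (by linear_combination this) h2
  obtain ⟨A, rfl⟩ := QuotientGroup.mk_surjective g
  have : (pe 0 0 0 κ).mat * A.1 = A.1 * (pe 0 0 0 κ).mat ∨
      (pe 0 0 0 κ).mat * A.1 = -(A.1 * (pe 0 0 0 κ).mat) := (mk_eq_iff h2).1 hg
  rcases this with h | h
  · obtain ⟨x, hx⟩ := exists_mat A.2 hκ h.symm
    exact ⟨x, (mk_eq_iff h2).2 hx⟩
  · exfalso
    have e := fun i j => congrFun (congrFun h i) j
    have s := congrFun (congrFun (SymplecticGroup.mem_iff'.1 A.2) (.inl 0)) (.inr 0)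
    have e1 := e (.inl 1) (.inl 0)
    have e2 := e (.inr 0) (.inl 0)
    have e3 := e (.inr 1) (.inl 0)
    have e4 := e (.inl 0) (.inl 0)
    simp [mat, J, Matrix.mul_apply, Fintype.sum_sum_type] at e1 e2 e3 e4 s
    have z : ∀ {y : F}, y = -y → y = 0 := fun h => (mul_eq_zero.1 (by linear_combination h)).resolve_left h2
    rw [z e2, mul_zero, add_zero] at e4
    rw [z e1, z e2, z e3, z e4] at s
    simp at s

/-- the Sylow subgroup -/
def PP (F : Type*) [Field F] : Subgroup (HS F) where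
  carrier := {x | x.a = 1 ∧ x.c = 0}
  mul_mem' := fun h h' => by simp_all
  one_mem' := by simp
  inv_mem' := fun {x} h => by
    have := x.det
    simp_all

theorem mem_PP {x : HS F} : x ∈ PP F ↔ x.a = 1 ∧ x.c = 0 := Iff.rfl

theorem pe_mem (b u v z : F) : pe b u v z ∈ PP F := ⟨rfl, rfl⟩

theorem eq_pe {x : HS F} (h : x ∈ PP F) : x = pe x.b x.u x.v x.z := by
  have := x.det
  rw [h.1, h.2] at this
  ext <;> simp [h.1, h.2]
  simpa using this

theorem card_PP : Nat.card (PP F) = Nat.card F ^ 4 := by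
  rw [Nat.card_congr (β := F × F × F × F) ⟨fun x => (x.1.b, x.1.u, x.1.v, x.1.z),
    fun y => ⟨pe y.1 y.2.1 y.2.2.1 y.2.2.2, pe_mem ..⟩, fun x => Subtype.ext (eq_pe x.2).symm,
    fun _ => rfl⟩]
  simp only [Nat.card_prod]; ring

namespace Setup

variable {ι : HS F →* G} (S : Setup ι)
include S

theorem conj (g : G) : Setup ((MulAut.conj g).toMonoidHom.comp ι) := by
  refine ⟨S.two, (MulAut.conj g).injective.comp S.inj, fun κ hκ y hy => ?_⟩
  obtain ⟨x, hx⟩ := S.cent κ hκ (g⁻¹ * y * g) (by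
    simp only [MonoidHom.comp_apply, MulEquiv.coe_toMonoidHom, MulAut.conj_apply] at hy
    calc _ = g⁻¹ * (y * (g * ι (pe 0 0 0 κ) * g⁻¹)) * g := by group
      _ = _ := by rw [hy]; group)
  exact ⟨x, by simp [hx, mul_assoc]⟩

theorem centralizer_eq {κ : F} (hκ : κ ≠ 0) : centralizer {ι (pe 0 0 0 κ)} = ι.range := by
  ext g
  rw [mem_centralizer_singleton_iff]
  refine ⟨S.cent κ hκ g, ?_⟩
  rintro ⟨x, rfl⟩
  rw [← map_mul, ← map_mul, pe_comm]

theorem exists_equiv [Finite G] {p n : ℕ} [Fact p.Prime] (hF : Nat.card F = p ^ n) (U : Sylow p G)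
    {x : G} (hx : x ≠ 1) (hc : ∀ u ∈ (U : Subgroup G), u * x = x * u) :
    Nonempty (centralizer {x} ≃* HS F) := by
  have hP : IsPGroup p ((PP F).map ι) :=
    (IsPGroup.of_card (n := n * 4) (by rw [card_PP, hF, pow_mul])).map ι
  obtain ⟨U', hU'⟩ := hP.exists_le_sylow
  obtain ⟨g, rfl⟩ := MulAction.exists_smul_eq G U' U
  have S' := S.conj g
  set ι' := (MulAut.conj g).toMonoidHom.comp ι
  have hc' : ∀ y ∈ PP F, x * ι' y = ι' y * x := fun y hy =>
    (hc _ (smul_mem_pointwise_smul _ _ _ (hU' (mem_map_of_mem ι hy)))).symm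
  obtain ⟨y, rfl⟩ := S'.cent 1 one_ne_zero x (hc' _ (pe_mem ..))
  have e := eq_pe_of_comm (x := y) S.two (S'.inj (by rw [map_mul, map_mul, hc' _ (pe_mem ..)]))
    (S'.inj (by rw [map_mul, map_mul, hc' _ (pe_mem ..)]))
  rw [e, S'.centralizer_eq (fun h => hx (by rw [e, h]; exact map_one ι'))]
  exact ⟨(MonoidHom.ofInjective S'.inj).symm⟩

end Setup

theorem exists_setup {p n : ℕ} [Fact p.Prime] (hp : p ≠ 2) [Fintype F]
    (hF : Fintype.card F = p ^ n) (U : Sylow p (Cfsg.PSp 2 F)) {x : Cfsg.PSp 2 F}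
    (hx : orderOf x = p) (hc : ∀ u ∈ (U : Subgroup (Cfsg.PSp 2 F)), u * x = x * u) {α : G}
    (e : centralizer ({α} : Set G) ≃* centralizer {x})
    (hb : ∀ z : G, z ≠ 1 → z ∈ centralizer ({α} : Set G) →
      (∀ c ∈ centralizer ({α} : Set G), c * z = z * c) →
        centralizer ({z} : Set G) = centralizer ({α} : Set G)) :
    ∃ ι : HS F →* G, Setup ι ∧ ι.range = centralizer {α} := by
  classical
  have h2 : (2 : F) ≠ 0 := fun h => by
    have h1 := FiniteField.cast_card_eq_zero F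
    obtain ⟨k, hk⟩ := ((Fact.out : p.Prime).odd_of_ne_two hp).pow (n := n)
    rw [hF, hk] at h1
    push_cast at h1
    rw [h] at h1; simp at h1
  obtain ⟨e'⟩ := (setup_psp h2).exists_equiv (by rw [Nat.card_eq_fintype_card, hF]) U
    (x := x) (by rintro rfl; exact (Fact.out : p.Prime).one_lt.ne (by rw [← hx, orderOf_one])) hc
  let ι := (centralizer ({α} : Set G)).subtype.comp (e.trans e').symm.toMonoidHom
  have hr : ι.range = centralizer {α} := by
    rw [MonoidHom.range_comp, MonoidHom.range_eq_top.2 (e.trans e').symm.surjective,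
      ← MonoidHom.range_eq_map, range_subtype]
  have inj : Function.Injective ι := Subtype.val_injective.comp (e.trans e').symm.injective
  refine ⟨ι, ⟨h2, inj, fun κ hκ g hg => ?_⟩, hr⟩
  rw [← mem_centralizer_singleton_iff, hb _ (fun h => hκ (congrArg HS.z (inj (h.trans (map_one ι).symm))))
    (hr ▸ ⟨_, rfl⟩) (by
      rw [← hr]; rintro _ ⟨y, rfl⟩; rw [← map_mul, ← map_mul, pe_comm]), ← hr] at hg
  exact hg

end HS

end Cfsg.Agent.H5
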