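import Cfsg.Agent.H5.HS1
import Cfsg.Agent.H8.Generation
import Cfsg.Agent.L0.Fitting

/-!
# Groups with a `p`-central centralizer of symplectic type: the Sylow `p`-structure
-/

set_option autoImplicit false

namespace Cfsg.Agent.H5.HS

open Subgroup Cfsg.Agent.H8

variable {F : Type*} [Field F] {G : Type*} [Group G]

theorem pe_mul (b u v z b' u' v' z' : F) : pe b u v z * pe b' u' v' z' =
    pe (b + b') (u + u' + b * v') (v + v') (z + z' + u * v' - v * (u' + b * v')) := by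
  ext <;> simp [add_comm]

theorem pe_inv (b u v z : F) : (pe b u v z)⁻¹ = pe (-b) (b * v - u) (-v) (-z) := by
  ext <;> simp

theorem pe_zero : (pe 0 0 0 0 : HS F) = 1 := rfl

theorem pe_inj {b u v z b' u' v' z' : F} : pe b u v z = pe b' u' v' z' ↔
    b = b' ∧ u = u' ∧ v = v' ∧ z = z' :=
  ⟨fun h => ⟨congrArg HS.b h, congrArg HS.u h, congrArg HS.v h, congrArg HS.z h⟩,
    fun ⟨h1, h2, h3, h4⟩ => by rw [h1, h2, h3, h4]⟩

def MM (F : Type*) [Field F] : Subgroup (HS F) where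
  carrier := {x | x ∈ PP F ∧ x.v = 0}
  mul_mem' := fun h h' => ⟨mul_mem h.1 h'.1, by simp [h.1.2, h.2, h'.2]⟩
  one_mem' := ⟨one_mem _, rfl⟩
  inv_mem' := fun h => ⟨inv_mem h.1, by simp [h.1.2, h.2]⟩

def QQ (F : Type*) [Field F] : Subgroup (HS F) where
  carrier := {x | x ∈ PP F ∧ x.b = 0}
  mul_mem' := fun h h' => ⟨mul_mem h.1 h'.1, by simp [h.2, h'.2]⟩
  one_mem' := ⟨one_mem _, rfl⟩
  inv_mem' := fun h => ⟨inv_mem h.1, by simp [h.2]⟩

def ZZ (F : Type*) [Field F] : Subgroup (HS F) where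
  carrier := {x | x ∈ PP F ∧ x.b = 0 ∧ x.u = 0 ∧ x.v = 0}
  mul_mem' := fun h h' => ⟨mul_mem h.1 h'.1, by simp [h.2, h'.2]⟩
  one_mem' := ⟨one_mem _, rfl, rfl, rfl⟩
  inv_mem' := fun h => ⟨inv_mem h.1, by simp [h.2]⟩

variable {ι : HS F →* G}

theorem mem_P {g : G} : g ∈ (PP F).map ι ↔ ∃ b u v z, ι (pe b u v z) = g :=
  ⟨fun ⟨_, h, e⟩ => ⟨_, _, _, _, eq_pe h ▸ e⟩, fun ⟨_, _, _, _, e⟩ => ⟨_, pe_mem .., e⟩⟩

theorem mem_M {g : G} : g ∈ (MM F).map ι ↔ ∃ b u z, ι (pe b u 0 z) = g :=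
  ⟨fun ⟨x, h, e⟩ => ⟨x.b, x.u, x.z, by rw [← h.2, ← eq_pe h.1, e]⟩,
    fun ⟨_, _, _, e⟩ => ⟨_, ⟨pe_mem .., rfl⟩, e⟩⟩

theorem mem_Q {g : G} : g ∈ (QQ F).map ι ↔ ∃ u v z, ι (pe 0 u v z) = g :=
  ⟨fun ⟨x, h, e⟩ => ⟨x.u, x.v, x.z, by rw [← h.2, ← eq_pe h.1, e]⟩,
    fun ⟨_, _, _, e⟩ => ⟨_, ⟨pe_mem .., rfl⟩, e⟩⟩

theorem mem_Z {g : G} : g ∈ (ZZ F).map ι ↔ ∃ z, ι (pe 0 0 0 z) = g :=
  ⟨fun ⟨x, h, e⟩ => ⟨x.z, by
    rw [← e]; congr 1; rw [eq_pe h.1, h.2.1, h.2.2.1, h.2.2.2]; rfl⟩,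
    fun ⟨_, e⟩ => ⟨_, ⟨pe_mem .., rfl, rfl, rfl⟩, e⟩⟩

theorem pe_mem_P (b u v z : F) : ι (pe b u v z) ∈ (PP F).map ι := mem_P.2 ⟨_, _, _, _, rfl⟩
theorem pe_mem_M (b u z : F) : ι (pe b u 0 z) ∈ (MM F).map ι := mem_M.2 ⟨_, _, _, rfl⟩
theorem pe_mem_Q (u v z : F) : ι (pe 0 u v z) ∈ (QQ F).map ι := mem_Q.2 ⟨_, _, _, rfl⟩
theorem pe_mem_Z (z : F) : ι (pe 0 0 0 z) ∈ (ZZ F).map ι := mem_Z.2 ⟨_, rfl⟩

theorem M_le_P : (MM F).map ι ≤ (PP F).map ι := map_mono fun _ h => h.1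
theorem Q_le_P : (QQ F).map ι ≤ (PP F).map ι := map_mono fun _ h => h.1
theorem Z_le_M : (ZZ F).map ι ≤ (MM F).map ι := map_mono fun _ h => ⟨h.1, h.2.2.2⟩

theorem M_comm {a b : G} (ha : a ∈ (MM F).map ι) (hb : b ∈ (MM F).map ι) : a * b = b * a := by
  obtain ⟨_, _, _, rfl⟩ := mem_M.1 ha
  obtain ⟨_, _, _, rfl⟩ := mem_M.1 hb
  rw [← map_mul, ← map_mul, pe_mul, pe_mul]; congr 2 <;> ring

theorem conj_Q (x : HS F) (u v z : F) :
    x * pe 0 u v z * x⁻¹ = pe 0 (x.a * u + x.b * v) (x.c * u + x.d * v)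
      (z + 2 * (x.u * (x.c * u + x.d * v) - x.v * (x.a * u + x.b * v))) := by
  have := x.det
  ext <;> simp <;> grind

theorem card_MM : Nat.card (MM F) = Nat.card F ^ 3 := by
  rw [Nat.card_congr (β := F × F × F) ⟨fun x => (x.1.b, x.1.u, x.1.z),
    fun y => ⟨pe y.1 y.2.1 0 y.2.2, pe_mem .., rfl⟩,
    fun x => Subtype.ext ((eq_pe x.2.1).trans (by rw [x.2.2])).symm, fun _ => rfl⟩]
  simp only [Nat.card_prod]; ring

theorem eq_MM [Finite F] (h2 : (2 : F) ≠ 0) {A : Subgroup (HS F)} (hA : A ≤ PP F)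
    (hc : ∀ a ∈ A, ∀ b ∈ A, a * b = b * a) (hcard : Nat.card A = Nat.card F ^ 3) : A = MM F := by
  refine eq_of_le_of_card_ge (fun r hr => ⟨hA hr, ?_⟩) (by rw [card_MM, hcard])
  by_contra hv
  have inj : Function.Injective (fun a : A => (a.1.v, a.1.z)) := fun a a' e => by
    simp only [Prod.mk.injEq] at e
    have c := hc _ (mul_mem (inv_mem a.2) a'.2) _ hr
    rw [eq_pe (hA a.2), eq_pe (hA a'.2), eq_pe (hA hr), pe_inv, pe_mul, pe_mul, pe_mul,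
      pe_inj] at c
    have e1 : a.1.b = a'.1.b := mul_right_cancel₀ hv (by grind)
    have e2 : a.1.u = a'.1.u := mul_right_cancel₀ (mul_ne_zero h2 hv) (by grind)
    exact Subtype.ext (by rw [eq_pe (hA a.2), eq_pe (hA a'.2), e1, e2, e.1, e.2])
  have h1 := Nat.card_le_card_of_injective _ inj
  rw [hcard, Nat.card_prod] at h1
  have := Finite.one_lt_card (α := F)
  nlinarith

def R (ι : HS F →* G) (g : G) (x y : HS F) : Prop := g * ι x * g⁻¹ = ι y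

theorem R.mul {g : G} {p q p' q' : HS F} (h : R ι g p q) (h' : R ι g p' q') :
    R ι g (p * p') (q * q') := by
  unfold R at *
  rw [map_mul, map_mul, ← h, ← h']; group

theorem R.inv {g : G} {p q : HS F} (h : R ι g p q) : R ι g p⁻¹ q⁻¹ := by
  unfold R at *
  rw [map_inv, map_inv, ← h]; group

theorem R.one (g : G) : R ι g 1 1 := by simp [R]

theorem R.comp {g g' : G} {p q r : HS F} (h : R ι g p q) (h' : R ι g' q r) : R ι (g' * g) p r := by
  unfold R at *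
  rw [← h', ← h]; group

theorem R.symm {g : G} {p q : HS F} (h : R ι g p q) : R ι g⁻¹ q p := by
  unfold R at *
  rw [← h]; group

theorem R.symm' {g : G} {p q : HS F} (h : R ι g⁻¹ p q) : R ι g q p := by
  simpa using h.symm

theorem R.self (m p : HS F) : R ι (ι m) p (m * p * m⁻¹) := by simp [R]

theorem R.cast {g : G} {p q p' q' : HS F} (h : R ι g p q) (e1 : p = p') (e2 : q = q') :
    R ι g p' q' := e1 ▸ e2 ▸ h

theorem R.comm {g : G} {p : HS F} (h : R ι g p p) : g * ι p = ι p * g :=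
  mul_inv_eq_iff_eq_mul.1 h

theorem R.of_comm {g : G} {p : HS F} (h : g * ι p = ι p * g) : R ι g p p :=
  mul_inv_eq_iff_eq_mul.2 h

theorem a_pow {x : HS F} (h : x.c = 0) (n : ℕ) : (x ^ n).a = x.a ^ n ∧ (x ^ n).c = 0 := by
  induction n with
  | zero => simp
  | succ n ih => simp [pow_succ, ih.1, ih.2, h]

theorem a_eq_one {p : ℕ} [Fact p.Prime] [CharP F p] {x : HS F} (h : x.c = 0) {k : ℕ}
    (hk : x ^ p ^ k = 1) : x.a = 1 := by
  have := (a_pow h (p ^ k)).1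
  rw [hk, one_a] at this
  have h2 := sub_pow_char_pow x.a 1 (p := p) (n := k)
  rw [← this, one_pow, sub_self] at h2
  exact sub_eq_zero.1 (pow_eq_zero_iff (pow_ne_zero _ (Fact.out : p.Prime).ne_zero) |>.1 h2)

theorem c_eq_zero {x y : HS F} {b u z : F} (hb : b ≠ 0) (hy : y.c = 0)
    (h : x * pe b u 0 z * x⁻¹ = y) : x.c = 0 := by
  have := congrArg HS.c h
  simp [hy] at this
  exact pow_eq_zero_iff (n := 2) two_ne_zero |>.1 (mul_right_cancel₀ hb (by grind))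

theorem pgroup_zp {p k : ℕ} {g : G} (hk : g ^ p ^ k = 1) : IsPGroup p (zpowers g) := by
  rintro ⟨_, m, rfl⟩
  exact ⟨k, Subtype.ext (by
    change (g ^ m) ^ p ^ k = 1
    rw [← zpow_natCast, ← zpow_mul, mul_comm, zpow_mul, zpow_natCast, hk, one_zpow])⟩

theorem pgroup_P (p : ℕ) [Fact p.Prime] [CharP F p] [Finite F] : IsPGroup p ((PP F).map ι) := by
  have := Fintype.ofFinite F
  obtain ⟨n, -, hn⟩ := FiniteField.card F p
  exact (IsPGroup.of_card (n := n * 4) (by rw [card_PP, Nat.card_eq_fintype_card, hn, pow_mul])).map ι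

namespace Setup

variable (S : Setup ι)
include S

theorem eq_iff {g : G} {p q p' q' : HS F} (h : R ι g p q) (h' : R ι g p' q') :
    p = p' ↔ q = q' := by
  unfold R at *
  rw [← S.inj.eq_iff, ← S.inj.eq_iff (a := q), ← h, ← h']
  simp

theorem eq_of {x p q : HS F} (h : R ι (ι x) p q) : x * p * x⁻¹ = q :=
  (S.eq_iff (R.self x p) h).1 rfl

theorem mem_C {g : G} {κ : F} (hκ : κ ≠ 0) (h : R ι g (pe 0 0 0 κ) (pe 0 0 0 κ)) :
    ∃ x, ι x = g := S.cent κ hκ g h.comm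

theorem ne_zero {g : G} {κ κ' : F} (hκ : κ ≠ 0) (h : R ι g (pe 0 0 0 κ) (pe 0 0 0 κ')) :
    κ' ≠ 0 := fun e => hκ (congrArg HS.z ((S.eq_iff h (R.one g)).2 (by rw [e]; rfl)))

theorem ex {g : G} {κ κ' : F} (hκ : κ ≠ 0) (h : R ι g (pe 0 0 0 κ) (pe 0 0 0 κ')) (x : HS F) :
    ∃ y, R ι g x y := by
  obtain ⟨y, hy⟩ := S.cent κ' (S.ne_zero hκ h) (g * ι x * g⁻¹) (by
    rw [← h]
    calc _ = g * ι (x * pe 0 0 0 κ) * g⁻¹ := by rw [map_mul]; group
      _ = _ := by rw [pe_comm, map_mul]; group)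
  exact ⟨y, hy.symm⟩

theorem normZ [Finite G] {g : G} {κ κ' : F} (hκ : κ ≠ 0) (h : R ι g (pe 0 0 0 κ) (pe 0 0 0 κ')) :
    g ∈ normalizer ((ZZ F).map ι : Set G) := by
  refine mem_normalizer_fintype fun y hy => ?_
  obtain ⟨l, rfl⟩ := mem_Z.1 hy
  obtain ⟨y, hy⟩ := S.ex hκ h (pe 0 0 0 l)
  have c : ∀ x, y * x = x * y := fun x => by
    obtain ⟨x', hx⟩ := S.ex (S.ne_zero hκ h) h.symm x
    exact (S.eq_iff (hy.mul hx.symm') (hx.symm'.mul hy)).1 (pe_comm _ _).symm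
  rw [hy, eq_pe_of_comm S.two (c _) (c _)]
  exact pe_mem_Z _

omit S in
theorem exZ {g : G} (hg : g ∈ normalizer ((ZZ F).map ι : Set G)) (κ : F) :
    ∃ κ', R ι g (pe 0 0 0 κ) (pe 0 0 0 κ') := by
  obtain ⟨l, hl⟩ := mem_Z.1 ((mem_normalizer_iff.1 hg _).1 (pe_mem_Z κ))
  exact ⟨l, hl.symm⟩

theorem exN {g : G} (hg : g ∈ normalizer ((ZZ F).map ι : Set G)) (x : HS F) :
    ∃ y, R ι g x y := by
  obtain ⟨l, hl⟩ := exZ hg 1
  exact S.ex one_ne_zero hl x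

theorem C_le_NZ [Finite G] (x : HS F) : ι x ∈ normalizer ((ZZ F).map ι : Set G) :=
  S.normZ one_ne_zero (R.of_comm (by rw [← map_mul, ← map_mul, pe_comm]))

theorem NP_le_NZ [Finite G] {g : G} (hg : g ∈ normalizer ((PP F).map ι : Set G)) :
    g ∈ normalizer ((ZZ F).map ι : Set G) := by
  obtain ⟨y, -, hy⟩ := (mem_normalizer_iff.1 hg _).1 (pe_mem_P 0 0 0 1)
  have c : ∀ x ∈ PP F, y * x = x * y := fun x hx => by
    obtain ⟨x', -, hx'⟩ := (mem_normalizer_iff.1 (inv_mem hg) _).1 (mem_map_of_mem ι hx)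
    have h1 : R ι g x' x := by simpa using R.symm (g := g⁻¹) hx'.symm
    exact (S.eq_iff (R.mul hy.symm h1) (h1.mul hy.symm)).1 (pe_comm _ _).symm
  rw [eq_pe_of_comm S.two (c _ (pe_mem ..)) (c _ (pe_mem ..))] at hy
  exact S.normZ one_ne_zero hy.symm

theorem Z_ne_bot : (ZZ F).map ι ≠ ⊥ := fun h => one_ne_zero (congrArg HS.z
  (S.inj (((eq_bot_iff_forall _).1 h _ (pe_mem_Z (1 : F))).trans (map_one ι).symm)))

variable [Finite G] (p : ℕ) [Fact p.Prime] [CharP F p]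

omit [Fact p.Prime] [CharP F p] in
theorem finite : Finite F := Finite.of_injective (fun z => ι (pe 0 0 0 z))
  fun _ _ h => congrArg HS.z (S.inj h)

theorem pelt_mem {g : G} (hg : g ∈ normalizer ((ZZ F).map ι : Set G)) {k : ℕ}
    (hk : g ^ p ^ k = 1) : ∃ x, ι x = g := by
  have := S.finite
  have hp : IsPGroup p ((ZZ F).map ι ⊔ zpowers g : Subgroup G) :=
    ((pgroup_P p).to_le (Z_le_M.trans M_le_P)).to_sup_of_normal_left'
      (pgroup_zp hk) (zpowers_le_of_mem hg)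
  have := hp.isNilpotent
  obtain ⟨⟨y, hy, hc⟩, h1⟩ := (ne_bot_iff_exists_ne_one).1
    (L0.inf_centralizer_ne_bot_of_isNilpotent le_sup_left
      (sup_le le_normalizer (zpowers_le_of_mem hg)) S.Z_ne_bot)
  obtain ⟨l, rfl⟩ := mem_Z.1 hy
  exact S.cent l (fun e => h1 (Subtype.ext (by simp [e, pe_zero]))) g
    (hc g (mem_sup_right (mem_zpowers g)))

theorem sylowP : IsSylowIn p ((PP F).map ι) ⊤ := by
  have := S.finite
  refine IsSylowIn.of_normalizer le_top ⟨le_inf le_top le_normalizer, pgroup_P p, ?_⟩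
  refine fun Q hQ hp hPQ => le_antisymm (fun g hg => ?_) hPQ
  obtain ⟨k, hk⟩ := hp ⟨g, hg⟩
  replace hk : g ^ p ^ k = 1 := congrArg Subtype.val hk
  obtain ⟨x, rfl⟩ := S.pelt_mem p (S.NP_le_NZ (hQ hg).2) hk
  obtain ⟨y, hy, e⟩ := (mem_normalizer_iff.1 (hQ hg).2 _).1 (pe_mem_P 1 0 0 0)
  have hc := c_eq_zero one_ne_zero hy.2 (S.eq_of e.symm)
  exact mem_map_of_mem ι ⟨a_eq_one hc (S.inj (by rw [map_pow, hk, map_one])), hc⟩

omit [Fact p.Prime] [CharP F p] in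
theorem eq_M {A : Subgroup G} (hA : A ≤ (PP F).map ι) (hc : ∀ a ∈ A, ∀ b ∈ A, a * b = b * a)
    (hcard : Nat.card A = Nat.card F ^ 3) : A = (MM F).map ι := by
  have := S.finite
  have e : (A.comap ι).map ι = A := map_comap_eq_self (hA.trans (map_le_range _ _))
  rw [← e, eq_MM S.two (A := A.comap ι) (fun x hx => by
      simpa [comap_map_eq_self_of_injective S.inj] using comap_mono (f := ι) hA hx)
    (fun a ha b hb => S.inj (by rw [map_mul, map_mul, hc _ ha _ hb]))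
    (by rw [← hcard, ← e, card_map_of_injective S.inj, e])]

omit [Finite G] [Fact p.Prime] [CharP F p] in
theorem card_M : Nat.card ((MM F).map ι) = Nat.card F ^ 3 := by
  rw [card_map_of_injective S.inj, card_MM]

omit [Fact p.Prime] [CharP F p] in
theorem wc {g : G} (h : cj g ((MM F).map ι) ≤ (PP F).map ι) :
    g ∈ normalizer ((MM F).map ι : Set G) :=
  cj_eq_self_iff.1 (S.eq_M h (fun a ha b hb => by
    have := M_comm (mem_cj.1 ha) (mem_cj.1 hb)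
    calc a * b = g * (g⁻¹ * a * g * (g⁻¹ * b * g)) * g⁻¹ := by group
      _ = _ := by rw [this]; group) (by rw [card_cj, S.card_M]))

omit [Fact p.Prime] [CharP F p] in
theorem NP_le_NM {g : G} (h : g ∈ normalizer ((PP F).map ι : Set G)) :
    g ∈ normalizer ((MM F).map ι : Set G) := S.wc (cj_le_of_mem_normalizer h M_le_P)

include p in
/-- `N(M)` controls fusion in `M`. -/
theorem ctl {x g : G} (hx : x ∈ (MM F).map ι) (hy : g * x * g⁻¹ ∈ (MM F).map ι) :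
    ∃ n ∈ normalizer ((MM F).map ι : Set G), n * x * n⁻¹ = g * x * g⁻¹ := by
  have := S.finite
  have pM : IsPGroup p ((MM F).map ι) := (pgroup_P p).to_le M_le_P
  obtain ⟨P1, h1, l1⟩ := exists_isSylowIn_ge (K := centralizer {g * x * g⁻¹}) pM
    (fun a ha => mem_centralizer_singleton_iff.2 (M_comm ha hy))
  obtain ⟨P2, h2, l2⟩ := exists_isSylowIn_ge (K := centralizer {g * x * g⁻¹}) (pgroup_cj pM g)
    (by rw [← cj_centralizer_singleton]
        exact cj_mono g fun a ha => mem_centralizer_singleton_iff.2 (M_comm ha hx))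
  obtain ⟨c, hc, rfl⟩ := h2.exists_cj_eq h1
  obtain ⟨P3, h3, l3⟩ := exists_isSylowIn_ge h1.pgroup le_top
  obtain ⟨k, -, e⟩ := h3.exists_cj_eq (S.sylowP p)
  have n1 := S.wc (g := k) (e ▸ cj_mono k (l1.trans l3))
  have n2 := S.wc (g := k * (c * g)) (by
    rw [cj_mul, cj_mul, ← e]; exact cj_mono k ((cj_mono c l2).trans l3))
  refine ⟨c * g, by simpa using mul_mem (inv_mem n1) n2, ?_⟩
  calc _ = c * (g * x * g⁻¹) * c⁻¹ := by group
    _ = _ := by rw [mem_centralizer_singleton_iff.1 hc, mul_inv_cancel_right]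

theorem eq_bot_of_norm (hn : ¬ IsCyclic ((ZZ F).map ι)) {K : Subgroup G} (hK : ¬ p ∣ Nat.card K)
    (hM : (MM F).map ι ≤ normalizer (K : Set G)) : K = ⊥ := by
  have := S.finite
  have cop : ∀ A ≤ (PP F).map ι, (Nat.card A).Coprime (Nat.card K) := fun A hA => by
    obtain ⟨n, hn⟩ := IsPGroup.iff_card.1 ((pgroup_P p).to_le hA)
    rw [hn]; exact ((Nat.Prime.coprime_iff_not_dvd Fact.out).2 hK).pow_left n
  have hZ : IsMulCommutative ((ZZ F).map ι) :=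
    ⟨⟨fun a b => Subtype.ext (M_comm (Z_le_M a.2) (Z_le_M b.2))⟩⟩
  have h1 : K ≤ ι.range := CopAct.le_of_not_isCyclic (A := (ZZ F).map ι)
    ⟨Z_le_M.trans hM, cop _ (Z_le_M.trans M_le_P), Or.inl (Group.isSolvable_of_comm hZ.1.1)⟩ hZ hn fun a ha a1 => by
      obtain ⟨l, rfl⟩ := mem_Z.1 ha
      rw [S.centralizer_eq (fun e => a1 (by simp [e, pe_zero]))]
      exact inf_le_right
  have dj : ∀ g ∈ K, g ∈ (PP F).map ι → g = 1 := fun g h h' =>
    (eq_bot_iff_forall _).1 (disjoint_of_coprime_card (cop _ le_rfl)) g ⟨h', h⟩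
  refine (eq_bot_iff_forall _).2 fun g hg => ?_
  obtain ⟨x, rfl⟩ := h1 hg
  have e := dj (ι (x * pe 0 1 0 0 * x⁻¹ * (pe 0 1 0 0)⁻¹)) (by
    have := mul_mem hg ((mem_normalizer_iff.1 (hM (pe_mem_M 0 1 0)) _).1 (inv_mem hg))
    simpa [mul_assoc] using this) (by rw [conj_Q, pe_inv, pe_mul]; exact pe_mem_P ..)
  rw [← map_one ι, S.inj.eq_iff, conj_Q, pe_inv, pe_mul, ← pe_zero, pe_inj] at e
  exact dj _ hg (mem_map_of_mem ι ⟨by grind, by grind⟩)

end Setup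

end Cfsg.Agent.H5.HS
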