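import Cfsg.Agent.BS.ZasA
import Cfsg.Agent.L0.Char4

/-!
# The `(3,3,3)` argument for an abelian TI Sylow `3`-subgroup
-/

set_option autoImplicit false

namespace Cfsg.Agent.H5

open Subgroup Cfsg.Agent.L0
open scoped ComplexConjugate

theorem tri333 {B : Type*} [Group B] [Finite B] {x y : B} (hx : x ^ 3 = 1) (hy : y ^ 3 = 1)
    (hxy : (x * y) ^ 3 = 1) :
    IsConj x y ∨ ∃ s : B, s ≠ 1 ∧ s ^ 3 = 1 ∧ x * s = s * x ∧ y * s = s * y := by
  obtain ⟨u, rfl⟩ : ∃ u, y = x * u := ⟨x⁻¹ * y, by group⟩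
  have x3 : x * x * x = 1 := by rw [← hx]; simp [pow_succ]
  have xi : x⁻¹ = x * x := by rw [inv_eq_iff_mul_eq_one, ← mul_assoc, x3]
  have e1 : (x * u * x⁻¹) * (x⁻¹ * u * x) * u = 1 := by
    rw [← hy]
    calc _ = x * u * (x⁻¹ * x⁻¹) * u * x * u := by group
      _ = _ := by rw [show x⁻¹ * x⁻¹ = x by rw [← mul_inv_rev, ← xi, inv_inv]]; simp [pow_succ, mul_assoc]
  have e2 : (x⁻¹ * u * x) * (x * u * x⁻¹) * u = 1 := by
    rw [← hxy]
    calc _ = x⁻¹ * u * (x * x) * u * x⁻¹ * u := by group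
      _ = _ := by rw [xi]; simp [pow_succ, mul_assoc]
  have c1 : Commute (x * u * x⁻¹) (x⁻¹ * u * x) := mul_right_cancel (e1.trans e2.symm)
  have eu : u = ((x * u * x⁻¹) * (x⁻¹ * u * x))⁻¹ := eq_inv_of_mul_eq_one_right e1
  have c2 : Commute u (x * u * x⁻¹) := by
    nth_rewrite 1 [eu]; exact ((Commute.refl _).mul_left c1.symm).inv_left
  have c3 : Commute u (x⁻¹ * u * x) := by
    nth_rewrite 1 [eu]; exact (c1.mul_left (Commute.refl _)).inv_left
  have key : ∀ k : ℕ, Commute (u ^ k) (x * u ^ k * x⁻¹) ∧ Commute u (x * u ^ k * x⁻¹) ∧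
      x⁻¹ * u ^ k * x = (u ^ k * (x * u ^ k * x⁻¹))⁻¹ := fun k => by
    have a1 : x * u ^ k * x⁻¹ = (x * u * x⁻¹) ^ k := conj_pow.symm
    have a2 : x⁻¹ * u ^ k * x = (x⁻¹ * u * x) ^ k := by
      have := @conj_pow _ _ k x⁻¹ u; rw [inv_inv] at this; exact this.symm
    refine ⟨a1 ▸ c2.pow_pow k k, a1 ▸ c2.pow_right k, ?_⟩
    rw [a1, a2, ← c2.mul_pow, ← inv_pow]
    congr 1
    rw [eq_inv_iff_mul_eq_one, ← mul_assoc, ← c3.eq, mul_assoc, ← c1.eq, (c2.mul_right c3).eq, e1]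
  by_cases h3 : 3 ∣ orderOf u
  · right
    obtain ⟨k, hk⟩ := h3
    have hpos := orderOf_pos u
    have U3 : (u ^ k) ^ 3 = 1 := by rw [← pow_mul, mul_comm, ← hk, pow_orderOf_eq_one]
    have U1 : u ^ k ≠ 1 := pow_ne_one_of_lt_orderOf (by omega) (by omega)
    obtain ⟨k1, k2, k3⟩ := key k
    set U := u ^ k with hU
    set W := x * U * x⁻¹ with hW
    have W3 : W ^ 3 = 1 := by rw [hW, conj_pow, U3]; group
    have cU : Commute u U := Commute.self_pow u k
    by_cases e : W = U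
    · have : x * U = U * x := mul_inv_eq_iff_eq_mul.1 e
      exact ⟨U, U1, U3, this, by rw [mul_assoc, cU.eq, ← mul_assoc, this, mul_assoc]⟩
    · have hs : x * (U * W⁻¹) = U * W⁻¹ * x := by
        have b1 : x * W * x⁻¹ = (U * W)⁻¹ := by
          rw [← k3, hW]
          calc _ = (x * x) * U * (x⁻¹ * x⁻¹) := by group
            _ = _ := by rw [← xi, ← mul_inv_rev, ← xi, inv_inv]
        have b2 : W⁻¹ = W * W := by rw [inv_eq_iff_mul_eq_one, ← W3]; simp [pow_succ, mul_assoc]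
        calc x * (U * W⁻¹) = (x * U * x⁻¹) * (x * W * x⁻¹)⁻¹ * x := by group
          _ = _ := by rw [b1, inv_inv, ← hW, b2, ← mul_assoc, ← k1.eq, mul_assoc U]
      refine ⟨U * W⁻¹, fun h => e (mul_inv_eq_one.1 h).symm, ?_, hs, ?_⟩
      · rw [k1.inv_right.mul_pow, U3, inv_pow, W3]; simp
      · rw [mul_assoc, (cU.mul_right k2.inv_right).eq, ← mul_assoc, hs, mul_assoc]
  · left
    obtain ⟨j, hj⟩ := exists_pow_eq_self_of_coprime
      (x := u) (n := 3) ((Nat.Prime.coprime_iff_not_dvd Nat.prime_three).2 h3)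
    obtain ⟨k1, k2, k3⟩ := key j
    set U := u ^ j with hU
    set W := x * U * x⁻¹ with hW
    have U3 : U * U * U = u := by rw [← hj, ← pow_mul, mul_comm 3, pow_mul]; simp [hU, pow_succ]
    refine isConj_iff.2 ⟨W * U⁻¹, ?_⟩
    calc W * U⁻¹ * x * (W * U⁻¹)⁻¹ = x * (U * (x⁻¹ * U * x)⁻¹ * U * W⁻¹) := by rw [hW]; group
      _ = _ := by rw [k3, inv_inv, ← U3, mul_assoc U (U * W), mul_assoc U W, ← k1.eq]; group

theorem gen_norm_two {B : Type*} [Group B] [Fintype B] {θ : B → ℂ}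
    (h : IsGeneralizedCharacter B θ) (h2 : classInner θ θ = 2) (h1 : θ 1 = 0) :
    ∃ a b : IrrCharacter B, a ≠ b ∧ θ = a.1 - b.1 := by
  classical
  obtain ⟨n, -, hn, hn2⟩ := IsGeneralizedCharacter.exists_eq_sum_zsmul h
  choose N hN hN' using fun χ : IrrCharacter B => IsIrrCharacter.exists_nat_pos χ.2
  obtain ⟨a, b, hab, e⟩ := BS.Zas.norm_two (N := fun χ => (N χ : ℤ)) (v := n)
    (fun χ => by exact_mod_cast hN χ) (by
      rw [h2] at hn2
      simp only [← sq]; exact_mod_cast hn2.symm) (by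
      have := congrFun hn 1
      rw [h1, Finset.sum_apply] at this
      simp only [Pi.smul_apply, hN', zsmul_eq_mul] at this
      exact_mod_cast this.symm)
  refine ⟨a, b, hab, ?_⟩
  rw [hn, e]
  simp [sub_smul, Finset.sum_sub_distrib, Pi.single_apply]

theorem all_eq_or {ι α : Type*} {a b : ι → α} (h : ∀ i j, a i = a j ∨ b i = b j) :
    (∀ i j, a i = a j) ∨ ∀ i j, b i = b j := by
  by_contra hc
  push Not at hc
  obtain ⟨⟨i, j, h1⟩, k, l, h2⟩ := hc
  have e1 := (h i j).resolve_left h1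
  have e2 := (h k l).resolve_right h2
  have : ∀ m, b m ≠ b i → False := fun m hm =>
    h1 (((h m i).resolve_right hm).symm.trans ((h m j).resolve_right (e1 ▸ hm)))
  by_cases e : b k = b i
  · exact this l (fun e' => h2 (e.trans e'.symm))
  · exact this k e

section

variable {B : Type*} [Group B] {A : Subgroup B}

def TIs (A : Subgroup B) : Prop :=
  ∀ g : B, ∀ a ∈ A, a ≠ 1 → g * a * g⁻¹ ∈ A → g ∈ normalizer (A : Set B)

theorem sum_norm [Fintype B] {M : Type*} [AddCommMonoid M] (N : Subgroup B) [Fintype N] (f : B → M)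
    (h : ∀ g, g ∉ N → f g = 0) : ∑ g, f g = ∑ n : N, f n := by
  classical
  rw [← Finset.sum_subtype (Finset.univ.filter (· ∈ N)) (by simp), Finset.sum_filter]
  exact Finset.sum_congr rfl fun g _ => by split_ifs with e; exacts [rfl, h g e]

/-- conjugate of an irreducible character of `A` -/
def cj (n : normalizer (A : Set B)) (l : IrrCharacter A) : IrrCharacter A :=
  ⟨fun a => l.1 (A.normalizerMonoidHom n a), IsIrrCharacter.comp_of_surjective l.2
    (A.normalizerMonoidHom n).toMonoidHom (A.normalizerMonoidHom n).surjective⟩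

theorem cj_mul (n k : normalizer (A : Set B)) (l : IrrCharacter A) :
    cj (n * k) l = cj k (cj n l) := by
  ext a; simp only [cj, map_mul, MulAut.mul_apply]

theorem cj_one (l : IrrCharacter A) : cj 1 l = l := by
  ext a; simp only [cj, map_one, MulAut.one_apply]

variable [Fintype (normalizer (A : Set B))]

/-- the orbit sum of a linear character of `A` under the normalizer -/
noncomputable def orb (l : A → ℂ) (a : A) : ℂ :=
  (Nat.card A : ℂ)⁻¹ * ∑ n : normalizer (A : Set B), l (A.normalizerMonoidHom n a)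

theorem indFun_eq_orb [Fintype B] (hT : TIs A) (l : A → ℂ) (a : A) (ha : a ≠ 1) :
    indFun A l a = orb l a := by
  rw [indFun_apply', orb, sum_norm (normalizer (A : Set B))]
  · congr 1
    exact Finset.sum_congr rfl fun n _ => extendByZero_coe A l (A.normalizerMonoidHom n a)
  · exact fun g hg => extendByZero_of_not_mem _ _ fun h =>
      hg (hT g a a.2 (fun e => ha (Subtype.ext e)) h)

open Classical in
theorem inner_orb [Fintype A] (l m : IrrCharacter A) : classInner (orb l.1) m.1 =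
    (Nat.card A : ℂ)⁻¹ * (Finset.univ.filter fun n => cj n l = m).card := by
  have : orb l.1 = (Nat.card A : ℂ)⁻¹ • ∑ n, (cj n l).1 := by
    funext a; simp [orb, cj, Finset.sum_apply]
  rw [this, classInner_smul_left, classInner_sum_left]
  simp only [classInner_irr, Finset.sum_boole]

theorem orb_cj (n : normalizer (A : Set B)) (l : IrrCharacter A) :
    orb (cj n l).1 = orb l.1 := by
  funext a
  unfold orb
  congr 1
  refine Fintype.sum_equiv (Equiv.mulLeft n) _ _ fun k => ?_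
  simp only [cj, Equiv.coe_mulLeft, map_mul, MulAut.mul_apply]

open Classical in
theorem inner_orb_reg [Fintype A] {l : IrrCharacter A} (hl : ∀ n, cj n l = l ↔ (n : B) ∈ A)
    (m : IrrCharacter A) :
    classInner (orb l.1) m.1 = if ∃ n, cj n l = m then 1 else 0 := by
  rw [inner_orb]
  split_ifs with h
  · obtain ⟨n, rfl⟩ := h
    have : (Finset.univ.filter fun k => cj k l = cj n l).card = Nat.card A := by
      rw [← Fintype.card_subtype, ← Nat.card_eq_fintype_card]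
      refine Nat.card_congr ⟨fun k => ⟨k.1 * n⁻¹, (hl (k.1 * n⁻¹)).1 (by
        rw [cj_mul, k.2, ← cj_mul, mul_inv_cancel, cj_one])⟩,
        fun a => ⟨⟨a, le_normalizer a.2⟩ * n, by rw [cj_mul, (hl _).2 a.2]⟩, fun k => ?_,
        fun a => ?_⟩
      · ext; simp
      · ext; simp
    rw [this, inv_mul_cancel₀ (natCard_ne_zero _)]
  · push Not at h
    simp [h]

omit [Fintype (normalizer (A : Set B))] in
theorem exists_hom [Finite B] (hc : ∀ a ∈ A, ∀ b ∈ A, a * b = b * a) (l : IrrCharacter A) :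
    ∃ φ : A →* ℂ, l.1 = φ := by
  have : IsMulCommutative A := ⟨⟨fun a b => Subtype.ext (hc _ a.2 _ b.2)⟩⟩
  exact IsCharacter.exists_monoidHom_of_apply_one (IsIrrCharacter.isCharacter l.2)
    (IsIrrCharacter.apply_one_of_isMulCommutative l.2)

/-- The exceptional characters. -/
theorem exceptional [Fintype B] (hT : TIs A) (hc : ∀ a ∈ A, ∀ b ∈ A, a * b = b * a)
    (R : IrrCharacter A → Prop) (hR : ∀ l, R l → ∀ n, cj n l = l ↔ (n : B) ∈ A)
    {m : IrrCharacter A} (hm : R m) : ∃ (ψ : IrrCharacter B) (ε : ℂ), (ε = 1 ∨ ε = -1) ∧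
      ∀ l, R l → ∃ χ : IrrCharacter B, indFun A l.1 - indFun A m.1 = ε • (χ.1 - ψ.1) := by
  classical
  have := Fintype.ofFinite A
  have one : ∀ l : IrrCharacter A, l.1 1 = 1 := fun l => by
    obtain ⟨φ, h⟩ := exists_hom hc l; rw [h, map_one]
  have res : ∀ l : IrrCharacter A, (fun a : A => (indFun A l.1 - indFun A m.1) a) =
      orb l.1 - orb m.1 := fun l => by
    funext a
    by_cases ha : a = 1
    · subst ha
      simp [indFun_apply_one, orb, one]
    · simp [indFun_eq_orb hT _ a ha]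
  have cf : ∀ l : IrrCharacter A, IsClassFunction B (indFun A l.1 - indFun A m.1) := fun l =>
    IsClassFunction.sub (indFun_isClassFunction _ _) (indFun_isClassFunction _ _)
  have inn : ∀ l l' : IrrCharacter A, R l → classInner (indFun A l.1 - indFun A m.1)
      (indFun A l'.1 - indFun A m.1) = (if ∃ n, cj n l = l' then 1 else 0) -
        (if ∃ n, cj n m = l' then 1 else 0) - ((if ∃ n, cj n l = m then 1 else 0) - 1) := by
    intro l l' hl
    rw [classInner_sub_right, classInner_indFun_right _ _ (cf l), classInner_indFun_right _ _ (cf l),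
      res, classInner_sub_left, classInner_sub_left, inner_orb_reg (hR l hl),
      inner_orb_reg (hR l hl), inner_orb_reg (hR m hm), inner_orb_reg (hR m hm),
      if_pos (⟨1, cj_one m⟩ : ∃ n, cj n m = m)]
  have sy : ∀ {l l' : IrrCharacter A}, (∃ n, cj n l = l') → ∃ n, cj n l' = l := by
    rintro l _ ⟨n, rfl⟩
    exact ⟨n⁻¹, by rw [← cj_mul, mul_inv_cancel, cj_one]⟩
  have ex : ∀ l : {l // R l ∧ ¬ ∃ n, cj n l = m}, ∃ a b : IrrCharacter B, a ≠ b ∧
      indFun A l.1.1 - indFun A m.1 = a.1 - b.1 := fun l => by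
    have g : ∀ l : IrrCharacter A, IsGeneralizedCharacter B (indFun A l.1) := fun l =>
      IsGeneralizedCharacter.indFun (IsIrrCharacter.isGeneralized l.2)
    refine gen_norm_two (IsGeneralizedCharacter.sub (g _) (g _)) ?_ (by simp [indFun_apply_one, one])
    rw [inn _ _ l.2.1, if_pos ⟨1, cj_one _⟩, if_neg l.2.2, if_neg (fun h => l.2.2 (sy h))]
    norm_num
  choose a b hab e using ex
  have z : ∀ l, R l → (∃ n, cj n l = m) → indFun A l.1 - indFun A m.1 = 0 := fun l hl h => by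
    apply eq_zero_of_classInner_self_eq_zero
    rw [inn _ _ hl, if_pos ⟨1, cj_one _⟩, if_pos h, if_pos (sy h)]
    norm_num
  by_cases hne : Nonempty {l // R l ∧ ¬ ∃ n, cj n l = m}
  swap
  · refine ⟨irrOne B, 1, Or.inl rfl, fun l hl => ⟨irrOne B, ?_⟩⟩
    rw [z l hl (by by_contra h; exact hne ⟨⟨l, hl, h⟩⟩)]; simp
  obtain ⟨l0⟩ := hne
  rcases all_eq_or (a := a) (b := b) (fun i j => by
    have := inn i.1 j.1 i.2.1
    rw [e, e, if_neg i.2.2, if_neg (fun h => j.2.2 (sy h))] at this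
    simp only [classInner_sub_left, classInner_sub_right, classInner_irr] at this
    by_contra hc
    push Not at hc
    rw [if_neg hc.1, if_neg hc.2] at this
    split_ifs at this <;> norm_num at this) with h | h
  · refine ⟨a l0, -1, Or.inr rfl, fun l hl => ?_⟩
    by_cases hl' : ∃ n, cj n l = m
    · exact ⟨a l0, by rw [z l hl hl']; simp⟩
    · exact ⟨b ⟨l, hl, hl'⟩, by rw [e ⟨l, hl, hl'⟩, h _ l0]; simp⟩
  · refine ⟨b l0, 1, Or.inl rfl, fun l hl => ?_⟩
    by_cases hl' : ∃ n, cj n l = m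
    · exact ⟨b l0, by rw [z l hl hl']; simp⟩
    · exact ⟨a ⟨l, hl, hl'⟩, by rw [e ⟨l, hl, hl'⟩, h _ l0]; simp⟩

omit [Fintype (normalizer (A : Set B))] in
theorem cj_eq_iff [Finite B] (hc : ∀ a ∈ A, ∀ b ∈ A, a * b = b * a) {A0 : Subgroup B}
    (hA0 : A0 ≤ A) (hA0n : ∀ n ∈ normalizer (A : Set B), ∀ a ∈ A0, n * a * n⁻¹ ∈ A0)
    (hreg : ∀ n ∈ normalizer (A : Set B), ∀ a ∈ A0, a ≠ 1 → n * a * n⁻¹ = a → n ∈ A)
    {l : IrrCharacter A} (hl : ∃ a : A, (a : B) ∈ A0 ∧ l.1 a ≠ 1) (n : normalizer (A : Set B)) :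
    cj n l = l ↔ (n : B) ∈ A := by
  refine ⟨fun h => ?_, fun h => ?_⟩
  swap
  · ext a
    refine congrArg l.1 (Subtype.ext ?_)
    change (n : B) * a * (n : B)⁻¹ = a
    rw [hc _ h _ a.2, mul_inv_cancel_right]
  by_contra hn
  obtain ⟨φ, hφ⟩ := exists_hom hc l
  obtain ⟨a0, h0, h1⟩ := hl
  let f : A0 → A0 := fun a => ⟨n * a * (n : B)⁻¹ * a⁻¹, mul_mem (hA0n _ n.2 _ a.2) (inv_mem a.2)⟩
  have inj : Function.Injective f := fun a b e => by
    have e' : (n : B) * a * (n : B)⁻¹ * (a : B)⁻¹ = n * b * (n : B)⁻¹ * (b : B)⁻¹ := congrArg Subtype.val e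
    by_contra hab
    refine hn (hreg _ n.2 ((b : B)⁻¹ * a) (mul_mem (inv_mem b.2) a.2)
      (fun h => hab (Subtype.ext (inv_mul_eq_one.1 h).symm)) ?_)
    have c := hc _ (hA0 (hA0n _ n.2 _ b.2)) _ (hA0 (inv_mem b.2))
    calc _ = ((n : B) * b * (n : B)⁻¹)⁻¹ * (n * a * (n : B)⁻¹ * (a : B)⁻¹) * a := by group
      _ = _ := by rw [e']; group
  obtain ⟨a, ha⟩ := Finite.injective_iff_surjective.1 inj ⟨a0, h0⟩
  have e1 := congrFun (congrArg Subtype.val h) ⟨a, hA0 a.2⟩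
  simp only [cj, hφ] at e1
  have e2 : a0 * ⟨a, hA0 a.2⟩ = A.normalizerMonoidHom n ⟨a, hA0 a.2⟩ := by
    ext
    have : (n : B) * a * (n : B)⁻¹ * (a : B)⁻¹ = a0 := congrArg Subtype.val ha
    change (a0 : B) * a = n * a * (n : B)⁻¹
    rw [← this]; group
  rw [← e2, map_mul] at e1
  apply h1
  rw [hφ]
  exact mul_right_cancel₀ ((Group.isUnit _).map φ).ne_zero (e1.trans (one_mul _).symm)

omit [Fintype (normalizer (A : Set B))] in
theorem mem_of_tri [Finite B] (hT : TIs A) (h3 : ∀ a ∈ A, a ^ 3 = 1)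
    (hS : ∀ g ∈ normalizer (A : Set B), g ^ 3 = 1 → g ∈ A) {x y : B} (hx : x ^ 3 = 1)
    (hy : y ^ 3 = 1) (hxy : ¬ IsConj x y) (h : x * y ∈ A) (h1 : x * y ≠ 1) : x ∈ A ∧ y ∈ A := by
  obtain ⟨s, s1, s3, c1, c2⟩ := (tri333 hx hy (h3 _ h)).resolve_left hxy
  have hs : s ∈ A := hS _ (hT _ _ h h1 (by
    rw [← mul_assoc, ← c1, mul_assoc x, ← c2, ← mul_assoc, mul_inv_cancel_right]; exact h)) s3
  have hx' : x ∈ A := hS _ (hT _ _ hs s1 (by rw [c1, mul_inv_cancel_right]; exact hs)) hx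
  exact ⟨hx', by simpa using mul_mem (inv_mem hx') h⟩

omit [Fintype (normalizer (A : Set B))] in
theorem sq_lt_card [Finite B] (hT : TIs A) {g : B} (hg : g ∉ normalizer (A : Set B)) :
    Nat.card A ^ 2 < Nat.card B := by
  let f : A × A → {x : B // x ≠ 1} := fun p => ⟨p.1 * g * p.2, fun h => hg (le_normalizer (by
    have : g = (p.1 : B)⁻¹ * (p.2 : B)⁻¹ := by
      rw [eq_mul_inv_iff_mul_eq, eq_inv_iff_mul_eq_one, mul_eq_one_comm, ← mul_assoc, h]
    rw [this]; exact mul_mem (inv_mem p.1.2) (inv_mem p.2.2)))⟩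
  have inj : Function.Injective f := fun p q e => by
    have e' : (p.1 : B) * g * p.2 = q.1 * g * q.2 := congrArg Subtype.val e
    have e2 : g * (p.2 * (q.2 : B)⁻¹) * g⁻¹ = (p.1 : B)⁻¹ * q.1 := by
      calc _ = (p.1 : B)⁻¹ * (p.1 * g * p.2) * (q.2 : B)⁻¹ * g⁻¹ := by group
        _ = _ := by rw [e']; group
    have e3 : (p.2 : B) * (q.2 : B)⁻¹ = 1 := by
      by_contra h
      exact hg (hT _ _ (mul_mem p.2.2 (inv_mem q.2.2)) h (e2 ▸ mul_mem (inv_mem p.1.2) q.1.2))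
    rw [e3, mul_one, mul_inv_cancel, eq_comm, inv_mul_eq_one] at e2
    exact Prod.ext (Subtype.ext e2) (Subtype.ext (mul_inv_eq_one.1 e3))
  have h1 := Nat.card_le_card_of_injective f inj
  rw [Nat.card_prod, ← sq] at h1
  exact h1.trans_lt (Finite.card_subtype_lt (x := 1) (by simp))

theorem sum_tri [Fintype B] (hT : TIs A) (hc : ∀ a ∈ A, ∀ b ∈ A, a * b = b * a)
    (h3 : ∀ a ∈ A, a ^ 3 = 1) (hS : ∀ g ∈ normalizer (A : Set B), g ^ 3 = 1 → g ∈ A)
    {x y : A} (hx : x ≠ 1) (hy : y ≠ 1) (hxy : ¬ IsConj (x : B) y) (l m : IrrCharacter A) :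
    ∑ h : B, ∑ g : B, (indFun A l.1 - indFun A m.1) (g * x * g⁻¹ * (h * y * h⁻¹)) =
      Nat.card A * Nat.card B * (orb l.1 x * orb l.1 y - orb m.1 x * orb m.1 y) := by
  obtain ⟨φ, hφ⟩ := exists_hom hc l
  obtain ⟨ψ, hψ⟩ := exists_hom hc m
  set E := extendByZero A (l.1 - m.1) with hE
  have e1 : ∀ k : B, ∑ h : B, ∑ g : B, E (k * (g * x * g⁻¹ * (h * y * h⁻¹)) * k⁻¹) =
      ∑ h : B, ∑ g : B, E (g * x * g⁻¹ * (h * y * h⁻¹)) := fun k =>
    Fintype.sum_equiv (Equiv.mulLeft k) _ _ fun h => Fintype.sum_equiv (Equiv.mulLeft k) _ _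
      fun g => by congr 1; simp [mul_assoc]
  have z : ∀ g h : B, g ∉ normalizer (A : Set B) ∨ h ∉ normalizer (A : Set B) →
      E (g * x * g⁻¹ * (h * y * h⁻¹)) = 0 := fun g h hgh => by
    by_cases a1 : g * x * g⁻¹ * (h * y * h⁻¹) = 1
    · rw [a1, hE, extendByZero_of_mem _ _ (one_mem A)]
      change l.1 1 - m.1 1 = 0
      rw [hφ, hψ, map_one, map_one, sub_self]
    refine extendByZero_of_not_mem _ _ fun a2 => ?_
    obtain ⟨b1, b2⟩ := mem_of_tri hT h3 hS (by rw [conj_pow, h3 _ x.2]; group)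
      (by rw [conj_pow, h3 _ y.2]; group) (fun c => hxy
        (((isConj_iff.2 ⟨g, rfl⟩).trans c).trans (isConj_iff.2 ⟨h, rfl⟩).symm)) a2 a1
    exact hgh.elim (fun c => c (hT _ _ x.2 (fun e => hx (Subtype.ext e)) b1))
      (fun c => c (hT _ _ y.2 (fun e => hy (Subtype.ext e)) b2))
  have e2 : ∑ h : B, ∑ g : B, E (g * x * g⁻¹ * (h * y * h⁻¹)) =
      Nat.card A ^ 2 * (orb l.1 x * orb l.1 y - orb m.1 x * orb m.1 y) := by
    rw [sum_norm (normalizer (A : Set B)) _ fun h hh => Finset.sum_eq_zero fun g _ => z g h (.inr hh)]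
    have : ∀ h : normalizer (A : Set B), ∑ g : B, E (g * x * g⁻¹ * (h * y * (h : B)⁻¹)) =
        ∑ g : normalizer (A : Set B), (φ (A.normalizerMonoidHom g x) * φ (A.normalizerMonoidHom h y)
          - ψ (A.normalizerMonoidHom g x) * ψ (A.normalizerMonoidHom h y)) := fun h => by
      rw [sum_norm (normalizer (A : Set B)) _ fun g hg => z g h (.inl hg)]
      refine Finset.sum_congr rfl fun g _ => ?_
      rw [← map_mul, ← map_mul, ← hφ, ← hψ]
      exact extendByZero_coe A _ (A.normalizerMonoidHom g x * A.normalizerMonoidHom h y)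
    simp only [this, Finset.sum_sub_distrib, ← Finset.sum_mul, ← Finset.mul_sum, orb, hφ, hψ]
    have := natCard_ne_zero A
    field_simp
  simp only [← indFun_sub, indFun_apply', ← Finset.mul_sum, ← hE]
  simp only [Finset.sum_comm (γ := B) (α := B) (f := fun g k => E (k * (g * x * g⁻¹ * _) * k⁻¹))]
  rw [Finset.sum_comm]
  simp only [e1, e2, Finset.sum_const, Finset.card_univ, nsmul_eq_mul, ← Nat.card_eq_fintype_card]
  have := natCard_ne_zero A
  field_simp

open Classical in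
theorem sum_lin [Finite B] (hc : ∀ a ∈ A, ∀ b ∈ A, a * b = b * a) (a b : A) :
    ∑ l : IrrCharacter A, l.1 a * conj (l.1 b) = if a = b then (Nat.card A : ℂ) else 0 := by
  rw [sum_irr_mul_conj]
  have : IsConj a b ↔ a = b := ⟨fun h => by
    obtain ⟨g, rfl⟩ := isConj_iff.1 h
    rw [eq_mul_inv_iff_mul_eq]; exact Subtype.ext (hc _ a.2 _ g.2), fun h => h ▸ IsConj.refl _⟩
  rw [show centralizer ({a} : Set A) = ⊤ from eq_top_iff.2 fun g _ =>
    mem_centralizer_singleton_iff.2 (Subtype.ext (hc _ g.2 _ a.2)), card_top]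
  simp only [this]

end

/-- The `(3,3,3)` theorem. -/
theorem gl333 {B : Type*} [Group B] [Finite B] {A A0 : Subgroup B} (hT : TIs A)
    (hc : ∀ a ∈ A, ∀ b ∈ A, a * b = b * a) (h3 : ∀ a ∈ A, a ^ 3 = 1)
    (hS : ∀ g ∈ normalizer (A : Set B), g ^ 3 = 1 → g ∈ A) (hA0 : A0 ≤ A)
    (hA0n : ∀ n ∈ normalizer (A : Set B), ∀ a ∈ A0, n * a * n⁻¹ ∈ A0)
    (hreg : ∀ n ∈ normalizer (A : Set B), ∀ a ∈ A0, a ≠ 1 → n * a * n⁻¹ = a → n ∈ A)
    {x y b : B} (hx : x ∈ A) (hy : y ∈ A) (hb : b ∈ A0) (x1 : x ≠ 1) (y1 : y ≠ 1)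
    (xy1 : x * y ≠ 1) (xyb1 : x * y * b ≠ 1)
    (d0 : ∀ n ∈ normalizer (A : Set B), n * x * n⁻¹ ≠ y)
    (d1 : ∀ n ∈ normalizer (A : Set B), n * x * n⁻¹ ≠ x * y ∧ n * x * n⁻¹ ≠ x * y * b)
    (d2 : ∀ n ∈ normalizer (A : Set B), n * y * n⁻¹ ≠ x * y ∧ n * y * n⁻¹ ≠ x * y * b)
    (d3 : ∀ n ∈ normalizer (A : Set B), ∀ k ∈ normalizer (A : Set B),
      n * x * n⁻¹ * (k * y * k⁻¹) ≠ x * y * b) : A.Normal := by
  classical
  have := Fintype.ofFinite B
  rw [← normalizer_eq_top_iff, eq_top_iff]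
  intro g0 _
  by_contra hg0
  have hxy : ¬ IsConj x y := fun h => by
    obtain ⟨g, hg⟩ := isConj_iff.1 h
    exact d0 g (hT _ _ hx x1 (hg ▸ hy)) hg
  lift x to A using hx
  lift y to A using hy
  lift b to A using hA0 hb
  replace x1 : x ≠ 1 := fun e => x1 (congrArg Subtype.val e)
  replace y1 : y ≠ 1 := fun e => y1 (congrArg Subtype.val e)
  replace xy1 : x * y ≠ 1 := fun e => xy1 (congrArg Subtype.val e)
  replace xyb1 : x * y * b ≠ 1 := fun e => xyb1 (congrArg Subtype.val e)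
  set N := normalizer (A : Set B)
  let R : IrrCharacter A → Prop := fun l => ∃ a : A, (a : B) ∈ A0 ∧ l.1 a ≠ 1
  let w : IrrCharacter A → ℂ := fun l => conj (l.1 (x * y)) - conj (l.1 (x * y * b))
  have w0 : ∀ l, ¬ R l → w l = 0 := fun l hl => by
    obtain ⟨φ, hφ⟩ := exists_hom hc l
    have : l.1 b = 1 := by by_contra h; exact hl ⟨b, hb, h⟩
    simp only [w]
    rw [hφ] at this ⊢
    rw [map_mul _ (x * y), this, mul_one, sub_self]
  have sw : ∀ a : A, ∑ l : IrrCharacter A, l.1 a * w l =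
      (if a = x * y then (Nat.card A : ℂ) else 0) - if a = x * y * b then (Nat.card A : ℂ) else 0 :=
    fun a => by simp only [w, mul_sub, Finset.sum_sub_distrib, sum_lin hc]
  have s0 : ∑ l : IrrCharacter A, w l = 0 := by
    have := sw 1
    rw [if_neg xy1.symm, if_neg xyb1.symm, sub_self] at this
    rw [← this]
    refine Finset.sum_congr rfl fun l _ => ?_
    obtain ⟨φ, hφ⟩ := exists_hom hc l
    rw [hφ, map_one, one_mul]
  have s1 : ∀ a : A, (∀ n ∈ N, n * a * n⁻¹ ≠ x * y ∧ n * a * n⁻¹ ≠ x * y * b) →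
      ∑ l : IrrCharacter A, orb l.1 a * w l = 0 := fun a ha => by
    simp only [orb, mul_assoc, ← Finset.mul_sum, Finset.sum_mul]
    rw [Finset.sum_comm, Finset.sum_eq_zero, mul_zero]
    intro n _
    rw [sw, if_neg (fun e => (ha n n.2).1 (congrArg Subtype.val e)),
      if_neg (fun e => (ha n n.2).2 (congrArg Subtype.val e)), sub_self]
  have s2 : ∑ l : IrrCharacter A, orb l.1 x * orb l.1 y * w l ≠ 0 := by
    have e : ∀ l : IrrCharacter A, orb l.1 x * orb l.1 y * w l = (Nat.card A : ℂ)⁻¹ ^ 2 *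
        ∑ p : N × N, l.1 (A.normalizerMonoidHom p.1 x * A.normalizerMonoidHom p.2 y) * w l :=
      fun l => by
        obtain ⟨φ, hφ⟩ := exists_hom hc l
        simp only [orb, hφ, map_mul, Fintype.sum_prod_type, ← Finset.sum_mul, ← Finset.mul_sum]
        ring
    simp only [e, ← Finset.mul_sum]
    refine mul_ne_zero (pow_ne_zero _ (inv_ne_zero (natCard_ne_zero _))) ?_
    rw [Finset.sum_comm]
    have e3 : ∀ p : N × N, A.normalizerMonoidHom p.1 x * A.normalizerMonoidHom p.2 y ≠ x * y * b :=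
      fun p e => d3 _ p.1.2 _ p.2.2 (congrArg Subtype.val e)
    simp only [sw, if_neg (e3 _), sub_zero, ← Finset.sum_filter, Finset.sum_const, nsmul_eq_mul]
    refine mul_ne_zero (Nat.cast_ne_zero.2 (Finset.card_ne_zero.2 ⟨(1, 1), by simp⟩))
      (natCard_ne_zero _)
  obtain ⟨m, hm⟩ : ∃ m, R m := by
    by_contra h
    push Not at h
    exact s2 (Finset.sum_eq_zero fun l _ => by rw [w0 l (h l), mul_zero])
  obtain ⟨ψ, ε, hε, hψ⟩ := exceptional hT hc R
    (fun l hl n => cj_eq_iff hc hA0 hA0n hreg hl n) hm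
  have ε2 : ε * ε = 1 := by rcases hε with rfl | rfl <;> norm_num
  obtain ⟨d, d0, hd⟩ := IsIrrCharacter.exists_nat_pos ψ.2
  have d0' : (d : ℂ) ≠ 0 := Nat.cast_ne_zero.2 d0.ne'
  have T : ∀ χ : IrrCharacter B, ∑ h : B, ∑ g : B, χ.1 (g * x * g⁻¹ * (h * y * h⁻¹)) =
      Nat.card B ^ 2 * (χ.1 x * χ.1 y) / χ.1 1 := fun χ => by
    simp only [IsIrrCharacter.sum_conj_mul χ.2, IsIrrCharacter.isClassFunction χ.2 _ _,
      Finset.sum_const, Finset.card_univ, nsmul_eq_mul, ← Nat.card_eq_fintype_card]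
    ring
  have F : ∀ l, R l → (ε * Nat.card B / d - Nat.card A) *
      (orb l.1 x * orb l.1 y - orb m.1 x * orb m.1 y) + Nat.card B / d *
        ((ψ.1 x - ε * orb m.1 x) * (orb l.1 y - orb m.1 y) +
          (ψ.1 y - ε * orb m.1 y) * (orb l.1 x - orb m.1 x)) = 0 := fun l hl => by
    obtain ⟨χ, hχ⟩ := hψ l hl
    have e0 := sum_tri hT hc h3 hS x1 y1 hxy l m
    have v : ∀ a : A, a ≠ 1 → χ.1 a = ψ.1 a + ε * (orb l.1 a - orb m.1 a) := fun a ha => by
      have := congrFun hχ a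
      simp only [Pi.sub_apply, indFun_eq_orb hT _ a ha, Pi.smul_apply, smul_eq_mul] at this
      rw [this, ← mul_assoc, ε2]; ring
    have v1 : χ.1 1 = d := by
      have := congrFun hχ 1
      obtain ⟨φ, hφ⟩ := exists_hom hc l
      obtain ⟨φ', hφ'⟩ := exists_hom hc m
      simp only [Pi.sub_apply, indFun_apply_one, hφ, hφ', map_one, sub_self, Pi.smul_apply,
        smul_eq_mul, hd] at this
      linear_combination (-ε) * this - (χ.1 1 - d) * ε2
    rw [hχ] at e0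
    simp only [Pi.smul_apply, Pi.sub_apply, smul_eq_mul, ← Finset.mul_sum,
      Finset.sum_sub_distrib, T, v1, hd, v x x1, v y y1] at e0
    have := natCard_ne_zero B
    field_simp at e0 ⊢
    linear_combination e0 - (Nat.card B * ε * (orb l.1 x - orb m.1 x) * (orb l.1 y - orb m.1 y) +
      Nat.card B * (ψ.1 x * (orb l.1 y - orb m.1 y) + ψ.1 y * (orb l.1 x - orb m.1 x))) * ε2
  have β : ε * Nat.card B / d - Nat.card A = 0 := by
    have e : ∑ l : IrrCharacter A, ((ε * Nat.card B / d - Nat.card A) *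
      (orb l.1 x * orb l.1 y - orb m.1 x * orb m.1 y) + Nat.card B / d *
        ((ψ.1 x - ε * orb m.1 x) * (orb l.1 y - orb m.1 y) +
          (ψ.1 y - ε * orb m.1 y) * (orb l.1 x - orb m.1 x))) * w l = 0 :=
      Finset.sum_eq_zero fun l _ => by
        by_cases hl : R l
        · rw [F l hl, zero_mul]
        · rw [w0 l hl, mul_zero]
    simp only [add_mul, mul_assoc, Finset.sum_add_distrib, ← Finset.mul_sum, sub_mul (orb _ _),
      sub_mul (orb _ _ * _), Finset.sum_sub_distrib, s0, s1 x d1, s1 y d2] at e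
    simp only [mul_assoc] at s2
    simpa [s2] using e
  have e1 : Nat.card B = d * Nat.card A := by
    field_simp at β
    rcases hε with rfl | rfl
    · exact_mod_cast (by linear_combination β : (Nat.card B : ℂ) = d * Nat.card A)
    · have : ((Nat.card B + d * Nat.card A : ℕ) : ℂ) = 0 := by push_cast; linear_combination -β
      have h := Nat.card_pos (α := B)
      rw [Nat.cast_eq_zero] at this
      omega
  have e2 : d ^ 2 ≤ Nat.card B := by
    have h1 := sum_irr_norm_sq (G := B) 1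
    rw [show centralizer ({1} : Set B) = ⊤ from eq_top_iff.2 fun g _ =>
      mem_centralizer_singleton_iff.2 (by simp), card_top] at h1
    have h2 := Finset.single_le_sum (f := fun χ : IrrCharacter B => ‖χ.1 1‖ ^ 2)
      (fun _ _ => sq_nonneg _) (Finset.mem_univ ψ)
    rw [h1, hd] at h2
    simpa using (by exact_mod_cast h2 : d ^ 2 ≤ Nat.card B)
  have e3 := sq_lt_card hT hg0
  rw [e1] at e2 e3
  nlinarith

/-- The `(3,3,3)` theorem for a section `K / U`. -/
theorem gl333K {G : Type*} [Group G] [Finite G] {K A A0 U : Subgroup G} (hAK : A ≤ K)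
    (hUA : U ≤ A) (hA0 : A0 ≤ A) (hU : ∀ k ∈ K, ∀ u ∈ U, k * u * k⁻¹ ∈ U)
    (hT : ∀ g ∈ K, ∀ a ∈ A, a ∉ U → g * a * g⁻¹ ∈ A → g ∈ normalizer (A : Set G))
    (hc : ∀ a ∈ A, ∀ b ∈ A, a * b = b * a) (h3 : ∀ a ∈ A, a ^ 3 ∈ U)
    (hS : ∀ g ∈ K, g ∈ normalizer (A : Set G) → g ^ 3 ∈ U → g ∈ A)
    (hA0n : ∀ n ∈ K, n ∈ normalizer (A : Set G) → ∀ a ∈ A0, n * a * n⁻¹ ∈ A0)
    (hreg : ∀ n ∈ K, n ∈ normalizer (A : Set G) → ∀ a ∈ A0, a ∉ U → n * a * n⁻¹ * a⁻¹ ∈ U → n ∈ A)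
    {x y b : G} (hx : x ∈ A) (hy : y ∈ A) (hb : b ∈ A0) (x1 : x ∉ U) (y1 : y ∉ U)
    (xy1 : x * y ∉ U) (xyb1 : x * y * b ∉ U)
    (d : ∀ n ∈ K, n ∈ normalizer (A : Set G) → n * x * n⁻¹ * y⁻¹ ∉ U ∧
      n * x * n⁻¹ * (x * y)⁻¹ ∉ U ∧ n * x * n⁻¹ * (x * y * b)⁻¹ ∉ U ∧
      n * y * n⁻¹ * (x * y)⁻¹ ∉ U ∧ n * y * n⁻¹ * (x * y * b)⁻¹ ∉ U)
    (d3 : ∀ n ∈ K, n ∈ normalizer (A : Set G) → ∀ k ∈ K, k ∈ normalizer (A : Set G) →
      n * x * n⁻¹ * (k * y * k⁻¹) * (x * y * b)⁻¹ ∉ U) : K ≤ normalizer (A : Set G) := by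
  have : (U.subgroupOf K).Normal := ⟨fun u hu k => hU k k.2 u hu⟩
  let f := QuotientGroup.mk' (U.subgroupOf K)
  have sj : ∀ g, ∃ k, f k = g := QuotientGroup.mk'_surjective _
  have e1 : ∀ k : K, f k = 1 ↔ (k : G) ∈ U := fun k => QuotientGroup.eq_one_iff k
  have e2 : ∀ {k l : K}, f k = f l → (k : G) * (l : G)⁻¹ ∈ U := fun {k l} h =>
    (e1 (k * l⁻¹)).1 (by rw [map_mul, map_inv, h, mul_inv_cancel])
  have mA : ∀ k : K, f k ∈ (A.subgroupOf K).map f ↔ (k : G) ∈ A := fun k =>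
    ⟨fun ⟨l, hl, h⟩ => by simpa using mul_mem (hUA (e2 h.symm)) hl, fun h => ⟨k, h, rfl⟩⟩
  have nA : ∀ k : K, f k ∈ normalizer (((A.subgroupOf K).map f : Subgroup _) : Set _) ↔
      (k : G) ∈ normalizer (A : Set G) := fun k => by
    rw [mem_normalizer_iff, mem_normalizer_iff]
    refine ⟨fun h a => ?_, fun h g => ?_⟩
    · by_cases ha : a ∈ K
      · have := h (f ⟨a, ha⟩)
        rwa [← map_inv, ← map_mul, ← map_mul, mA, mA] at this
      · refine ⟨fun h => absurd (hAK h) ha, fun h => absurd ?_ ha⟩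
        simpa [mul_assoc] using mul_mem (mul_mem (inv_mem k.2) (hAK h)) k.2
    · obtain ⟨l, rfl⟩ := sj g
      rw [← map_inv, ← map_mul, ← map_mul, mA, mA]
      exact h l
  lift x to K using hAK hx
  lift y to K using hAK hy
  lift b to K using hAK (hA0 hb)
  have key := gl333 (A := (A.subgroupOf K).map f) (A0 := (A0.subgroupOf K).map f) (x := f x)
    (y := f y) (b := f b) (fun g a ha a1 h => by
      obtain ⟨g, rfl⟩ := sj g
      obtain ⟨a, rfl⟩ := sj a
      rw [← map_inv, ← map_mul, ← map_mul, mA] at h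
      exact (nA g).2 (hT g g.2 a ((mA a).1 ha) (fun h => a1 ((e1 a).2 h)) h))
    (by
      rintro _ ⟨a, ha, rfl⟩ _ ⟨b, hb, rfl⟩
      rw [← map_mul, ← map_mul]; exact congrArg f (Subtype.ext (hc _ ha _ hb)))
    (by rintro _ ⟨a, ha, rfl⟩; rw [← map_pow, e1]; exact h3 _ ha)
    (fun g hg h => by
      obtain ⟨g, rfl⟩ := sj g
      rw [← map_pow, e1] at h
      exact (mA g).2 (hS g g.2 ((nA g).1 hg) h))
    (map_mono fun _ h => hA0 h)
    (by
      rintro n hn _ ⟨a, ha, rfl⟩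
      obtain ⟨n, rfl⟩ := sj n
      exact ⟨n * a * n⁻¹, hA0n n n.2 ((nA n).1 hn) a ha, by simp⟩)
    (by
      rintro n hn _ ⟨a, ha, rfl⟩ a1 h
      obtain ⟨n, rfl⟩ := sj n
      rw [← map_inv, ← map_mul, ← map_mul] at h
      exact (mA n).2 (hreg n n.2 ((nA n).1 hn) a ha (fun h => a1 ((e1 a).2 h)) (e2 h)))
    ((mA x).2 hx) ((mA y).2 hy) ⟨b, hb, rfl⟩ (fun h => x1 ((e1 x).1 h)) (fun h => y1 ((e1 y).1 h))
    (fun h => xy1 ((e1 (x * y)).1 (by rwa [map_mul])))
    (fun h => xyb1 ((e1 (x * y * b)).1 (by rwa [map_mul, map_mul])))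
    (fun n hn h => by
      obtain ⟨n, rfl⟩ := sj n
      simp only [← map_inv, ← map_mul] at h
      exact (d n n.2 ((nA n).1 hn)).1 (e2 h))
    (fun n hn => by
      obtain ⟨n, rfl⟩ := sj n
      simp only [← map_inv, ← map_mul]
      exact ⟨fun h => (d n n.2 ((nA n).1 hn)).2.1 (e2 h),
        fun h => (d n n.2 ((nA n).1 hn)).2.2.1 (e2 h)⟩)
    (fun n hn => by
      obtain ⟨n, rfl⟩ := sj n
      simp only [← map_inv, ← map_mul]
      exact ⟨fun h => (d n n.2 ((nA n).1 hn)).2.2.2.1 (e2 h),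
        fun h => (d n n.2 ((nA n).1 hn)).2.2.2.2 (e2 h)⟩)
    (fun n hn k hk h => by
      obtain ⟨n, rfl⟩ := sj n
      obtain ⟨k, rfl⟩ := sj k
      simp only [← map_inv, ← map_mul] at h
      exact d3 n n.2 ((nA n).1 hn) k k.2 ((nA k).1 hk) (e2 h))
  intro k hk
  exact (nA ⟨k, hk⟩).1 (by rw [normalizer_eq_top]; trivial)

end Cfsg.Agent.H5
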