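import Cfsg.Agent.H5.HS2
import Cfsg.Agent.H5.T333
import Cfsg.Agent.FT.P01b

/-!
# The `3`-closed case: centralizers of elements of `M`
-/

set_option autoImplicit false

namespace Cfsg.Agent.H5.HS

open Subgroup Cfsg.Agent.H8

variable {F : Type*} [Field F] {G : Type*} [Group G] {ι : HS F →* G}

theorem pe_commutator (b u v z b' u' z' : F) :
    pe b u v z * pe b' u' 0 z' * (pe b u v z)⁻¹ * (pe b' u' 0 z')⁻¹ =
      pe 0 (-(b' * v)) 0 (b' * v ^ 2 - 2 * u' * v) := by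
  simp only [pe_inv, pe_mul, pe_inj]; refine ⟨?_, ?_, ?_, ?_⟩ <;> ring

theorem exP {g : G} (hg : g ∈ normalizer ((PP F).map ι : Set G)) (b u v z : F) :
    ∃ b' u' v' z', R ι g (pe b u v z) (pe b' u' v' z') := by
  obtain ⟨_, _, _, _, h⟩ := mem_P.1 ((mem_normalizer_iff.1 hg _).1 (pe_mem_P b u v z))
  exact ⟨_, _, _, _, h.symm⟩

theorem exM {g : G} (hg : g ∈ normalizer ((MM F).map ι : Set G)) (b u z : F) :
    ∃ b' u' z', R ι g (pe b u 0 z) (pe b' u' 0 z') := by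
  obtain ⟨_, _, _, h⟩ := mem_M.1 ((mem_normalizer_iff.1 hg _).1 (pe_mem_M b u z))
  exact ⟨_, _, _, h.symm⟩

def UU (F : Type*) [Field F] : Subgroup (HS F) := MM F ⊓ QQ F

theorem mem_U {g : G} : g ∈ (UU F).map ι ↔ ∃ u z, ι (pe 0 u 0 z) = g :=
  ⟨fun ⟨x, h, e⟩ => ⟨x.u, x.z, by rw [← e]; congr 1; rw [eq_pe h.1.1, h.1.2, h.2.2]; rfl⟩,
    fun ⟨_, _, e⟩ => ⟨_, ⟨⟨pe_mem .., rfl⟩, pe_mem .., rfl⟩, e⟩⟩

theorem M_pow (p : ℕ) [CharP F p] {a : G} (ha : a ∈ (MM F).map ι) : a ^ p = 1 := by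
  obtain ⟨b, u, z, rfl⟩ := mem_M.1 ha
  have : ∀ n : ℕ, pe b u 0 z ^ n = pe (n * b) (n * u) 0 (n * z) := fun n => by
    induction n with
    | zero => simp [pe_zero]
    | succ n ih => rw [pow_succ, ih, pe_mul, pe_inj]; push_cast; refine ⟨?_, ?_, ?_, ?_⟩ <;> ring
  rw [← map_pow, this, CharP.cast_eq_zero]; simp [pe_zero]

namespace Setup

variable (S : Setup ι) [Finite G]
include S

theorem exU {g : G} (hg : g ∈ normalizer ((PP F).map ι : Set G)) (u z : F) :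
    ∃ u' z', R ι g (pe 0 u 0 z) (pe 0 u' 0 z') ∧ (u ≠ 0 → u' ≠ 0) := by
  obtain ⟨_, _, _, _, h1⟩ := exP hg 0 0 (-u) 0
  obtain ⟨_, _, _, h2⟩ := exM (S.NP_le_NM hg) 1 0 0
  obtain ⟨_, h3⟩ := exZ (S.NP_le_NZ hg) (z - u ^ 2)
  have h := (((h1.mul h2).mul h1.inv).mul h2.inv).mul h3
  rw [pe_commutator, pe_commutator, pe_mul, pe_mul] at h
  simp only [add_zero, mul_zero, zero_mul, sub_zero] at h
  refine ⟨_, _, h.cast (by rw [pe_inj]; refine ⟨rfl, ?_, rfl, ?_⟩ <;> ring) rfl, fun hu e => hu ?_⟩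
  rw [e] at h
  obtain ⟨_, h4⟩ := exZ (inv_mem (S.NP_le_NZ hg)) _
  simpa using congrArg HS.u ((S.eq_iff h h4.symm').2 rfl)

theorem key {g : G} (hg : g ∈ normalizer ((PP F).map ι : Set G)) {b u z : F}
    (hw : R ι g (pe b u 0 z) (pe b u 0 z)) (v : F) : ∃ δ ζ ζ',
      R ι g (pe 0 (-(b * v)) 0 ζ) (pe 0 (-(b * δ)) 0 ζ') ∧
      R ι g (pe 0 0 0 (2 * b * v ^ 2)) (pe 0 0 0 (2 * b * δ ^ 2)) := by
  obtain ⟨_, _, δ, _, h1⟩ := exP hg 0 0 v 0
  have h := ((h1.mul hw).mul h1.inv).mul hw.inv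
  rw [pe_commutator, pe_commutator] at h
  have h' := ((h1.mul h).mul h1.inv).mul h.inv
  rw [pe_commutator, pe_commutator] at h'
  exact ⟨δ, _, _, h, h'.cast (by rw [pe_inj]; refine ⟨rfl, ?_, rfl, ?_⟩ <;> ring)
    (by rw [pe_inj]; refine ⟨rfl, ?_, rfl, ?_⟩ <;> ring)⟩

omit [Finite G] in
theorem mem_M_of_P {x : HS F} (hx : x ∈ PP F) {b u z : F} (hb : b ≠ 0)
    (hw : R ι (ι x) (pe b u 0 z) (pe b u 0 z)) : ι x ∈ (MM F).map ι := by
  have h := S.eq_of hw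
  rw [eq_pe hx, ← mul_inv_eq_one, pe_commutator, ← pe_zero, pe_inj] at h
  exact mem_map_of_mem ι ⟨hx, by simpa [hb] using h.2.1⟩

theorem semi {g : G} (hg : g ∈ normalizer ((PP F).map ι : Set G)) {b u z : F} (hb : b ≠ 0)
    (hw : R ι g (pe b u 0 z) (pe b u 0 z)) {u1 z1 z2 : F} (hu : u1 ≠ 0)
    (h : R ι g (pe 0 u1 0 z1) (pe 0 u1 0 z2)) : g ∈ (MM F).map ι := by
  obtain ⟨δ, ζ, ζ', h1, h2⟩ := S.key hg hw (-u1 / b)
  obtain ⟨_, h3⟩ := exZ (S.NP_le_NZ hg) (z1 - ζ)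
  have e := congrArg HS.u ((S.eq_iff (h1.mul h3) h).1 (by
    rw [pe_mul, pe_inj]; refine ⟨?_, ?_, ?_, ?_⟩ <;> field_simp <;> ring))
  have e' : δ = -u1 / b := by simp at e; field_simp; linear_combination -e
  rw [e'] at h2
  obtain ⟨x, rfl⟩ := S.mem_C (mul_ne_zero (mul_ne_zero S.two hb)
    (pow_ne_zero _ (div_ne_zero (neg_ne_zero.2 hu) hb))) h2
  have e2 := S.eq_of h
  rw [conj_Q, pe_inj] at e2
  exact S.mem_M_of_P ⟨mul_right_cancel₀ hu (by grind), mul_right_cancel₀ hu (by grind)⟩ hb hw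

theorem noinv (ns : ∀ x : F, x * x ≠ -1) {g : G} (hg : g ∈ normalizer ((PP F).map ι : Set G))
    {b u z : F} (hb : b ≠ 0) (hw : R ι g (pe b u 0 z) (pe b u 0 z)) :
    ¬ R ι g (pe 0 0 0 (2 * b)) (pe 0 0 0 (-(2 * b))) := fun h => by
  obtain ⟨δ, -, -, -, h2⟩ := S.key hg hw 1
  have e := congrArg HS.z ((S.eq_iff h2 h).1 (by simp))
  exact ns δ (mul_left_cancel₀ (mul_ne_zero S.two hb) (by simp at e; linear_combination e))

end Setup

structure Cl (ι : HS F →* G) : Prop extends Setup ι where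
  hB : normalizer ((MM F).map ι : Set G) ≤ normalizer ((PP F).map ι : Set G)
  ns : ∀ x : F, x * x ≠ -1
  big : 9 < Nat.card F

namespace Cl

variable (S : Cl ι) [Finite G] [CharP F 3]
include S

local instance : Fact (Nat.Prime 3) := ⟨Nat.prime_three⟩

theorem ncyc : ¬ IsCyclic ((ZZ F).map ι) := fun h => by
  have h1 : Nat.card ((ZZ F).map ι) ∣ 3 := by
    rw [← IsCyclic.exponent_eq_card]
    exact Monoid.exponent_dvd_of_forall_pow_eq_one fun g => Subtype.ext (M_pow 3 (Z_le_M g.2))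
  have h2 := Nat.card_le_card_of_injective (β := (ZZ F).map ι) (fun z : F => ⟨_, pe_mem_Z z⟩)
    fun _ _ h => congrArg HS.z (S.inj (congrArg Subtype.val h))
  have := Nat.le_of_dvd (by norm_num) h1
  have := S.big
  omega

theorem mem_P_of_pow {g : G} (hg : g ∈ normalizer ((MM F).map ι : Set G)) {k : ℕ}
    (hk : g ^ 3 ^ k = 1) : g ∈ (PP F).map ι :=
  (S.sylowP 3).le_of_le_normalizer' (pgroup_zp hk) le_top (zpowers_le_of_mem (S.hB hg))
    (mem_zpowers g)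

theorem app {U V A0 : Subgroup G} (hU : U ≤ (MM F).map ι) {b0 u0 z0 : F} (hb : b0 ≠ 0)
    (hw : ι (pe b0 u0 0 z0) ∈ U)
    (IH : ∀ U', U < U' → U' ≤ (MM F).map ι →
      centralizer (U' : Set G) ≤ normalizer ((MM F).map ι : Set G))
    (hV : V ≤ (MM F).map ι) (hA0 : A0 ≤ V)
    (hVn : ∀ n ∈ centralizer (U : Set G), n ∈ normalizer ((MM F).map ι : Set G) →
      ∀ a ∈ V, n * a * n⁻¹ ∈ V)
    (hA0n : ∀ n ∈ centralizer (U : Set G), n ∈ normalizer ((MM F).map ι : Set G) →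
      ∀ a ∈ A0, n * a * n⁻¹ ∈ A0)
    (hVU : ∀ a ∈ V, a ∈ U → a = 1)
    (hfix : ∀ n ∈ centralizer (U : Set G), n ∈ normalizer ((MM F).map ι : Set G) →
      ∀ a ∈ A0, a ≠ 1 → n * a * n⁻¹ = a → n ∈ (MM F).map ι)
    {x y b : G} (hx : x ∈ V) (hy : y ∈ V) (hb' : b ∈ A0) (x1 : x ≠ 1) (y1 : y ≠ 1)
    (xy1 : x * y ≠ 1) (xyb1 : x * y * b ≠ 1)
    (d : ∀ n ∈ centralizer (U : Set G), n ∈ normalizer ((MM F).map ι : Set G) →
      n * x * n⁻¹ ≠ y ∧ n * x * n⁻¹ ≠ x * y ∧ n * x * n⁻¹ ≠ x * y * b ∧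
      n * y * n⁻¹ ≠ x * y ∧ n * y * n⁻¹ ≠ x * y * b)
    (d3 : ∀ n ∈ centralizer (U : Set G), n ∈ normalizer ((MM F).map ι : Set G) →
      ∀ k ∈ centralizer (U : Set G), k ∈ normalizer ((MM F).map ι : Set G) →
      n * x * n⁻¹ * (k * y * k⁻¹) ≠ x * y * b) :
    centralizer (U : Set G) ≤ normalizer ((MM F).map ι : Set G) := by
  have := S.finite
  have hxy := mul_mem hx hy
  have hxyb := mul_mem hxy (hA0 hb')
  have ne : ∀ {a c : G}, a ∈ V → c ∈ V → a ≠ c → a * c⁻¹ ∉ U := fun ha hc h h' =>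
    h (mul_inv_eq_one.1 (hVU _ (mul_mem ha (inv_mem hc)) h'))
  refine gl333K (fun a ha u hu => M_comm (hU hu) ha) hU (hA0.trans hV)
    (fun k hk u hu => by rwa [← hk u hu, mul_inv_cancel_right]) (fun g hg a ha a1 h => ?_)
    (fun a ha b hb => M_comm ha hb) (fun a ha => by rw [M_pow 3 ha]; exact one_mem _)
    (fun g hg hn h => ?_) hA0n (fun n h1 h2 a ha a1 h => hfix n h1 h2 a ha
      (fun e => a1 (e ▸ one_mem _)) (by_contra fun e => ne (hVn n h1 h2 a (hA0 ha)) (hA0 ha) e h))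
    (hV hx) (hV hy) hb' (fun h => x1 (hVU _ hx h)) (fun h => y1 (hVU _ hy h))
    (fun h => xy1 (hVU _ hxy h)) (fun h => xyb1 (hVU _ hxyb h))
    (fun n h1 h2 => ⟨ne (hVn n h1 h2 _ hx) hy (d n h1 h2).1, ne (hVn n h1 h2 _ hx) hxy (d n h1 h2).2.1,
      ne (hVn n h1 h2 _ hx) hxyb (d n h1 h2).2.2.1, ne (hVn n h1 h2 _ hy) hxy (d n h1 h2).2.2.2.1,
      ne (hVn n h1 h2 _ hy) hxyb (d n h1 h2).2.2.2.2⟩)
    (fun n h1 h2 k h3 h4 => ne (mul_mem (hVn n h1 h2 _ hx) (hVn k h3 h4 _ hy)) hxyb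
      (d3 n h1 h2 k h3 h4))
  · have a2 : g * a * g⁻¹ ∉ U := fun h => a1 (by
      have := (inv_mem hg) _ h
      rwa [show a = g * a * g⁻¹ by
        calc a = g⁻¹ * (g * a * g⁻¹) * g := by group
          _ = _ := by rw [← this]; group])
    have h1 := IH (U ⊔ zpowers (g * a * g⁻¹)) (lt_of_le_of_ne le_sup_left fun e =>
      a2 (e ▸ mem_sup_right (mem_zpowers _))) (sup_le hU (zpowers_le_of_mem h))
    refine S.wc ((S.sylowP 3).le_of_le_normalizer' (pgroup_cj ((pgroup_P 3).to_le M_le_P) g) le_top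
      (le_trans ?_ (h1.trans S.hB)))
    rw [le_centralizer_iff]
    refine sup_le (fun u hu m hm => ?_) (zpowers_le_of_mem fun m hm => ?_)
    · have e := M_comm (mem_cj.1 hm) (hU hu)
      calc m * u = g * (g⁻¹ * m * g * u) * g⁻¹ := by rw [mul_assoc _ g, ← hg u hu]; group
        _ = _ := by rw [e, ← mul_assoc, ← hg u hu]; group
    · have e := M_comm (mem_cj.1 hm) ha
      calc _ = g * (g⁻¹ * m * g * a) * g⁻¹ := by group
        _ = _ := by rw [e]; group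
  · obtain ⟨x, hx, rfl⟩ := S.mem_P_of_pow hn (k := 2) (by
      rw [sq, pow_mul, M_pow 3 (hU h)])
    exact S.mem_M_of_P hx hb (R.of_comm (hg _ hw).symm)

omit [Finite G] [CharP F 3] in
theorem exists_ne [Finite F] (s : Finset F) (hs : s.card ≤ 9) : ∃ x, x ∉ s := by
  have := Fintype.ofFinite F
  by_contra h
  push Not at h
  have h1 := Finset.card_le_card (s := Finset.univ) fun x _ => h x
  have := S.big
  rw [Finset.card_univ, ← Nat.card_eq_fintype_card] at h1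
  omega

theorem caseZ {U A0 : Subgroup G} (hU : U ≤ (MM F).map ι) {b0 u0 z0 : F} (hb : b0 ≠ 0)
    (hw : ι (pe b0 u0 0 z0) ∈ U)
    (IH : ∀ U', U < U' → U' ≤ (MM F).map ι →
      centralizer (U' : Set G) ≤ normalizer ((MM F).map ι : Set G))
    {n0 : G} (h1 : n0 ∈ centralizer (U : Set G)) (h2 : n0 ∈ normalizer ((MM F).map ι : Set G))
    (h3 : n0 ∉ ι.range) (hA0 : A0 ≤ (UU F).map ι)
    (hA0n : ∀ n ∈ centralizer (U : Set G), n ∈ normalizer ((MM F).map ι : Set G) →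
      ∀ a ∈ A0, n * a * n⁻¹ ∈ A0)
    (hfix : ∀ n ∈ centralizer (U : Set G), n ∈ normalizer ((MM F).map ι : Set G) →
      ∀ a ∈ A0, a ≠ 1 → n * a * n⁻¹ = a → n ∈ (MM F).map ι) {ζ : F} (ha : ι (pe 0 1 0 ζ) ∈ A0) :
    centralizer (U : Set G) ≤ normalizer ((MM F).map ι : Set G) := by
  have w : ∀ n ∈ centralizer (U : Set G), R ι n (pe b0 u0 0 z0) (pe b0 u0 0 z0) := fun n hn =>
    R.of_comm (hn _ hw).symm
  have b2 := mul_ne_zero S.two hb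
  have e1 : ι (pe 0 0 0 (2 * b0)) * ι (pe 0 1 0 (ζ - 4 * b0)) = ι (pe 0 1 0 (ζ - 2 * b0)) := by
    rw [← map_mul, pe_mul]; congr 2 <;> ring
  have e2 : ι (pe 0 1 0 (ζ - 2 * b0)) * (ι (pe 0 1 0 ζ))⁻¹ = ι (pe 0 0 0 (-(2 * b0))) := by
    rw [← map_inv, ← map_mul, pe_inv, pe_mul]; congr 2 <;> ring
  have ne1 : ∀ {b u v z : F}, ι (pe b u v z) = 1 → u = 0 ∧ z = 0 := fun h => by
    rw [← map_one ι, S.inj.eq_iff, ← pe_zero, pe_inj] at h; exact ⟨h.2.1, h.2.2.2⟩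
  refine S.app (V := (UU F).map ι) hU hb hw IH (map_mono inf_le_left) hA0 (fun n _ hn a ha => ?_)
    hA0n (fun a ha haU => ?_) hfix (x := ι (pe 0 0 0 (2 * b0))) (y := ι (pe 0 1 0 (ζ - 4 * b0)))
    (mem_U.2 ⟨_, _, rfl⟩) (mem_U.2 ⟨_, _, rfl⟩) (inv_mem ha) (fun h => b2 (ne1 h).2)
    (fun h => one_ne_zero (ne1 h).1) (fun h => one_ne_zero (ne1 (e1 ▸ h)).1)
    (fun h => neg_ne_zero.2 b2 (ne1 (e2 ▸ e1 ▸ h)).2) (fun n hn hn' => ?_) (fun n _ hn k _ hk => ?_)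
  · obtain ⟨u, z, rfl⟩ := mem_U.1 ha
    obtain ⟨_, _, h, -⟩ := S.exU (S.hB hn) u z
    exact mem_U.2 ⟨_, _, Eq.symm h⟩
  · obtain ⟨u, z, rfl⟩ := mem_U.1 ha
    have f := R.of_comm (h1 _ haU).symm
    by_cases hu : u = 0
    · subst hu
      by_cases hz : z = 0
      · rw [hz, pe_zero, map_one]
      · exact absurd (S.mem_C hz f) h3
    · exact absurd (map_le_range _ _ (S.semi (S.hB h2) hb (w _ h1) hu f)) h3
  · obtain ⟨κ, hx⟩ := Setup.exZ (S.NP_le_NZ (S.hB hn')) (2 * b0)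
    obtain ⟨u', z', hy, hu⟩ := S.exU (S.hB hn') 1 (ζ - 4 * b0)
    rw [e1, e2]
    refine ⟨?_, ?_, S.noinv S.ns (S.hB hn') hb (w n hn), fun h => ?_, ?_⟩
    · rw [hx, Ne, S.inj.eq_iff, pe_inj]; simp
    · rw [hx, Ne, S.inj.eq_iff, pe_inj]; simp
    · rw [M_comm (S.semi (S.hB hn') hb (w n hn) one_ne_zero h) (pe_mem_M ..),
        mul_inv_cancel_right, S.inj.eq_iff, pe_inj] at h
      exact b2 (by linear_combination -h.2.2.2)
    · rw [hy, Ne, S.inj.eq_iff, pe_inj]; simp [hu]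
  · obtain ⟨κ, hx⟩ := Setup.exZ (S.NP_le_NZ (S.hB hn)) (2 * b0)
    obtain ⟨u', z', hy, hu⟩ := S.exU (S.hB hk) 1 (ζ - 4 * b0)
    rw [e1, e2, hx, hy, ← map_mul, pe_mul, Ne, S.inj.eq_iff, pe_inj]; simp [hu]

omit [CharP F 3] in
theorem borel {U : Subgroup G} {b0 u0 z0 : F} (hb : b0 ≠ 0) (hw : ι (pe b0 u0 0 z0) ∈ U) {x : HS F}
    (h : ι x ∈ centralizer (U : Set G)) :
    x.c = 0 ∧ (ι x ∈ (MM F).map ι ∨ x.a = -1 ∧ x.d = -1) := by
  have w : R ι (ι x) (pe b0 u0 0 z0) (pe b0 u0 0 z0) := R.of_comm (h _ hw).symm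
  have e := S.eq_of w
  have c := c_eq_zero hb rfl e
  have e1 := congrArg HS.b e
  have e2 := x.det
  simp [c] at e1 e2
  refine ⟨c, ?_⟩
  rcases mul_self_eq_one_iff.1 (mul_right_cancel₀ hb (by grind) : x.a * x.a = 1) with h | h
  · exact Or.inl (S.mem_M_of_P ⟨h, c⟩ hb w)
  · exact Or.inr ⟨h, by grind⟩

theorem centU (U : Subgroup G) (hU : U ≤ (MM F).map ι) {b0 u0 z0 : F} (hb : b0 ≠ 0)
    (hw : ι (pe b0 u0 0 z0) ∈ U) :
    centralizer (U : Set G) ≤ normalizer ((MM F).map ι : Set G) := by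
  classical
  have := S.finite
  induction U using WellFoundedGT.induction with | ind U IH => ?_
  replace IH : ∀ U', U < U' → U' ≤ (MM F).map ι →
      centralizer (U' : Set G) ≤ normalizer ((MM F).map ι : Set G) :=
    fun U' h h' => IH U' h h' (h.le hw)
  have w : ∀ n ∈ centralizer (U : Set G), R ι n (pe b0 u0 0 z0) (pe b0 u0 0 z0) := fun n hn =>
    R.of_comm (hn _ hw).symm
  have MK : (MM F).map ι ≤ centralizer (U : Set G) := fun a ha u hu => M_comm (hU hu) ha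
  by_cases c1 : ∀ n ∈ centralizer (U : Set G), n ∈ normalizer ((MM F).map ι : Set G) →
      n ∈ ι.range → n ∈ (MM F).map ι
  · by_cases c2 : ∀ n ∈ centralizer (U : Set G), n ∈ normalizer ((MM F).map ι : Set G) →
        n ∈ ι.range
    · have hS : IsSylowIn 3 ((MM F).map ι) (centralizer (U : Set G)) :=
        IsSylowIn.of_normalizer MK ⟨le_inf MK le_normalizer, (pgroup_P 3).to_le M_le_P,
          fun Q h _ h' => le_antisymm (fun g hg => c1 g (h hg).1 (h hg).2 (c2 g (h hg).1 (h hg).2)) h'⟩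
      have := FT.Burnside_normal_complement hS fun g hg m hm =>
        M_comm hm (c1 g hg.1 hg.2 (c2 g hg.1 hg.2))
      rw [← this.sup, S.eq_bot_of_norm 3 S.ncyc (K := Opp 3 _) (L0.not_dvd_card_map_pPrimeCore _) this.norm,
        bot_sup_eq]
      exact le_normalizer
    push Not at c2
    obtain ⟨n0, h1, h2, h3⟩ := c2
    refine S.caseZ hU hb hw IH h1 h2 h3 le_rfl (fun n _ hn a ha => ?_) (fun n hn hn' a ha a1 h => ?_)
      (mem_U.2 ⟨1, 0, rfl⟩)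
    · obtain ⟨u, z, rfl⟩ := mem_U.1 ha
      obtain ⟨_, _, h, -⟩ := S.exU (S.hB hn) u z
      exact mem_U.2 ⟨_, _, Eq.symm h⟩
    · obtain ⟨u, z, rfl⟩ := mem_U.1 ha
      by_cases hu : u = 0
      · subst hu
        exact c1 n hn hn' (S.mem_C (fun e => a1 (by rw [e, pe_zero, map_one])) h)
      · exact S.semi (S.hB hn') hb (w n hn) hu h
  push Not at c1
  obtain ⟨_, h1, h2, ⟨τ, rfl⟩, h3⟩ := c1
  obtain ⟨c0, a0⟩ := S.borel hb hw h1
  replace a0 := a0.resolve_left h3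
  let Y : Subgroup G :=
    { carrier := {m | m ∈ (MM F).map ι ∧ ι τ * m * (ι τ)⁻¹ = m⁻¹}
      mul_mem' := fun {a b} ha hb => ⟨mul_mem ha.1 hb.1, by
        rw [M_comm ha.1 hb.1, mul_inv_rev, ← ha.2, ← hb.2, M_comm hb.1 ha.1]; group⟩
      one_mem' := ⟨one_mem _, by simp⟩
      inv_mem' := fun {a} ha => ⟨inv_mem ha.1, by rw [← congrArg Inv.inv ha.2]; group⟩ }
  have mY : ∀ u, ι (pe 0 u 0 (-τ.v * u)) ∈ Y := fun u => ⟨pe_mem_M .., by
    rw [← map_inv, ← map_mul, ← map_mul, ← map_inv, conj_Q, pe_inv, a0.1, c0]; congr 2 <;> ring⟩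
  have Ym : ∀ a ∈ Y, ∃ u, a = ι (pe 0 u 0 (-τ.v * u)) := by
    rintro a ⟨ha, h⟩
    obtain ⟨b, u, z, rfl⟩ := mem_M.1 ha
    rw [← map_inv, ← map_mul, ← map_mul, ← map_inv, S.inj.eq_iff] at h
    have e := congrArg HS.b h
    simp [a0.1, c0] at e
    obtain rfl : b = 0 := (mul_eq_zero.1 (by linear_combination e : 2 * b = 0)).resolve_left S.two
    rw [conj_Q, pe_inv, pe_inj, a0.1, c0] at h
    exact ⟨u, by rw [mul_left_cancel₀ S.two (by linear_combination h.2.2.2 : 2 * z = 2 * (-τ.v * u))]⟩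
  have Yn : ∀ n ∈ centralizer (U : Set G), n ∈ normalizer ((MM F).map ι : Set G) →
      ∀ a ∈ Y, n * a * n⁻¹ ∈ Y := fun n hn hn' a ha => by
    have m1 := (mem_normalizer_iff.1 hn' a).1 ha.1
    refine ⟨m1, ?_⟩
    obtain ⟨τ', h⟩ := S.exN (S.NP_le_NZ (S.hB hn')) τ
    have k1 : ι τ' ∈ centralizer (U : Set G) := h ▸ mul_mem (mul_mem hn h1) (inv_mem hn)
    obtain ⟨c1, a1⟩ := S.borel hb hw k1
    replace a1 := a1.resolve_left fun e => h3 ((mem_normalizer_iff.1 hn' _).2 (h ▸ e))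
    have k2 : ι (τ'⁻¹ * τ) ∈ (MM F).map ι := S.mem_M_of_P ⟨by simp [a0, a1, c0], by simp [c0, c1]⟩
      hb (w _ (by rw [map_mul, map_inv]; exact mul_mem (inv_mem k1) h1))
    have k3 := M_comm k2 m1
    rw [map_mul, map_inv] at k3
    calc _ = ι τ' * ((ι τ')⁻¹ * ι τ * (n * a * n⁻¹)) * (ι τ)⁻¹ := by group
      _ = n * (ι τ * a * (ι τ)⁻¹) * n⁻¹ := by rw [k3, ← h]; group
      _ = _ := by rw [ha.2]; group
  have Yfix : ∀ n ∈ centralizer (U : Set G), n ∈ normalizer ((MM F).map ι : Set G) →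
      ∀ a ∈ Y, a ≠ 1 → n * a * n⁻¹ = a → n ∈ (MM F).map ι := fun n hn hn' a ha a1 h => by
    obtain ⟨u, rfl⟩ := Ym a ha
    exact S.semi (S.hB hn') hb (w n hn) (fun e => a1 (by simp [e, pe_zero])) h
  by_cases c2 : ∀ n ∈ centralizer (U : Set G), n ∈ normalizer ((MM F).map ι : Set G) →
      n ∈ ι.range
  swap
  · push Not at c2
    obtain ⟨n0, h1, h2, h3⟩ := c2
    exact S.caseZ hU hb hw IH h1 h2 h3 (fun a ha => by
      obtain ⟨u, rfl⟩ := Ym a ha; exact mem_U.2 ⟨_, _, rfl⟩) Yn Yfix (mY 1)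
  obtain ⟨s, hs⟩ := S.exists_ne {0, 1, -1} (Finset.card_le_three.trans (by norm_num))
  obtain ⟨r, hr⟩ := S.exists_ne [0, 1, -1, s, -s, 1 + s, 1 - s, -1 + s, -1 - s].toFinset
    (List.toFinset_card_le _)
  simp at hs hr
  have ym : ∀ u u', ι (pe 0 u 0 (-τ.v * u)) * ι (pe 0 u' 0 (-τ.v * u')) =
      ι (pe 0 (u + u') 0 (-τ.v * (u + u'))) := fun u u' => by
    rw [← map_mul, pe_mul]; congr 2 <;> ring
  have ne : ∀ {u z u' z' : F}, u ≠ u' → ι (pe 0 u 0 z) ≠ ι (pe 0 u' 0 z') := fun h e =>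
    h (congrArg HS.u (S.inj e))
  have ne1 : ∀ {u z : F}, u ≠ 0 → ι (pe 0 u 0 z) ≠ 1 := fun h => map_one ι ▸ ne h
  have act : ∀ n ∈ centralizer (U : Set G), n ∈ normalizer ((MM F).map ι : Set G) → ∀ u z,
      ∃ u' z', n * ι (pe 0 u 0 z) * n⁻¹ = ι (pe 0 u' 0 z') ∧ (u' = u ∨ u' = -u) := fun n hn hn' u z => by
    obtain ⟨x, rfl⟩ := c2 n hn hn'
    obtain ⟨c1, a1 | a1⟩ := S.borel hb hw hn
    · exact ⟨u, z, by rw [M_comm a1 (pe_mem_M ..), mul_inv_cancel_right], Or.inl rfl⟩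
    · rw [← map_inv, ← map_mul, ← map_mul, conj_Q, c1, a1.1]
      exact ⟨_, _, by rw [zero_mul, mul_zero, mul_zero, add_zero (0 : F)], Or.inr (by ring)⟩
  have h3 : (3 : F) = 0 := CharP.cast_eq_zero F 3
  refine S.app (V := Y) hU hb hw IH (fun a ha => ha.1) le_rfl Yn Yn (fun a ha haU => ?_) Yfix (mY 1) (mY s)
    (mY (r - (1 + s))) (ne1 one_ne_zero) (ne1 hs.1) (ym _ _ ▸ ne1 (by grind))
    (by rw [ym, ym]; exact ne1 (by grind)) (fun n hn hn' => ?_) (fun n hn hn' k hk hk' => ?_)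
  · have := ha.2
    rw [← h1 a haU, mul_inv_cancel_right] at this
    rw [← M_pow 3 ha.1, pow_succ, sq]; nth_rewrite 2 [this]; simp
  · obtain ⟨u1, _, e1, k1⟩ := act n hn hn' 1 (-τ.v * 1)
    obtain ⟨u2, _, e2, k2⟩ := act n hn hn' s (-τ.v * s)
    rw [ym, ym, e1, e2]
    refine ⟨ne ?_, ne ?_, ne ?_, ne ?_, ne ?_⟩ <;> grind
  · obtain ⟨u1, _, e1, k1⟩ := act n hn hn' 1 (-τ.v * 1)
    obtain ⟨u2, _, e2, k2⟩ := act k hk hk' s (-τ.v * s)
    rw [ym, ym, e1, e2, ← map_mul, pe_mul]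
    simp only [add_zero, mul_zero]
    exact ne (by grind)

theorem cent_le {b0 u0 z0 : F} (hb : b0 ≠ 0) {g : G}
    (h : R ι g (pe b0 u0 0 z0) (pe b0 u0 0 z0)) : g ∈ normalizer ((MM F).map ι : Set G) :=
  S.centU (zpowers (ι (pe b0 u0 0 z0))) (zpowers_le_of_mem (pe_mem_M ..)) hb (mem_zpowers _) (by
    rintro _ ⟨k, rfl⟩
    exact ((show Commute g _ from h.comm).zpow_right k).symm)

end Cl

end Cfsg.Agent.H5.HS
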