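import Cfsg.Agent.H5.HS3
import Cfsg.Agent.H7.ZStar
import Cfsg.Agent.FT.Main

/-!
# The `3`-closed case: the centre of `C` is normal
-/

set_option autoImplicit false

namespace Cfsg.Agent.H5.HS

open Subgroup Cfsg.Agent.H8
open scoped commutatorElement

variable {F : Type*} [Field F] {G : Type*} [Group G] {ι : HS F →* G}

@[simps] def tt : HS F := ⟨-1, 0, 0, -1, 0, 0, 0, by ring⟩
@[simps] def ii : HS F := ⟨0, -1, 1, 0, 0, 0, 0, by ring⟩
@[simps] def jj [CharP F 3] : HS F := ⟨1, 1, 1, -1, 0, 0, 0, by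
  linear_combination -(CharP.cast_eq_zero F 3 : ((3 : ℕ) : F) = 0)⟩

theorem tt_sq : (tt * tt : HS F) = 1 := by ext <;> simp
theorem ii_sq : (ii * ii : HS F) = tt := by ext <;> simp

theorem uv_of_tt (h2 : (2 : F) ≠ 0) {x : HS F} (h : x * tt = tt * x) : x.u = 0 ∧ x.v = 0 := by
  have a1 := congrArg HS.u h
  have a2 := congrArg HS.v h
  simp at a1 a2
  exact ⟨mul_left_cancel₀ h2 (by linear_combination a1), mul_left_cancel₀ h2 (by linear_combination a2)⟩

theorem tt_comm {x : HS F} (hu : x.u = 0) (hv : x.v = 0) : x * tt = tt * x := by ext <;> simp [hu, hv]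

theorem pe_pow (b z : F) (n : ℕ) : pe b 0 0 z ^ n = pe (n * b) 0 0 (n * z) := by
  induction n with
  | zero => simp [pe_zero]
  | succ n ih => rw [pow_succ, ih, pe_mul, pe_inj]; push_cast; refine ⟨?_, ?_, ?_, ?_⟩ <;> ring

section
variable [CharP F 3]

theorem h3 : (3 : F) = 0 := CharP.cast_eq_zero F 3

theorem jj_sq : (jj * jj : HS F) = tt := by
  have := h3 (F := F)
  ext <;> simp <;> grind

theorem w_i : (pe 1 0 0 0 * ii * (pe 1 0 0 0)⁻¹ : HS F) = jj := by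
  have := h3 (F := F)
  ext <;> simp <;> grind

theorem w_ij : (pe 1 0 0 0 * (ii * jj) * (pe 1 0 0 0)⁻¹ : HS F) = ii := by
  have := h3 (F := F)
  ext <;> simp <;> grind

theorem j_i : (jj * ii * jj⁻¹ : HS F) = ii⁻¹ := by
  have := h3 (F := F)
  ext <;> simp <;> grind

theorem of_comm_ij {x : HS F} (h1 : x * ii = ii * x) (h2 : x * jj = jj * x) :
    x = pe 0 0 0 x.z ∨ x = tt * pe 0 0 0 x.z := by
  have t3 := h3 (F := F)
  have two : (2 : F) ≠ 0 := fun h => one_ne_zero (by linear_combination t3 - h : (1 : F) = 0)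
  obtain ⟨hu, hv⟩ := uv_of_tt two (x := x) (by rw [← ii_sq, ← mul_assoc, h1, mul_assoc, h1, mul_assoc])
  have a1 := congrArg HS.a h1
  have a2 := congrArg HS.b h1
  have a3 := congrArg HS.a h2
  have := x.det
  simp at a1 a2 a3
  have hb : x.b = 0 := by grind
  have hc : x.c = 0 := by grind
  rcases mul_self_eq_one_iff.1 (show x.a * x.a = 1 by grind) with h | h
  · left; ext <;> simp <;> grind
  · right; ext <;> simp <;> grind

end

namespace Cl

variable (S : Cl ι) [Finite G] [CharP F 3]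
include S

local instance : Fact (Nat.Prime 3) := ⟨Nat.prime_three⟩

theorem NM_le {g : G} (h : g ∈ normalizer ((MM F).map ι : Set G)) : g ∈ normalizer ((ZZ F).map ι : Set G) :=
  S.NP_le_NZ (S.hB h)

theorem zM {g : G} {b z : F} (h1 : b ≠ 0 ∨ z ≠ 0) (h : g * ι (pe b 0 0 z) * g⁻¹ ∈ (MM F).map ι) :
    g ∈ normalizer ((ZZ F).map ι : Set G) := by
  obtain ⟨n, hn, e⟩ := S.ctl 3 (pe_mem_M b 0 z) h
  by_cases hb : b = 0
  · subst hb
    obtain ⟨κ, hκ⟩ := Setup.exZ (S.NM_le hn) z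
    exact S.normZ (h1.resolve_left fun h => h rfl) (e.symm.trans hκ)
  · have := S.cent_le hb (g := n⁻¹ * g) (u0 := 0) (z0 := z) (by
      unfold R
      calc _ = n⁻¹ * (g * ι (pe b 0 0 z) * g⁻¹) * n := by group
        _ = _ := by rw [← e]; group)
    simpa using mul_mem (S.NM_le hn) (S.NM_le this)

omit [Finite G] [CharP F 3] in
theorem ne_one {b u v z : F} (h : b ≠ 0 ∨ z ≠ 0) : ι (pe b u v z) ≠ 1 := fun e => by
  rw [← map_one ι, S.inj.eq_iff, ← pe_zero, pe_inj] at e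
  tauto

theorem cij {g : G} (h1 : g * ι ii = ι ii * g) (h2 : g * ι jj = ι jj * g) :
    g ∈ normalizer ((ZZ F).map ι : Set G) := by
  classical
  have := S.finite
  set D := centralizer ({ι ii, ι jj} : Set G)
  have mD : ∀ {g : G}, g ∈ D ↔ g * ι ii = ι ii * g ∧ g * ι jj = ι jj * g := by
    intro g
    simp [D, mem_centralizer_iff, eq_comm]
  set w := ι (pe 1 0 0 0) with hw
  have wD : zpowers w ≤ normalizer (D : Set G) := zpowers_le_of_mem (mem_normalizer_fintype fun d hd => by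
    have c1 : Commute d (ι ii) := (mD.1 hd).1
    have c2 : Commute d (ι jj) := (mD.1 hd).2
    have e1 : ι ii = w * (ι ii * ι jj) * w⁻¹ := by rw [hw, ← map_mul, ← map_inv, ← map_mul, ← map_mul, w_ij]
    have e2 : ι jj = w * ι ii * w⁻¹ := by rw [hw, ← map_inv, ← map_mul, ← map_mul, w_i]
    refine mD.2 ⟨?_, ?_⟩
    · rw [e1]; exact ((c1.mul_right c2).map (MulAut.conj w)).eq
    · rw [e2]; exact (c1.map (MulAut.conj w)).eq)
  set K := D ⊔ zpowers w
  have mK : ∀ {g : G}, g ∈ K → ∃ d ∈ D, ∃ n : ℕ, g = d * ι (pe n 0 0 0) := fun hg => by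
    obtain ⟨d, hd, a, ha, rfl⟩ := (mem_sup_of_le_normalizer wD).1 hg
    obtain ⟨n, rfl⟩ := mem_powers_iff_mem_zpowers.2 ha
    exact ⟨d, hd, n, by simp only [hw, ← map_pow, pe_pow, mul_one, mul_zero]⟩
  set t := ι tt with ht
  have t2 : t * t = 1 := by rw [ht, ← map_mul, tt_sq, map_one]
  have Kt : ∀ {g : G}, g ∈ K → Commute g t := fun hg => by
    obtain ⟨d, hd, n, rfl⟩ := mK hg
    have c1 : Commute d (ι ii) := (mD.1 hd).1
    refine Commute.mul_left (by rw [ht, ← ii_sq, map_mul]; exact c1.mul_right c1) ?_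
    exact (show Commute _ _ from tt_comm rfl rfl).map ι
  have mU : ∀ {u : G}, u ∈ zpowers t → u = 1 ∨ u = t := fun hu => by
    obtain ⟨n, rfl⟩ := mem_powers_iff_mem_zpowers.2 hu
    rcases Nat.even_or_odd' n with ⟨k, rfl | rfl⟩
    · left; simp [pow_mul, sq, t2]
    · right; simp [pow_succ, pow_mul, t2]
  have nU : ∀ {b u v z : F}, b ≠ 0 ∨ z ≠ 0 → ι (pe b u v z) ∉ zpowers t := fun h hu => by
    rcases mU hu with e | e
    · exact S.ne_one h e
    · have := congrArg HS.a (S.inj e)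
      exact S.two (by simp at this; linear_combination this)
  have ZD : ∀ z, ι (pe 0 0 0 z) ∈ D := fun z => mD.2 ⟨by rw [← map_mul, ← map_mul, pe_comm],
    by rw [← map_mul, ← map_mul, pe_comm]⟩
  have tD : t ∈ D := mD.2 ⟨by rw [ht, ← map_mul, ← map_mul, tt_comm rfl rfl],
    by rw [ht, ← map_mul, ← map_mul, tt_comm rfl rfl]⟩
  set A := K ⊓ ι.range
  have mA : ∀ {a : G}, a ∈ A → ∃ u ∈ zpowers t, ∃ b z, a = u * ι (pe b 0 0 z) := fun ha => by
    obtain ⟨d, hd, n, rfl⟩ := mK ha.1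
    obtain ⟨x, rfl⟩ := (mul_mem_cancel_right (show ι (pe n 0 0 0) ∈ ι.range from ⟨_, rfl⟩)).1 ha.2
    rcases of_comm_ij (x := x) (S.inj (by rw [map_mul, map_mul, (mD.1 hd).1]))
      (S.inj (by rw [map_mul, map_mul, (mD.1 hd).2])) with e | e
    · exact ⟨1, one_mem _, _, _, by rw [e, ← map_mul, pe_mul, one_mul]; congr 2 <;> ring⟩
    · exact ⟨t, mem_zpowers _, _, _, by rw [e, map_mul, mul_assoc, ← map_mul, pe_mul]; congr 3 <;> ring⟩
  have Uc : ∀ {u g : G}, u ∈ zpowers t → g ∈ K → Commute g u := fun hu hg => by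
    obtain ⟨n, rfl⟩ := hu
    exact (Kt hg).zpow_right n
  have UA : zpowers t ≤ A := zpowers_le_of_mem ⟨mem_sup_left tD, _, rfl⟩
  have wA : w ∈ A := ⟨mem_sup_right (mem_zpowers _), _, rfl⟩
  have ZA : (ZZ F).map ι ≤ A := fun a ha => by
    obtain ⟨z, rfl⟩ := mem_Z.1 ha
    exact ⟨mem_sup_left (ZD z), _, rfl⟩
  have cube : ∀ {u : G} {b z : F}, u ∈ zpowers t → (u * ι (pe b 0 0 z)) ^ 3 = u := fun hu => by
    rcases mU hu with rfl | rfl
    · rw [one_mul, M_pow 3 (pe_mem_M ..)]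
    · rw [Commute.mul_pow ((show Commute _ _ from tt_comm rfl rfl).map ι).symm, M_pow 3 (pe_mem_M ..), mul_one,
        pow_succ, sq, t2, one_mul]
  have mA3 : ∀ {a : G}, a ∈ A → a ^ 3 = 1 → ∃ b z, a = ι (pe b 0 0 z) := fun ha h => by
    obtain ⟨u, hu, b, z, rfl⟩ := mA ha
    rw [cube hu] at h
    exact ⟨b, z, by rw [h, one_mul]⟩
  have NA : ∀ g ∈ K, g ∈ normalizer ((ZZ F).map ι : Set G) → g ∈ normalizer (A : Set G) := fun g hg hn =>
    mem_normalizer_fintype fun a ha => by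
      obtain ⟨x, rfl⟩ := ha.2
      obtain ⟨y, hy⟩ := S.exN hn x
      exact mem_inf.2 ⟨mul_mem (mul_mem hg (mem_inf.1 ha).1) (inv_mem hg), y, Eq.symm hy⟩
  have cj3 : ∀ (g : G) (b z : F), (g * ι (pe b 0 0 z) * g⁻¹) ^ 3 = 1 := fun g b z => by
    rw [conj_pow, M_pow 3 (pe_mem_M ..), mul_one, mul_inv_cancel]
  have NZ : ∀ {g : G}, g ∈ normalizer (A : Set G) → g ∈ normalizer ((ZZ F).map ι : Set G) := fun {g} hg => by
    obtain ⟨b, z, e⟩ := mA3 ((mem_normalizer_iff.1 hg _).1 (ZA (pe_mem_Z 1))) (cj3 g 0 1)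
    exact S.zM (Or.inr one_ne_zero) (e ▸ pe_mem_M ..)
  have wn : ∀ n ∈ K, n ∈ normalizer (A : Set G) → n * w * n⁻¹ = w := fun n hn hn' => by
    obtain ⟨b, z, e⟩ := mA3 ((mem_normalizer_iff.1 hn' _).1 wA) (cj3 n 1 0)
    obtain ⟨l, hl⟩ := S.exists_ne {0, 1, -1} (Finset.card_le_three.trans (by norm_num))
    simp only [Finset.mem_insert, Finset.mem_singleton, not_or] at hl
    have l1 : l * l - 1 ≠ 0 := fun h => by
      rcases mul_self_eq_one_iff.1 (sub_eq_zero.1 h) with h | h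
      exacts [hl.2.1 h, hl.2.2 h]
    let h : HS F := ⟨l, 0, 0, l⁻¹, 0, 0, 0, by simp [hl.1]⟩
    obtain ⟨h', k1⟩ := S.exN (NZ hn') h
    obtain ⟨w', k2⟩ := S.exN (NZ hn') (pe (l * l - 1)⁻¹ 0 0 0)
    have rt : R ι n tt tt := R.of_comm (Kt hn)
    have u1 := uv_of_tt S.two ((S.eq_iff (k1.mul rt) (rt.mul k1)).1 (tt_comm rfl rfl))
    have u2 := uv_of_tt S.two ((S.eq_iff (k2.mul rt) (rt.mul k2)).1 (tt_comm rfl rfl))
    have z0 : z = 0 := by
      have := congrArg HS.z ((S.eq_iff (((k1.mul k2).mul k1.inv).mul k2.inv) e).1 (by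
        have := hl.1
        ext <;> simp [h] <;> grind))
      simpa [u1, u2] using this.symm
    obtain ⟨d, hd, m, rfl⟩ := mK hn
    have e1 : d * w * d⁻¹ * w⁻¹ ∈ D := by
      have := mul_mem hd ((mem_normalizer_iff.1 (wD (mem_zpowers w)) _).1 (inv_mem hd))
      simpa [mul_assoc] using this
    have e2 : d * ι (pe m 0 0 0) * w * (d * ι (pe m 0 0 0))⁻¹ = d * w * d⁻¹ := by
      rw [mul_assoc d, hw, M_comm (pe_mem_M ..) (pe_mem_M 1 0 0)]; group
    rw [e2] at e ⊢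
    rw [e, hw, ← map_inv, ← map_mul, pe_inv, pe_mul] at e1
    have e3 := congrArg HS.a (S.inj ((map_mul ι _ _).trans ((mD.1 e1).1.trans (map_mul ι _ _).symm)))
    simp at e3
    rw [e, z0, hw, show b = 1 by linear_combination e3]
  have wz : ∀ z, w * ι (pe 0 0 0 z) = ι (pe 1 0 0 z) := fun z => by
    rw [hw, ← map_mul, pe_mul]; congr 2 <;> ring
  have act : ∀ n ∈ K, n ∈ normalizer (A : Set G) → ∃ z, z ≠ 0 ∧ n * ι (pe 1 0 0 1) * n⁻¹ = ι (pe 1 0 0 z) :=
    fun n hn hn' => by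
      obtain ⟨z, hz⟩ := Setup.exZ (NZ hn') 1
      refine ⟨z, S.ne_zero one_ne_zero hz, ?_⟩
      rw [← wz, ← wz z, ← hz]
      nth_rewrite 2 [← wn n hn hn']
      group
  have t3 := h3 (F := F)
  refine NZ (gl333K (K := K) (A0 := (ZZ F).map ι) (U := zpowers t) inf_le_left UA ZA
    (fun k hk u hu => by rwa [Uc hu hk, mul_inv_cancel_right]) (fun g hg a ha a1 h => ?_) (fun a ha b hb => ?_)
    (fun a ha => ?_) (fun g hg hn h => ?_) (fun n _ hn a ha => (mem_normalizer_iff.1 (NZ hn) a).1 ha)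
    (fun n hn hn' a ha a1 h => ?_) (x := w) (y := ι (pe 1 0 0 1)) (b := ι (pe 0 0 0 (-1))) wA
    (wz 1 ▸ mul_mem wA (ZA (pe_mem_Z 1))) (pe_mem_Z _) (nU (Or.inl one_ne_zero)) (nU (Or.inl one_ne_zero))
    ?_ ?_ (fun n hn hn' => ?_) (fun n hn hn' k hk hk' => ?_) (mem_sup_left (mD.2 ⟨h1, h2⟩)))
  · obtain ⟨u, hu, b, z, rfl⟩ := mA ha
    have e : g * ι (pe b 0 0 z) * g⁻¹ = u⁻¹ * (g * (u * ι (pe b 0 0 z)) * g⁻¹) := by
      rw [← mul_assoc g, Uc hu hg]; group
    obtain ⟨b', z', e'⟩ := mA3 (e ▸ mul_mem (inv_mem (UA hu)) h) (cj3 g b z)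
    refine NA g hg (S.zM ?_ (e' ▸ pe_mem_M ..))
    by_contra hc
    push Not at hc
    exact a1 (by rw [hc.1, hc.2, pe_zero, map_one, mul_one]; exact hu)
  · obtain ⟨u, hu, b1, z1, e⟩ := mA ha
    obtain ⟨u', hu', b2, z2, e'⟩ := mA hb
    have c1 : Commute a u' := Uc hu' ha.1
    have c2 : Commute u (ι (pe b2 0 0 z2)) := by
      have c : Commute u b := (Uc hu hb.1).symm
      simpa [e'] using (Uc hu' (UA hu).1).inv_right.mul_right c
    have c3 : Commute (ι (pe b1 0 0 z1)) (ι (pe b2 0 0 z2)) := M_comm (pe_mem_M ..) (pe_mem_M ..)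
    rw [e']
    exact c1.mul_right (e ▸ c2.mul_left c3)
  · obtain ⟨u, hu, b, z, rfl⟩ := mA ha
    rwa [cube hu]
  · obtain ⟨x, hx⟩ := S.pelt_mem 3 (pow_mem (NZ hn) 2) (k := 1) (by
      rw [pow_one, ← pow_mul, mul_comm, pow_mul, sq]
      rcases mU h with e | e <;> rw [e]
      exacts [one_mul 1, t2])
    refine ⟨hg, ?_⟩
    have := mul_mem (mem_inf.1 (UA h)).2 (inv_mem (show g ^ 2 ∈ ι.range from ⟨x, hx⟩))
    rwa [pow_succ', mul_inv_cancel_right] at this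
  · obtain ⟨z, rfl⟩ := mem_Z.1 ha
    obtain ⟨z', e⟩ := Setup.exZ (NZ hn') z
    have z0 : z ≠ 0 := fun e => a1 (by rw [e, pe_zero, map_one]; exact one_mem _)
    rw [e, ← map_inv, ← map_mul, pe_inv, pe_mul] at h
    have : z' = z := by_contra fun e => nU (Or.inr (by simpa [add_neg_eq_zero] using e)) h
    exact ⟨hn, S.mem_C z0 (this ▸ e)⟩
  · rw [hw, ← map_mul, pe_mul]; exact nU (Or.inr (by simp))
  · rw [hw, ← map_mul, ← map_mul, pe_mul, pe_mul]; exact nU (Or.inl (by simpa [one_add_one_eq_two] using S.two))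
  · obtain ⟨z, -, e⟩ := act n hn hn'
    rw [wn n hn hn', e, hw]
    simp only [← map_inv, ← map_mul, pe_inv, pe_mul]
    exact ⟨nU (Or.inr (by simp)), nU (Or.inl (by simp)), nU (Or.inl (by simp)), nU (Or.inl (by simp)),
      nU (Or.inl (by simp))⟩
  · obtain ⟨z, z0, e⟩ := act k hk hk'
    rw [wn n hn hn', e, hw]
    simp only [← map_inv, ← map_mul, pe_inv, pe_mul]
    exact nU (Or.inr (by simpa using z0))

end Cl

end Cfsg.Agent.H5.HS
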