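import Cfsg.Agent.H5.HS4

/-!
# The `3`-closed case: conclusion
-/

set_option autoImplicit false

namespace Cfsg.Agent.H5.HS

open Subgroup Cfsg.Agent.H8
open scoped commutatorElement

variable {F : Type*} [Field F] {G : Type*} [Group G] {ι : HS F →* G}

theorem q_comm (u v z u' v' z' : F) : pe 0 u v z * pe 0 u' v' z' * (pe 0 u v z)⁻¹ * (pe 0 u' v' z')⁻¹ =
    pe 0 0 0 (2 * (u * v' - v * u')) := by
  simp only [pe_inv, pe_mul, pe_inj]; refine ⟨?_, ?_, ?_, ?_⟩ <;> ring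

theorem tt_conj (u v z : F) : tt * pe 0 u v z * tt⁻¹ = pe 0 (-u) (-v) z := by ext <;> simp

/-- every element of `Q` is conjugate into `U` -/
theorem conj_U (u v z : F) (h : u ≠ 0 ∨ v ≠ 0) :
    ∃ (x : HS F) (u' z' : F), u' ≠ 0 ∧ x * pe 0 u v z * x⁻¹ = pe 0 u' 0 z' := by
  by_cases hv : v = 0
  · subst hv; exact ⟨1, u, z, h.resolve_right fun h => h rfl, by simp⟩
  · exact ⟨⟨0, 1, -1, u / v, 0, 0, 0, by simp⟩, v, z, hv, by rw [conj_Q, pe_inj]; simp [hv]⟩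

namespace Setup

variable (S : Setup ι) [Finite G]
include S

theorem inv_Z {s : G} (hs : s ∈ normalizer ((ZZ F).map ι : Set G)) (hC : s ∉ ι.range) (h2 : s * s ∈ ι.range)
    (z : F) : R ι s (pe 0 0 0 z) (pe 0 0 0 (-z)) := by
  obtain ⟨z', h⟩ := exZ hs z
  obtain ⟨z'', h'⟩ := exZ hs z'
  obtain ⟨x, hx⟩ := h2
  have e := S.eq_of (hx ▸ h.comp h')
  rw [pe_comm, mul_inv_cancel_right, pe_inj] at e
  have h3 := h.mul h'
  rw [pe_mul, pe_mul, ← e.2.2.2] at h3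
  simp only [add_zero, mul_zero, sub_zero] at h3
  rw [add_comm z'] at h3
  have : z + z' = 0 := by_contra fun e => hC (S.mem_C e h3)
  rwa [show -z = z' by linear_combination -this]

/-- action on the elements inverted by `t` -/
theorem exV (p : ℕ) [Fact p.Prime] [CharP F p] {s : G} (hs : s ∈ normalizer ((ZZ F).map ι : Set G))
    (ht : R ι s tt tt) (u v : F) : ∃ u' v', R ι s (pe 0 u v 0) (pe 0 u' v' 0) := by
  have := S.finite
  obtain ⟨y, h⟩ := S.exN hs (pe 0 u v 0)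
  have e := (S.eq_iff ((ht.mul h).mul ht.inv) h.inv).1 (by rw [tt_conj, pe_inv]; simp)
  have e1 := congrArg HS.b e
  have e2 := congrArg HS.c e
  have e3 := congrArg HS.z e
  simp at e1 e2 e3
  have z : ∀ {y : F}, y = -y → y = 0 := fun h => (mul_eq_zero.1 (by linear_combination h)).resolve_left S.two
  obtain ⟨k, hk⟩ := pgroup_P (ι := ι) p ⟨_, pe_mem_P 0 u v 0⟩
  have hk' : ι (pe 0 u v 0) ^ p ^ k = 1 := congrArg Subtype.val hk
  have e4 : y.a = 1 := a_eq_one (p := p) (k := k) (z e2) (S.inj (by rw [map_pow, ← h, conj_pow, hk', map_one]; simp))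
  refine ⟨y.u, y.v, h.cast rfl ?_⟩
  rw [eq_pe (x := y) ⟨e4, z e2⟩, z e1, z e3]; rfl

theorem omega {s : G} (hZ : ∀ z, R ι s (pe 0 0 0 z) (pe 0 0 0 (-z))) {u v u' v' a b a' b' : F}
    (h1 : R ι s (pe 0 u v 0) (pe 0 u' v' 0)) (h2 : R ι s (pe 0 a b 0) (pe 0 a' b' 0)) :
    u' * b' - v' * a' = -(u * b - v * a) := by
  have h := ((h1.mul h2).mul h1.inv).mul h2.inv
  rw [q_comm, q_comm] at h
  have := congrArg HS.z ((S.eq_iff h (hZ _)).1 rfl)
  exact mul_left_cancel₀ S.two (by simp at this; linear_combination this)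

theorem mem_C_of_sq (p : ℕ) [Fact p.Prime] [CharP F p] (ns : ∀ x : F, x * x ≠ -1) {s : G}
    (hs : s ∈ normalizer ((ZZ F).map ι : Set G)) (h2 : s * s = ι tt) : s ∈ ι.range := by
  by_contra hC
  have hZ := S.inv_Z hs hC ⟨_, h2.symm⟩
  have ht : R ι s tt tt := R.of_comm (by rw [← h2, mul_assoc])
  obtain ⟨a, b, h1⟩ := S.exV p hs ht 1 0
  obtain ⟨a', b', h3⟩ := S.exV p hs ht a b
  obtain ⟨r1, r2, h4⟩ := S.exV p hs ht 0 1
  have e := S.eq_of (h2 ▸ h1.comp h3)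
  rw [tt_conj, pe_inj] at e
  have o1 := S.omega hZ h1 h3
  have o2 := S.omega hZ h1 h4
  have o3 := S.omega hZ h3 h4
  rw [← e.2.1, ← e.2.2.1] at o1 o3
  have hb : b = 0 := mul_left_cancel₀ S.two (by linear_combination o1)
  exact ns a (by rw [hb] at o2; linear_combination o2 + a * o3)

theorem exists_fix (p : ℕ) [Fact p.Prime] [CharP F p] {s : G} (hs : s ∈ normalizer ((ZZ F).map ι : Set G))
    (hC : s ∉ ι.range) (h2 : s * s = 1) (ht : R ι s tt tt) :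
    ∃ u v, (u ≠ 0 ∨ v ≠ 0) ∧ R ι s (pe 0 u v 0) (pe 0 u v 0) := by
  have hZ := S.inv_Z hs hC (h2 ▸ one_mem _)
  have key : ∀ {u v u' v' : F}, R ι s (pe 0 u v 0) (pe 0 u' v' 0) →
      R ι s (pe 0 (u + u') (v + v') 0) (pe 0 (u + u') (v + v') 0) := fun {u v u' v'} h => by
    have h' : R ι s (pe 0 u' v' 0) (pe 0 u v 0) := by
      have := h.symm
      rwa [inv_eq_of_mul_eq_one_right h2] at this
    refine ((h.mul h').mul (hZ (v * u' - u * v'))).cast ?_ ?_ <;> rw [pe_mul, pe_mul, pe_inj] <;>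
      refine ⟨?_, ?_, ?_, ?_⟩ <;> ring
  obtain ⟨a, b, h1⟩ := S.exV p hs ht 1 0
  obtain ⟨r1, r2, h4⟩ := S.exV p hs ht 0 1
  by_contra hc
  push Not at hc
  have c1 := not_or.1 fun e => hc _ _ e (key h1)
  have c2 := not_or.1 fun e => hc _ _ e (key h4)
  simp only [not_not] at c1 c2
  have o := S.omega hZ h1 h4
  exact S.two (by grind)

theorem eq_of_sq {x : HS F} (h : x * tt = tt * x) (h2 : x * x = 1) : x = 1 ∨ x = tt := by
  obtain ⟨hu, hv⟩ := uv_of_tt S.two h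
  have e1 := congrArg HS.a h2
  have e2 := congrArg HS.b h2
  have e3 := congrArg HS.c h2
  have e4 := congrArg HS.d h2
  have e5 := congrArg HS.z h2
  have := x.det
  have two := S.two
  simp [hu, hv] at e1 e2 e3 e4 e5
  have hz : x.z = 0 := by grind
  have h0 : x.a + x.d ≠ 0 := by grind
  have hb : x.b = 0 := by grind
  have hc : x.c = 0 := by grind
  rcases mul_self_eq_one_iff.1 (show x.a * x.a = 1 by grind) with h | h
  · left; ext <;> simp <;> grind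
  · right; ext <;> simp <;> grind

end Setup

/-- `{pe b 0 0 z}` -/
def ZX (F : Type*) [Field F] : Subgroup (HS F) where
  carrier := {x | x ∈ MM F ∧ x.u = 0}
  mul_mem' := fun h h' => ⟨mul_mem h.1 h'.1, by simp [h.2, h'.2, h'.1.2]⟩
  one_mem' := ⟨one_mem _, rfl⟩
  inv_mem' := fun h => ⟨inv_mem h.1, by simp [h.2, h.1.2]⟩

theorem mem_ZX {g : G} : g ∈ (ZX F).map ι ↔ ∃ b z, ι (pe b 0 0 z) = g :=
  ⟨fun ⟨x, h, e⟩ => ⟨x.b, x.z, by rw [← e]; congr 1; rw [eq_pe h.1.1, h.1.2, h.2]; rfl⟩,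
    fun ⟨_, _, e⟩ => ⟨_, ⟨⟨pe_mem .., rfl⟩, rfl⟩, e⟩⟩

namespace Cl

variable (S : Cl ι) [Finite G] [CharP F 3]
include S

local instance : Fact (Nat.Prime 3) := ⟨Nat.prime_three⟩

theorem cij' {g : G} (h1 : g⁻¹ * ι ii * g ∈ ι.range) (h2 : g⁻¹ * ι jj * g ∈ ι.range) :
    g ∈ normalizer ((ZZ F).map ι : Set G) := by
  have key : ∀ {y : G}, g⁻¹ * y * g ∈ ι.range → g * ι (pe 0 0 0 1) * g⁻¹ * y = y * (g * ι (pe 0 0 0 1) * g⁻¹) := by
    rintro y ⟨x, hx⟩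
    calc _ = g * (ι (pe 0 0 0 1) * ι x) * g⁻¹ := by rw [hx]; group
      _ = _ := by rw [← map_mul, ← pe_comm, map_mul, hx]; group
  have c3 : (g * ι (pe 0 0 0 1) * g⁻¹) ^ 3 ^ 1 = 1 := by
    rw [pow_one, conj_pow, M_pow 3 (pe_mem_M ..), mul_one, mul_inv_cancel]
  obtain ⟨x, hx⟩ := S.pelt_mem 3 (S.cij (key h1) (key h2)) c3
  rw [← hx] at key c3
  rcases of_comm_ij (x := x) (S.inj (by rw [map_mul, map_mul, key h1])) (S.inj (by rw [map_mul, map_mul, key h2]))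
    with e | e
  · exact S.zM (Or.inr one_ne_zero) (by rw [← hx, e]; exact pe_mem_M ..)
  · have := a_eq_one (p := 3) (x := x) (k := 1) (by rw [e]; simp) (S.inj (by rw [map_pow, c3, map_one]))
    rw [e] at this
    exact absurd (by simp at this; linear_combination -this) S.two

theorem exists_two : ∃ T, IsSylowIn 2 T (centralizer {ι tt}) ∧ T ≤ normalizer ((ZZ F).map ι : Set G) := by
  have : Fact (Nat.Prime 2) := ⟨Nat.prime_two⟩
  have t2 : ∀ {x : HS F}, x * x = tt → ι x ^ 2 ^ 2 = 1 := fun {x} h => by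
    rw [← map_pow, show x ^ 2 ^ 2 = x * x * (x * x) by simp [pow_succ, mul_assoc], h, tt_sq, map_one]
  have cW : ∀ {x : HS F}, x * x = tt → ι x ∈ centralizer {ι tt} := fun {x} h =>
    mem_centralizer_singleton_iff.2 (by rw [← h, map_mul, mul_assoc])
  obtain ⟨T, hT, hle⟩ := exists_isSylowIn_ge (K := centralizer {ι tt}) ((pgroup_zp (t2 ii_sq)).to_sup_of_normal_left'
    (pgroup_zp (t2 jj_sq)) (zpowers_le_of_mem (mem_normalizer_fintype (by
      rintro _ ⟨n, rfl⟩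
      refine ⟨-n, ?_⟩
      simp only
      rw [← conj_zpow, ← map_inv, ← map_mul, ← map_mul, j_i, map_inv, inv_zpow', ]))))
    (sup_le (zpowers_le_of_mem (cW ii_sq)) (zpowers_le_of_mem (cW jj_sq)))
  refine ⟨T, hT, ?_⟩
  by_contra hn
  obtain ⟨g, hg, hg'⟩ := SetLike.exists_of_lt (lt_inf_normalizer_of_pgroup hT.pgroup
    (lt_of_le_of_ne inf_le_left fun e => hn (e.ge.trans inf_le_right) :
      T ⊓ normalizer ((ZZ F).map ι : Set G) < T))
  have key : ∀ {x : HS F}, x * x = tt → ι x ∈ T → g⁻¹ * ι x * g ∈ ι.range := fun {x} h hx =>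
    S.mem_C_of_sq 3 S.ns ((mem_normalizer_iff''.1 hg.2 _).1 (mem_inf.2 ⟨hx, S.C_le_NZ x⟩)).2 (by
      have := mem_centralizer_singleton_iff.1 (hT.le hg.1)
      calc _ = g⁻¹ * (ι x * ι x * g) := by group
        _ = _ := by rw [← map_mul, h, ← this]; group)
  exact hg' ⟨hg.1, S.cij' (key ii_sq (hle (mem_sup_left (mem_zpowers _))))
    (key jj_sq (hle (mem_sup_right (mem_zpowers _))))⟩

theorem sylowZX : IsSylowIn 3 ((ZX F).map ι) (centralizer {ι tt}) := by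
  have := S.finite
  have hle : (ZX F).map ι ≤ centralizer {ι tt} := fun a ha => by
    obtain ⟨b, z, rfl⟩ := mem_ZX.1 ha
    exact mem_centralizer_singleton_iff.2 (by rw [← map_mul, ← map_mul, tt_comm rfl rfl])
  have hM : (ZX F).map ι ≤ (MM F).map ι := map_mono fun _ h => h.1
  refine IsSylowIn.of_normalizer hle ⟨le_inf hle le_normalizer, (pgroup_P 3).to_le (hM.trans M_le_P), ?_⟩
  refine fun Q hQ hp hPQ => le_antisymm (fun g hg => ?_) hPQ
  obtain ⟨k, hk⟩ := hp ⟨g, hg⟩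
  replace hk : g ^ 3 ^ k = 1 := congrArg Subtype.val hk
  have hn := mem_normalizer_iff.1 (hQ hg).2
  obtain ⟨x, rfl⟩ := S.pelt_mem 3 (S.zM (Or.inr one_ne_zero) (hM ((hn _).1 (mem_ZX.2 ⟨0, 1, rfl⟩)))) hk
  obtain ⟨b, z, e⟩ := mem_ZX.1 ((hn _).1 (mem_ZX.2 ⟨1, 0, rfl⟩))
  have hc := c_eq_zero one_ne_zero rfl (S.eq_of e.symm)
  obtain ⟨hu, hv⟩ := uv_of_tt S.two (x := x) (S.inj (by
    rw [map_mul, map_mul, mem_centralizer_singleton_iff.1 (hQ hg).1]))
  exact mem_map_of_mem ι ⟨⟨⟨a_eq_one hc (S.inj (by rw [map_pow, hk, map_one])), hc⟩, hv⟩, hu⟩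

theorem isolated (g : G) (h : Commute (ι tt) (g * ι tt * g⁻¹)) : g * ι tt * g⁻¹ = ι tt := by
  have : Fact (Nat.Prime 2) := ⟨Nat.prime_two⟩
  have := S.finite
  have t2 : ι tt * ι tt = 1 := by rw [← map_mul, tt_sq, map_one]
  have s2 : ∀ g : G, g * ι tt * g⁻¹ * (g * ι tt * g⁻¹) = 1 := fun g => by
    rw [show g * ι tt * g⁻¹ * (g * ι tt * g⁻¹) = g * (ι tt * ι tt) * g⁻¹ by group, t2]; group
  obtain ⟨T, hT, hN⟩ := S.exists_two
  obtain ⟨T', hT', hle⟩ := exists_isSylowIn_ge (K := centralizer {ι tt})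
    (pgroup_zp (p := 2) (k := 1) (by rw [pow_one, sq, s2 g]))
    (zpowers_le_of_mem (mem_centralizer_singleton_iff.2 h.symm))
  obtain ⟨c, hc, rfl⟩ := hT.exists_cj_eq hT'
  have h1 := mem_cj.1 (hle (mem_zpowers _))
  have hc' := mem_centralizer_singleton_iff.1 hc
  suffices c⁻¹ * g * ι tt * (c⁻¹ * g)⁻¹ = ι tt by
    calc _ = c * (c⁻¹ * g * ι tt * (c⁻¹ * g)⁻¹) * c⁻¹ := by group
      _ = _ := by rw [this, hc', mul_inv_cancel_right]
  replace h1 : c⁻¹ * g * ι tt * (c⁻¹ * g)⁻¹ ∈ T := by convert h1 using 1; group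
  generalize c⁻¹ * g = k at h1
  have ht : R ι (k * ι tt * k⁻¹) tt tt := R.of_comm (mem_centralizer_singleton_iff.1 (hT.le h1))
  by_cases hC : k * ι tt * k⁻¹ ∈ ι.range
  · obtain ⟨x, hx⟩ := hC
    rw [← hx] at ht ⊢
    rcases S.eq_of_sq (x := x) (S.inj (by rw [map_mul, map_mul, ht.comm])) (S.inj (by rw [map_mul, hx, s2, map_one]))
      with rfl | rfl
    · have e : ι tt = ι 1 := by
        rw [map_one] at hx ⊢
        simpa using hx.symm
      have := congrArg HS.a (S.inj e)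
      exact absurd (by simp at this; linear_combination -this) S.two
    · rfl
  exfalso
  obtain ⟨u, v, h0, hy⟩ := S.exists_fix 3 (hN h1) hC (s2 k) ht
  obtain ⟨x, u', z', u0, e⟩ := conj_U u v 0 h0
  obtain ⟨m, hm⟩ := pgroup_P (ι := ι) 3 ⟨_, pe_mem_P 0 u v 0⟩
  have hm' : ι (pe 0 u v 0) ^ 3 ^ m = 1 := congrArg Subtype.val hm
  obtain ⟨P', hP', hle'⟩ := exists_isSylowIn_ge (K := centralizer {ι tt})
    (pgroup_zp (g := k⁻¹ * ι (pe 0 u v 0) * k⁻¹⁻¹) (p := 3) (k := m) (by rw [conj_pow, hm']; group))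
    (zpowers_le_of_mem (mem_centralizer_singleton_iff.2 (by
      calc _ = k⁻¹ * (ι (pe 0 u v 0) * (k * ι tt * k⁻¹)) * k := by group
        _ = _ := by rw [← hy.comm]; group)))
  obtain ⟨d, -, rfl⟩ := S.sylowZX.exists_cj_eq hP'
  obtain ⟨b, z, e'⟩ := mem_ZX.1 (mem_cj.1 (hle' (mem_zpowers _)))
  have e2 : d⁻¹ * k⁻¹ * (ι x)⁻¹ * ι (pe 0 u' 0 z') * (d⁻¹ * k⁻¹ * (ι x)⁻¹)⁻¹ = ι (pe b 0 0 z) := by
    rw [e', ← e, map_mul, map_mul, map_inv]; group
  obtain ⟨n, hn, e3⟩ := S.ctl 3 (pe_mem_M 0 u' z') (e2 ▸ pe_mem_M b 0 z)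
  obtain ⟨u2, z2, h2, h3⟩ := S.exU (S.hB hn) u' z'
  exact h3 u0 (congrArg HS.u (S.inj ((Eq.symm h2).trans (e3.trans e2))) :)

theorem normal_Z (g : G) : g ∈ normalizer ((ZZ F).map ι : Set G) := by
  have := S.finite
  have h1 := H7.zstar_commute (t := ι tt) (by rw [← map_mul, tt_sq, map_one]) S.isolated (ι (pe 0 1 0 0))
  have h2 : pPrimeCore 2 G ≠ ⊥ := fun e => by
    rw [e, mem_bot, commutatorElement_eq_one_iff_mul_comm, ← map_mul, ← map_mul] at h1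
    exact one_ne_zero (uv_of_tt S.two (S.inj h1).symm).1
  have : Fact (Nat.Prime 2) := ⟨Nat.prime_two⟩
  have := FT.odd_solvable (G := pPrimeCore 2 G) (Nat.odd_iff.2 (by
    have := L0.not_dvd_card_pPrimeCore (G := G) (p := 2); omega))
  obtain ⟨r, A, hr, -, hA, h0, he⟩ := L0.exists_elementary_normal_le inferInstance h2
  have hp : IsPGroup r A := fun a => ⟨1, Subtype.ext (by simpa using he.2 a a.2)⟩
  obtain rfl : r = 3 := by_contra fun hne => h0 (S.eq_bot_of_norm 3 S.ncyc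
    (haveI := Fact.mk hr; not_dvd_card_of_pgroup hne hp) le_normalizer_of_normal)
  have hle : A ≤ (PP F).map ι := (S.sylowP 3).le_of_le_normalizer hp le_top le_normalizer_of_normal
  have := (pgroup_P (ι := ι) 3).isNilpotent
  obtain ⟨⟨y, hy, hc⟩, y1⟩ := (ne_bot_iff_exists_ne_one).1
    (L0.inf_centralizer_ne_bot_of_isNilpotent hle le_normalizer_of_normal h0)
  obtain ⟨x, -, rfl⟩ := hle hy
  have e := eq_pe_of_comm (x := x) S.two (S.inj (by rw [map_mul, map_mul, hc _ (pe_mem_P ..)]))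
    (S.inj (by rw [map_mul, map_mul, hc _ (pe_mem_P ..)]))
  have z0 : x.z ≠ 0 := fun h => y1 (Subtype.ext (by rw [h, pe_zero] at e; simp [e]))
  rw [e] at hy
  obtain ⟨b, u, v, z, e1⟩ := mem_P.1 (hle (hA.conj_mem _ hy g))
  obtain ⟨_, _, _, _, e2⟩ := mem_P.1 (hle (hA.conj_mem _ (hA.conj_mem _ hy g) (ι ii)))
  rw [← e1, ← map_inv, ← map_mul, ← map_mul] at e2
  have hb : b = 0 := by simpa using congrArg HS.c (S.inj e2)
  subst hb
  by_cases h : u ≠ 0 ∨ v ≠ 0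
  · obtain ⟨x', u', z', -, e3⟩ := conj_U u v z h
    have := S.zM (g := ι x' * g) (Or.inr z0) (by
      rw [show ι x' * g * ι (pe 0 0 0 x.z) * (ι x' * g)⁻¹ = ι x' * (g * ι (pe 0 0 0 x.z) * g⁻¹) * (ι x')⁻¹ by group,
        ← e1, ← map_inv, ← map_mul, ← map_mul, e3]
      exact pe_mem_M ..)
    simpa using mul_mem (inv_mem (S.C_le_NZ x')) this
  · push Not at h
    exact S.zM (Or.inr z0) (by rw [← e1, h.2]; exact pe_mem_M ..)

theorem normal_C : ι.range.Normal := ⟨by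
  rintro _ ⟨x, rfl⟩ g
  obtain ⟨y, hy⟩ := S.exN (S.normal_Z g) x
  exact ⟨y, Eq.symm hy⟩⟩

end Cl

end Cfsg.Agent.H5.HS
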