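import Cfsg.Agent.H5.HS5

/-!
# The case in which `N(M)` is not `p`-closed: the conjugates of `Z` in `M`
-/

set_option autoImplicit false

namespace Cfsg.Agent.H5.HS

open Subgroup Cfsg.Agent.H8

variable {F : Type*} [Field F] {G : Type*} [Group G] {ι : HS F →* G}

@[simps] def hh (l : F) (h : l ≠ 0) : HS F := ⟨l, 0, 0, l⁻¹, 0, 0, 0, by simp [h]⟩

theorem hh_conj (l : F) (h : l ≠ 0) (b u z : F) :
    hh l h * pe b u 0 z * (hh l h)⁻¹ = pe (l ^ 2 * b) (l * u) 0 z := by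
  ext <;> simp <;> field_simp

theorem y_conj (b1 u1 v z1 b u z : F) : pe b1 u1 v z1 * pe b u 0 z * (pe b1 u1 v z1)⁻¹ =
    pe b (u - b * v) 0 (z + b * v ^ 2 - 2 * u * v) := by
  simp only [pe_inv, pe_mul, pe_inj]; refine ⟨?_, ?_, ?_, ?_⟩ <;> ring

theorem tt_conj' (b u z : F) : tt * pe b u 0 z * tt⁻¹ = pe b (-u) 0 z := by ext <;> simp

theorem R.y (v b u z : F) : R ι (ι (pe 0 0 v 0)) (pe b u 0 z) (pe b (u - b * v) 0 (z + b * v ^ 2 - 2 * u * v)) :=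
  (R.self _ _).cast rfl (y_conj ..)

theorem R.h {l : F} (h : l ≠ 0) (b u z : F) : R ι (ι (hh l h)) (pe b u 0 z) (pe (l ^ 2 * b) (l * u) 0 z) :=
  (R.self _ _).cast rfl (hh_conj ..)

theorem sq_or [Finite F] (h2 : (2 : F) ≠ 0) (ns : ∀ x : F, x * x ≠ -1) (a : F) :
    (∃ v, a = v ^ 2) ∨ ∃ v, -a = v ^ 2 := by
  classical
  have := Fintype.ofFinite F
  have h1 := quadraticChar_neg_one_iff_not_isSquare.2 (show ¬ IsSquare (-1 : F) from fun ⟨x, h⟩ => ns x h.symm)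
  by_cases ha : IsSquare a
  · obtain ⟨v, hv⟩ := ha; exact Or.inl ⟨v, by rw [hv, sq]⟩
  have a0 : a ≠ 0 := fun e => ha ⟨0, by simp [e]⟩
  obtain ⟨v, hv⟩ := (quadraticChar_one_iff_isSquare (neg_ne_zero.2 a0)).1 (by
    rw [← neg_one_mul, map_mul, h1, quadraticChar_neg_one_iff_not_isSquare.2 ha]; norm_num)
  exact Or.inr ⟨v, by rw [hv, sq]⟩

theorem mem_NM [Finite G] {g : G} (h : ∀ b u z, ∃ b' u' z', R ι g (pe b u 0 z) (pe b' u' 0 z')) :
    g ∈ normalizer ((MM F).map ι : Set G) := mem_normalizer_fintype fun a ha => by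
  obtain ⟨b, u, z, rfl⟩ := mem_M.1 ha
  obtain ⟨_, _, _, h⟩ := h b u z
  exact mem_M.2 ⟨_, _, _, Eq.symm h⟩

theorem y_NM [Finite G] (b1 u1 v z1 : F) : ι (pe b1 u1 v z1) ∈ normalizer ((MM F).map ι : Set G) :=
  mem_NM fun _ _ _ => ⟨_, _, _, (R.self _ _).cast rfl (y_conj ..)⟩

theorem h_NM [Finite G] {l : F} (h : l ≠ 0) : ι (hh l h) ∈ normalizer ((MM F).map ι : Set G) :=
  mem_NM fun _ _ _ => ⟨_, _, _, R.h h ..⟩

theorem t_NM [Finite G] : ι tt ∈ normalizer ((MM F).map ι : Set G) :=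
  mem_NM fun _ _ _ => ⟨_, _, _, (R.self _ _).cast rfl (tt_conj' ..)⟩

structure Op (ι : HS F →* G) : Prop extends Setup ι where
  ns : ∀ x : F, x * x ≠ -1
  nf : ∃ z ≠ 0, ∀ g, ¬ R ι g (pe 0 0 0 1) (pe 0 0 0 z)

namespace Setup

variable (S : Setup ι)
include S

theorem neg_eq {y : F} (h : -y = y) : y = 0 := (mul_eq_zero.1 (by linear_combination -h)).resolve_left S.two

theorem c_zero {x : HS F} (h : ι x ∈ normalizer ((MM F).map ι : Set G)) : x.c = 0 := by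
  obtain ⟨_, _, _, e⟩ := exM h 1 0 0
  exact c_eq_zero one_ne_zero rfl (S.eq_of e)

theorem exX {g : G} (hg : g ∈ normalizer ((MM F).map ι : Set G)) (ht : R ι g tt tt) (b z : F) :
    ∃ b' z', R ι g (pe b 0 0 z) (pe b' 0 0 z') := by
  obtain ⟨b', u', z', h⟩ := exM hg b 0 z
  have e := (S.eq_iff ((ht.mul h).mul ht.inv) h).1 (by rw [tt_conj', neg_zero])
  rw [tt_conj', pe_inj] at e
  exact ⟨b', z', by rwa [S.neg_eq e.2.1] at h⟩

theorem exY {g : G} (hg : g ∈ normalizer ((MM F).map ι : Set G)) (ht : R ι g tt tt) (u : F) :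
    ∃ u', R ι g (pe 0 u 0 0) (pe 0 u' 0 0) := by
  obtain ⟨b', u', z', h⟩ := exM hg 0 u 0
  have e := (S.eq_iff ((ht.mul h).mul ht.inv) h.inv).1 (by rw [tt_conj', pe_inv]; simp)
  rw [tt_conj', pe_inv, pe_inj] at e
  exact ⟨u', by rwa [S.neg_eq e.1.symm, S.neg_eq e.2.2.2.symm] at h⟩

theorem exD {g : G} (hg : g ∈ normalizer ((MM F).map ι : Set G)) [Finite G] {κ b z : F} (hκ : κ ≠ 0)
    (h : R ι g (pe 0 0 0 κ) (pe b 0 0 z)) : ∃ u v, R ι (g * ι (pe 0 u v 0)) tt tt := by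
  obtain ⟨x, hx⟩ := S.mem_C hκ (g := g⁻¹ * ι tt * g) (by
    have := (h.comp ((R.self tt _).cast rfl (tt_conj' ..))).comp (by rw [neg_zero]; exact h.symm)
    rwa [← mul_assoc] at this)
  have c := S.c_zero (x := x) (hx ▸ mul_mem (mul_mem (inv_mem hg) t_NM) hg)
  have e : x * x = 1 := S.inj (by
    rw [map_mul, hx, show g⁻¹ * ι tt * g * (g⁻¹ * ι tt * g) = g⁻¹ * ι (tt * tt) * g by rw [map_mul]; group, tt_sq]
    simp)
  have x1 : x ≠ 1 := fun e => by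
    rw [e, map_one] at hx
    have e : ι tt = ι 1 := by
      rw [map_one, show ι tt = g * (g⁻¹ * ι tt * g) * g⁻¹ by group, ← hx]; simp
    exact S.two (by have := congrArg HS.a (S.inj e); simp at this; linear_combination -this)
  have e1 := congrArg HS.a e
  have e2 := congrArg HS.b e
  have e3 := congrArg HS.u e
  have e4 := congrArg HS.v e
  have e5 := congrArg HS.z e
  have := x.det
  have two := S.two
  simp [c] at e1 e2 e3 e4 e5 this
  have ha : x.a = -1 := (mul_self_eq_one_iff.1 e1).resolve_left fun h => x1 (by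
    have hd : x.d = 1 := by grind
    have hb : x.b = 0 := by grind
    have hv : x.v = 0 := by grind
    have hu : x.u = 0 := by grind
    ext <;> simp <;> grind)
  have hd : x.d = -1 := by grind
  have hb : x.b = 0 := by grind
  refine ⟨x.u / 2, x.v / 2, ?_⟩
  have e6 : pe 0 (x.u / 2) (x.v / 2) 0 * tt * (pe 0 (x.u / 2) (x.v / 2) 0)⁻¹ = x := by
    ext <;> simp <;> grind
  refine ((R.self _ tt).cast rfl e6).comp ?_
  unfold R; rw [hx]; group

end Setup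

namespace Op

variable (S : Op ι) [Finite G] (p : ℕ) [Fact p.Prime] [CharP F p]
include S p

theorem noU {g : G} {κ u z : F} (hκ : κ ≠ 0) (hu : u ≠ 0) : ¬ R ι g (pe 0 0 0 κ) (pe 0 u 0 z) := fun h => by
  have h1 := h.comp (R.y (z / (2 * u)) 0 u z)
  rw [show z + 0 * (z / (2 * u)) ^ 2 - 2 * u * (z / (2 * u)) = 0 by have := S.two; field_simp; ring,
    zero_mul, sub_zero] at h1
  obtain ⟨n, hn, e⟩ := S.ctl p (pe_mem_M 0 0 κ) (Eq.symm h1 ▸ pe_mem_M 0 u 0)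
  replace e : R ι n (pe 0 0 0 κ) (pe 0 u 0 0) := e.trans h1
  have rt : ∀ b u z : F, R ι (ι tt) (pe b u 0 z) (pe b (-u) 0 z) := fun _ _ _ => (R.self _ _).cast rfl (tt_conj' ..)
  have h2 : R ι (n⁻¹ * (ι tt * n)) (pe 0 0 0 κ) (pe 0 0 0 (-κ)) :=
    (e.comp (rt ..)).comp (e.inv.symm.cast (by rw [pe_inv]; simp) (by rw [pe_inv]; simp))
  have h3 := S.inv_Z (S.normZ hκ h2) (by
    rintro ⟨x, hx⟩
    have := S.eq_of (hx ▸ h2)
    rw [pe_comm, mul_inv_cancel_right, pe_inj] at this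
    exact hκ (S.neg_eq this.2.2.2.symm)) (by
      rw [show n⁻¹ * (ι tt * n) * (n⁻¹ * (ι tt * n)) = n⁻¹ * ι (tt * tt) * n by rw [map_mul]; group, tt_sq]
      simp)
  have h4 : ∀ k : F, k ≠ 0 → ∃ u', u' ≠ 0 ∧ R ι n (pe 0 0 0 k) (pe 0 u' 0 0) := fun k hk => by
    obtain ⟨b', u', z', h⟩ := exM hn 0 0 k
    have h5 := (h3 k).comp (h.inv.cast (by rw [pe_inv]; simp) rfl)
    rw [mul_inv_cancel_left] at h5
    have := (S.eq_iff (h.comp (rt ..)) h5).1 rfl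
    rw [pe_inv, pe_inj] at this
    rw [S.neg_eq this.1.symm, S.neg_eq this.2.2.2.symm] at h
    exact ⟨u', fun e => hk (congrArg HS.z ((S.eq_iff h (R.one n)).2 (by rw [e]; rfl))), h⟩
  obtain ⟨k, hk, hf⟩ := S.nf
  obtain ⟨u1, h5, h6⟩ := h4 1 one_ne_zero
  obtain ⟨u2, h7, h8⟩ := h4 k hk
  exact hf _ ((h6.comp ((R.h (div_ne_zero h7 h5) ..).cast rfl (by rw [mul_zero, div_mul_cancel₀ _ h5]))).comp h8.symm)

theorem b_ne {g : G} (hg : g ∉ normalizer ((ZZ F).map ι : Set G)) {κ b u z : F} (hκ : κ ≠ 0)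
    (h : R ι g (pe 0 0 0 κ) (pe b u 0 z)) : b ≠ 0 := by
  rintro rfl
  by_cases hu : u = 0
  · subst hu; exact hg (S.normZ hκ h)
  · exact S.noU p hκ hu h

theorem surj {g : G} (hg : g ∈ normalizer ((MM F).map ι : Set G)) (hg' : g ∉ normalizer ((ZZ F).map ι : Set G))
    (b : F) : ∃ κ u z, R ι g (pe 0 0 0 κ) (pe b u 0 z) := by
  have := S.finite
  choose f u z h using fun κ => exM hg 0 0 κ
  have : Function.Injective f := fun k l e => by
    have := (h k).mul (h l).inv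
    simp only [pe_inv, pe_mul, e, add_neg_cancel, neg_zero, mul_zero, add_zero, sub_zero, zero_mul] at this
    exact by_contra fun h => S.b_ne p hg' (by simpa [add_neg_eq_zero] using h) this rfl
  obtain ⟨k, rfl⟩ := Finite.surjective_of_injective this b
  exact ⟨k, _, _, h k⟩

theorem two_aux {n1 n2 : G} (h2 : n2 ∈ normalizer ((MM F).map ι : Set G)) (ht : R ι n2 tt tt) {k1 k2 b z1 z2 v : F}
    (hk : k1 ≠ 0) (e1 : R ι n1 (pe 0 0 0 k1) (pe b 0 0 z1)) (e2 : R ι n2 (pe 0 0 0 k2) (pe b 0 0 z2))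
    (hb : b ≠ 0) (hv : v ≠ 0) (h : (z2 - z1) / b = v ^ 2) : False := by
  obtain ⟨u, hu⟩ := S.exY (inv_mem h2) ht.symm (-(b * v))
  refine S.noU p hk (u := u) (z := k2) (fun e => mul_ne_zero hb hv (by
    simpa using congrArg HS.u ((S.eq_iff hu (R.one _)).2 (by rw [e]; rfl))))
    ((e1.comp (R.y v ..)).comp ((e2.symm.mul hu).cast ?_ ?_)) <;> rw [pe_mul, pe_inj]
  · refine ⟨by ring, by ring, by ring, ?_⟩
    rw [← h]; field_simp; ring
  · simp

/-- only two conjugates of `Z` in `M` are centralized by `t` -/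
theorem uniq {n1 n2 : G} (h1 : n1 ∈ normalizer ((MM F).map ι : Set G)) (t1 : R ι n1 tt tt)
    (z1 : n1 ∉ normalizer ((ZZ F).map ι : Set G)) (h2 : n2 ∈ normalizer ((MM F).map ι : Set G)) (t2 : R ι n2 tt tt)
    (z2 : n2 ∉ normalizer ((ZZ F).map ι : Set G)) : n2⁻¹ * n1 ∈ normalizer ((ZZ F).map ι : Set G) := by
  have := S.finite
  obtain ⟨b, c1, e1⟩ := S.exX h1 t1 0 1
  have hb := S.b_ne p z1 one_ne_zero e1
  obtain ⟨k, u, c2, e2⟩ := S.surj p h2 z2 b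
  obtain ⟨_, _, e3⟩ := S.exX h2 t2 0 k
  obtain rfl : u = 0 := congrArg HS.u ((S.eq_iff e2 e3).1 rfl)
  by_cases hc : c1 = c2
  · subst hc; exact S.normZ one_ne_zero (e1.comp e2.symm)
  have hk : k ≠ 0 := fun e => hb (congrArg HS.b ((S.eq_iff e2 (R.one _)).1 (by rw [e]; rfl)))
  have h0 : (c2 - c1) / b ≠ 0 := div_ne_zero (sub_ne_zero.2 (Ne.symm hc)) hb
  rcases sq_or S.two S.ns ((c2 - c1) / b) with ⟨v, hv⟩ | ⟨v, hv⟩
  · exact (S.two_aux p h2 t2 one_ne_zero e1 e2 hb (fun e => h0 (by simp [hv, e])) hv).elim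
  · exact (S.two_aux p h1 t1 hk e2 e1 hb (v := v) (fun e => h0 (by rw [← neg_eq_zero, hv, e]; simp))
      (by rw [← hv]; ring)).elim

/-- a conjugate of `Z` is moved by `P` to one that is centralized by `t` -/
theorem exists_D {g : G} (hg : g ∈ normalizer ((MM F).map ι : Set G)) (hg' : g ∉ normalizer ((ZZ F).map ι : Set G)) :
    ∃ v x, ι (pe 0 0 v 0) * g * ι x ∈ normalizer ((MM F).map ι : Set G) ∧ R ι (ι (pe 0 0 v 0) * g * ι x) tt tt := by
  obtain ⟨b, u, z, h⟩ := exM hg 0 0 1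
  have hb := S.b_ne p hg' one_ne_zero h
  have h1 := h.comp (R.y (u / b) ..)
  rw [mul_div_cancel₀ _ hb, sub_self] at h1
  obtain ⟨u', v', h2⟩ := S.exD (mul_mem (y_NM _ _ _ _) hg) one_ne_zero h1
  exact ⟨_, _, mul_mem (mul_mem (y_NM _ _ _ _) hg) (y_NM _ _ _ _), h2⟩

end Op

end Cfsg.Agent.H5.HS
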