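import Cfsg.Agent.H5.HS6
import Cfsg.Agent.H5.Gasch

/-!
# The case in which `N(M)` is not `p`-closed: `N(M)/M ≅ GL₂(q)/±1`
-/

set_option autoImplicit false

namespace Cfsg.Agent.H5.HS

open Subgroup Cfsg.Agent.H8 Matrix

variable {F : Type*} [Field F] {G : Type*} [Group G] {ι : HS F →* G}

/-- coordinates on `M` -/
def mu (k b u z : F) : HS F := pe b u 0 (z + k * b)

theorem mu_mul (k b u z b' u' z' : F) : mu k b u z * mu k b' u' z' = mu k (b + b') (u + u') (z + z') := by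
  simp only [mu, pe_mul, pe_inj]; exact ⟨trivial, by ring, by ring, by ring⟩

theorem mu_inj {k b u z b' u' z' : F} : mu k b u z = mu k b' u' z' ↔ b = b' ∧ u = u' ∧ z = z' := by
  simp only [mu, pe_inj, true_and]
  exact ⟨fun ⟨h1, h2, h3⟩ => ⟨h1, h2, by rw [h1] at h3; exact add_right_cancel h3⟩,
    fun ⟨h1, h2, h3⟩ => ⟨h1, h2, by rw [h1, h3]⟩⟩

theorem mu_z (k z : F) : mu k 0 0 z = pe 0 0 0 z := by simp [mu]
theorem mu_u (k u : F) : mu k 0 u 0 = pe 0 u 0 0 := by simp [mu]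
theorem pe_mu (k b u z : F) : pe b u 0 z = mu k b u (z - k * b) := by simp [mu]

theorem R.my (k v b u z : F) :
    R ι (ι (pe 0 0 v 0)) (mu k b u z) (mu k b (u - b * v) (z + b * v ^ 2 - 2 * u * v)) :=
  (R.y ..).cast rfl (by simp only [mu, pe_inj, true_and]; ring)

theorem R.mcast {g : G} {x : HS F} {k b u z b' u' z' : F} (h : R ι g x (mu k b u z)) (e1 : b = b') (e2 : u = u')
    (e3 : z = z') : R ι g x (mu k b' u' z') := e1 ▸ e2 ▸ e3 ▸ h

/-- `g` acts on `M` like the matrix `m` on symmetric matrices -/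
def Ac (ι : HS F →* G) (k : F) (g : G) (m : Matrix (Fin 2) (Fin 2) F) : Prop :=
  ∀ b u z, R ι g (mu k b u z) (mu k (m 1 0 ^ 2 * z + 2 * m 1 0 * m 1 1 * u + m 1 1 ^ 2 * b)
    (m 0 0 * m 1 0 * z + (m 0 0 * m 1 1 + m 0 1 * m 1 0) * u + m 0 1 * m 1 1 * b)
    (m 0 0 ^ 2 * z + 2 * m 0 0 * m 0 1 * u + m 0 1 ^ 2 * b))

variable {k : F}

theorem Ac.mul {g g' : G} {m m' : Matrix (Fin 2) (Fin 2) F} (h : Ac ι k g m) (h' : Ac ι k g' m') :
    Ac ι k (g * g') (m * m') := fun b u z => by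
  refine ((h' b u z).comp (h _ _ _)).mcast ?_ ?_ ?_ <;> simp only [mul_apply, Fin.sum_univ_two] <;> ring

theorem Ac.mem [Finite G] {g : G} {m : Matrix (Fin 2) (Fin 2) F} (h : Ac ι k g m) :
    g ∈ normalizer ((MM F).map ι : Set G) := mem_NM fun b u z => ⟨_, _, _, (h b u _).cast (pe_mu k b u z).symm rfl⟩

theorem Ac.y (v : F) : Ac ι k (ι (pe 0 0 v 0)) !![1, -v; 0, 1] := fun b u z => by
  refine (R.my ..).mcast ?_ ?_ ?_ <;> simp <;> ring

theorem Ac.neg {g : G} {m : Matrix (Fin 2) (Fin 2) F} (h : Ac ι k g m) : Ac ι k g (-m) := fun b u z => by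
  refine (h b u z).mcast ?_ ?_ ?_ <;> simp only [Matrix.neg_apply] <;> ring

theorem Ac.of_M {g : G} (h : g ∈ (MM F).map ι) : Ac ι k g 1 := fun b u z =>
  (R.of_comm (M_comm h (pe_mem_M ..))).cast rfl (by simp [mu])

theorem Setup.ac_eq (S : Setup ι) {g : G} {m m' : Matrix (Fin 2) (Fin 2) F} (h : Ac ι k g m) (h' : Ac ι k g m')
    (h0 : m.det ≠ 0) : m' = m ∨ m' = -m := by
  have e1 := mu_inj.1 ((S.eq_iff (h 1 0 0) (h' 1 0 0)).1 rfl)
  have e2 := mu_inj.1 ((S.eq_iff (h 0 1 0) (h' 0 1 0)).1 rfl)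
  have e3 := mu_inj.1 ((S.eq_iff (h 0 0 1) (h' 0 0 1)).1 rfl)
  have two := S.two
  rw [det_fin_two] at h0
  simp only [mul_zero, mul_one, add_zero, zero_add] at e1 e2 e3
  simp only [← Matrix.ext_iff, Fin.forall_fin_two, Matrix.neg_apply]
  by_cases h1 : m 0 0 = 0
  · have h2 : m 0 1 ≠ 0 := fun e => h0 (by simp [h1, e])
    rcases sq_eq_sq_iff_eq_or_eq_neg.1 e1.2.2 with e | e
    · left; grind
    · right; grind
  · rcases sq_eq_sq_iff_eq_or_eq_neg.1 e3.2.2 with e | e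
    · left; grind
    · right; grind

theorem Setup.mem_M_of_ac (S : Setup ι) {g : G} (h : Ac ι k g 1) : g ∈ (MM F).map ι := by
  obtain ⟨x, rfl⟩ := S.mem_C one_ne_zero (g := g) ((h 0 0 1).cast (mu_z ..) (by simp [mu]))
  have e1 := S.eq_of ((h 0 1 0).cast (mu_u ..) (by simp [mu] : _ = pe 0 (1 : F) 0 0))
  rw [conj_Q, pe_inj] at e1
  exact S.mem_M_of_P (b := 1) (u := 0) (z := 0 + k * 1) ⟨by grind, by grind⟩ one_ne_zero
    ((h 1 0 0).cast rfl (by simp [mu]))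

structure Sw (ι : HS F →* G) (k : F) (n : G) : Prop extends Op ι where
  nM : n ∈ normalizer ((MM F).map ι : Set G)
  nt : R ι n tt tt
  nZ : n ∉ normalizer ((ZZ F).map ι : Set G)
  hk : ∀ l : F, l ≠ 0 → k * l ^ 2 = k
  ex1 : ∀ z, ∃ b, R ι n (pe 0 0 0 z) (mu k b 0 0)

theorem Op.exists_sw (S : Op ι) [Finite G] (p : ℕ) [Fact p.Prime] [CharP F p] {g : G}
    (hg : g ∈ normalizer ((MM F).map ι : Set G)) (hg' : g ∉ normalizer ((ZZ F).map ι : Set G)) :
    ∃ k n, Sw ι k n := by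
  obtain ⟨v, x, h1, h2⟩ := S.exists_D p hg hg'
  have h3 : ι (pe 0 0 v 0) * g * ι x ∉ normalizer ((ZZ F).map ι : Set G) := fun h =>
    hg' ((mul_mem_cancel_left (S.C_le_NZ _)).1 ((mul_mem_cancel_right (S.C_le_NZ _)).1 h))
  generalize ι (pe 0 0 v 0) * g * ι x = n at h1 h2 h3
  have sj : ∀ b, ∃ κ z, R ι n (pe 0 0 0 κ) (pe b 0 0 z) := fun b => by
    obtain ⟨k, u, z, e2⟩ := S.surj p h1 h3 b
    obtain ⟨_, _, e3⟩ := S.exX h1 h2 0 k
    obtain rfl : u = 0 := congrArg HS.u ((S.eq_iff e2 e3).1 rfl)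
    exact ⟨_, _, e2⟩
  have un : ∀ {κ κ' b z z' : F}, R ι n (pe 0 0 0 κ) (pe b 0 0 z) → R ι n (pe 0 0 0 κ') (pe b 0 0 z') → z = z' :=
    fun {κ κ' b z z'} e e' => by
      have := e.mul e'.inv
      simp only [pe_inv, pe_mul, add_neg_cancel, neg_zero, mul_zero, add_zero, sub_zero] at this
      have h : κ = κ' := by_contra fun h => S.b_ne p h3 (by simpa [add_neg_eq_zero] using h) this rfl
      exact congrArg HS.z ((S.eq_iff e e').1 (by rw [h]))
  choose κ ψ hψ using sj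
  have add : ∀ a b, ψ (a + b) = ψ a + ψ b := fun a b => un (hψ _) (by simpa [pe_mul] using (hψ a).mul (hψ b))
  have z0 : ψ 0 = 0 := by simpa using add 0 0
  have sq : ∀ l : F, l ≠ 0 → ∀ b, ψ (l ^ 2 * b) = ψ b := fun l hl b => by
    have h4 := S.uniq p (mul_mem (h_NM hl) h1) (h2.comp (R.of_comm (by rw [← map_mul, ← map_mul, tt_comm rfl rfl])))
      (fun h => h3 ((mul_mem_cancel_left (S.C_le_NZ _)).1 h)) h1 h2 h3
    obtain ⟨κ', h5⟩ := Setup.exZ h4 (κ b)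
    obtain ⟨_, _, h6⟩ := S.exX h1 h2 0 κ'
    have h7 := h5.comp h6
    rw [mul_inv_cancel_left] at h7
    have h8 := (S.eq_iff ((hψ b).comp (R.h hl ..)) h7).1 rfl
    rw [mul_zero] at h8
    exact un (hψ _) (h8 ▸ h6)
  have lin : (∀ b, ψ b = ψ 1 * b) ∧ ∀ l : F, l ≠ 0 → ψ 1 * l ^ 2 = ψ 1 := by
    by_cases h : ∀ l : F, l ≠ 0 → l ^ 2 = 1
    · refine ⟨fun b => ?_, fun l hl => by rw [h l hl, mul_one]⟩
      by_cases hb : b = 0
      · simp [hb, z0]
      rcases sq_eq_one_iff.1 (h b hb) with rfl | rfl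
      · simp
      · have := add 1 (-1)
        rw [add_neg_cancel, z0] at this
        linear_combination -this
    push Not at h
    obtain ⟨l, hl, hl'⟩ := h
    have : ∀ b, ψ b = 0 := fun b => by
      have e := add b (b / (l ^ 2 - 1))
      rw [show b + b / (l ^ 2 - 1) = l ^ 2 * (b / (l ^ 2 - 1)) by have := sub_ne_zero.2 hl'; field_simp; ring,
        sq l hl] at e
      linear_combination -e
    simp [this]
  refine ⟨ψ 1, n, S, h1, h2, h3, lin.2, fun z => ?_⟩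
  obtain ⟨b, z', e⟩ := S.exX h1 h2 0 z
  exact ⟨b, e.cast rfl (by rw [mu, un e (hψ b), zero_add, ← lin.1])⟩

namespace Sw

variable {n : G} (S : Sw ι k n) [Finite G] (p : ℕ) [Fact p.Prime] [CharP F p]
include S

omit [Finite G] in
theorem ac_h {l : F} (h : l ≠ 0) : Ac ι k (ι (hh l h)) !![1, 0; 0, l] := fun b u z =>
  (R.h h ..).cast rfl (by
    simp only [mu, pe_inj]
    refine ⟨by simp, by simp, trivial, ?_⟩
    simp [← mul_assoc, S.hk l h])

omit [Finite G] in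
theorem ac_C {x : HS F} (h : x.c = 0) : Ac ι k (ι x) !![1, -x.v * x.a; 0, x.a] := by
  have hd := x.det
  have ha : x.a ≠ 0 := fun e => by simp [e, h] at hd
  have e : x = pe (x.b * x.a) (x.u - x.b * x.a * x.v) 0 (x.z - (x.u - x.b * x.a * x.v) * x.v) * pe 0 0 x.v 0 *
      hh x.a ha := by
    ext <;> simp [h] <;> grind
  have := ((Ac.of_M (pe_mem_M (x.b * x.a) (x.u - x.b * x.a * x.v) (x.z - (x.u - x.b * x.a * x.v) * x.v))).mul
    (Ac.y x.v)).mul (S.ac_h ha)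
  rw [← map_mul, ← map_mul, ← e] at this
  simpa using this

include p

theorem nn : n * n ∈ normalizer ((ZZ F).map ι : Set G) := by
  simpa using S.uniq p S.nM S.nt S.nZ (inv_mem S.nM) S.nt.symm fun h => S.nZ (inv_mem_iff.1 h)

theorem cell {g : G} (hg : g ∈ normalizer ((MM F).map ι : Set G)) (hg' : g ∉ normalizer ((ZZ F).map ι : Set G)) :
    ∃ v, n⁻¹ * (ι (pe 0 0 v 0) * g) ∈ normalizer ((ZZ F).map ι : Set G) := by
  obtain ⟨v, x, h1, h2⟩ := S.exists_D p hg hg'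
  have h3 : ι (pe 0 0 v 0) * g * ι x ∉ normalizer ((ZZ F).map ι : Set G) := fun h =>
    hg' ((mul_mem_cancel_left (S.C_le_NZ _)).1 ((mul_mem_cancel_right (S.C_le_NZ _)).1 h))
  have := S.uniq p h1 h2 h3 S.nM S.nt S.nZ
  rw [← mul_assoc] at this
  exact ⟨v, (mul_mem_cancel_right (S.C_le_NZ _)).1 this⟩

theorem cone {g : G} (hg : g ∈ normalizer ((MM F).map ι : Set G)) (hg' : g ∉ normalizer ((ZZ F).map ι : Set G)) :
    ∃ v, ∀ z, ∃ b, R ι g (pe 0 0 0 z) (mu k b (b * v) (b * v ^ 2)) := by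
  obtain ⟨v, h⟩ := S.cell p hg hg'
  refine ⟨v, fun z => ?_⟩
  obtain ⟨z', h1⟩ := Setup.exZ h z
  obtain ⟨b, h2⟩ := S.ex1 z'
  have h3 := (h1.comp h2).comp (R.my k (-v) ..)
  rw [mul_inv_cancel_left, ← mul_assoc, ← map_mul, pe_mul] at h3
  simp only [add_zero, mul_zero, zero_mul, sub_zero, neg_add_cancel, pe_zero, map_one, one_mul] at h3
  exact ⟨b, h3.mcast rfl (by ring) (by ring)⟩

theorem sj (b : F) : ∃ z, R ι n (pe 0 0 0 z) (mu k b 0 0) := by
  obtain ⟨z, _, _, h⟩ := S.surj p S.nM S.nZ b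
  obtain ⟨b', h'⟩ := S.ex1 z
  obtain rfl : b = b' := congrArg HS.b ((S.eq_iff h h').1 rfl)
  exact ⟨z, h'⟩

theorem ex3 (b : F) : ∃ z, R ι n (mu k b 0 0) (pe 0 0 0 z) := by
  obtain ⟨z, h⟩ := S.sj p b
  obtain ⟨z', h'⟩ := Setup.exZ (S.nn p) z
  exact ⟨z', by simpa using h.symm.comp h'⟩

theorem semi : ∃ (c w : F) (σ : F →+* F), c ≠ 0 ∧ w ≠ 0 ∧
    ∀ b u z, R ι n (mu k b u z) (mu k (c * σ z) (w * c * σ u) (w ^ 2 * c * σ b)) := by
  choose γ hγ using S.ex1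
  choose α hα using S.exY S.nM S.nt
  choose δ hδ using S.ex3 p
  have act : ∀ b u z, R ι n (mu k b u z) (mu k (γ z) (α u) (δ b)) := fun b u z => by
    have := ((hδ b).mul ((hα u).cast (mu_u k _).symm (mu_u k _).symm)).mul ((hγ z).cast (mu_z k _).symm rfl)
    rw [← mu_z k] at this
    simpa [mu_mul] using this
  have add : ∀ a b, γ (a + b) = γ a + γ b := fun a b =>
    (mu_inj.1 ((S.eq_iff (act 0 0 (a + b)) (((act 0 0 a).mul (act 0 0 b)).cast (by simp [mu_mul]) (mu_mul ..))).1 rfl)).1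
  have g0 : ∀ {z : F}, z ≠ 0 → γ z ≠ 0 := fun hz => S.b_ne p S.nZ hz (hγ _)
  have key : ∀ v : F, v ≠ 0 → ∃ w, ∀ b, α (b * v) = γ (b * v ^ 2) * w ∧ δ b = γ (b * v ^ 2) * w ^ 2 := fun v hv => by
    obtain ⟨w, hw⟩ := S.cone p (mul_mem S.nM (mul_mem (y_NM 0 0 (-v) 0) S.nM)) fun h => by
      obtain ⟨z', h1⟩ := Setup.exZ h 1
      have := (S.eq_iff (((hγ 1).comp (R.my k (-v) ..)).comp (act ..)) h1).1 rfl
      rw [← mu_z k, mu_inj] at this
      exact g0 (by simpa using mul_ne_zero (g0 one_ne_zero) (pow_ne_zero 2 hv)) this.1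
    refine ⟨w, fun b => ?_⟩
    obtain ⟨z, h1⟩ := S.sj p b
    obtain ⟨b', h2⟩ := hw z
    have := mu_inj.1 ((S.eq_iff ((h1.comp (R.my k (-v) ..)).comp (act ..)) h2).1 rfl)
    simp only [zero_sub, mul_neg, neg_neg, zero_add, mul_zero, zero_mul, neg_zero, sub_zero, even_two,
      Even.neg_pow] at this
    rw [this.1]; exact this.2
  obtain ⟨w, hw⟩ := key 1 one_ne_zero
  simp only [one_pow, mul_one] at hw
  have w0 : w ≠ 0 := fun e => one_ne_zero (congrArg HS.b ((S.eq_iff (hδ 1) (R.one n)).2 (by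
    rw [(hw 1).2, e]; simp [pe_zero])))
  have c0 := g0 one_ne_zero
  have z0 : γ 0 = 0 := by simpa using add 0 0
  have mul : ∀ a v, γ (a * v) * γ 1 = γ a * γ v := fun a v => by
    by_cases hv : v = 0
    · simp [hv, z0]
    obtain ⟨w', hw'⟩ := key v hv
    have e : ∀ a, γ a * w = γ (a * v) * w' := fun a => by
      have := (hw' (a / v)).1
      rwa [div_mul_cancel₀ _ hv, (hw a).1, show a / v * v ^ 2 = a * v by field_simp] at this
    have e1 := e 1
    rw [one_mul] at e1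
    have w1 : w' ≠ 0 := fun h => mul_ne_zero c0 w0 (by rw [e1, h, mul_zero])
    exact mul_right_cancel₀ (mul_ne_zero w0 w1) (by linear_combination γ 1 * w * (e a).symm - γ a * w * e1.symm)
  refine ⟨γ 1, w,
    { toFun := fun a => γ a / γ 1
      map_one' := div_self c0
      map_mul' := fun a b => by field_simp; exact mul a b
      map_zero' := by simp [z0]
      map_add' := fun a b => by rw [add, add_div] }, c0, w0, fun b u z => (act b u z).mcast ?_ ?_ ?_⟩ <;>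
    simp only [RingHom.coe_mk, MonoidHom.coe_mk, OneHom.coe_mk, (hw _).1, (hw _).2] <;> field_simp

end Sw

end Cfsg.Agent.H5.HS
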