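import Cfsg.Agent.H5.HS7

/-!
# The case in which `N(M)` is not `p`-closed: conclusion
-/

set_option autoImplicit false

namespace Cfsg.Agent.H5.HS

open Subgroup Cfsg.Agent.H8 Matrix

variable {F : Type*} [Field F] {G : Type*} [Group G] {ι : HS F →* G} {k : F}

theorem Ac.inv {g : G} {m m' : Matrix (Fin 2) (Fin 2) F} (h : Ac ι k g m) (e : m * m' = 1) : Ac ι k g⁻¹ m' :=
  fun b u z => by
  refine (h _ _ _).symm.cast ?_ rfl
  trans mu k ((m * m') 1 0 ^ 2 * z + 2 * (m * m') 1 0 * (m * m') 1 1 * u + (m * m') 1 1 ^ 2 * b)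
    ((m * m') 0 0 * (m * m') 1 0 * z + ((m * m') 0 0 * (m * m') 1 1 + (m * m') 0 1 * (m * m') 1 0) * u +
      (m * m') 0 1 * (m * m') 1 1 * b)
    ((m * m') 0 0 ^ 2 * z + 2 * (m * m') 0 0 * (m * m') 0 1 * u + (m * m') 0 1 ^ 2 * b)
  · rw [mu_inj]; simp only [mul_apply, Fin.sum_univ_two]; refine ⟨?_, ?_, ?_⟩ <;> ring
  · rw [e]; simp

theorem Ac.cast {g : G} {m m' : Matrix (Fin 2) (Fin 2) F} (h : Ac ι k g m) (e : m = m') : Ac ι k g m' := e ▸ h

theorem exists_chi [Fintype F] (h2 : (2 : F) ≠ 0) (ns : ∀ x : F, x * x ≠ -1) :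
    ∃ χ : Fˣ →* Multiplicative (ZMod ((Fintype.card F - 1) / 2)), (∀ x, χ x = 1 ↔ x ^ 2 = 1) ∧
      ∀ y (d : Fˣ), ∃ l : Fˣ, χ (d * l ^ 2) = y := by
  classical
  have hc : Nat.card (powMonoidHom 2 : Fˣ →* Fˣ).range = (Fintype.card F - 1) / 2 := by
    rw [IsCyclic.card_powMonoidHom_range, Nat.card_eq_fintype_card, Fintype.card_units]
    congr 1
    refine Nat.gcd_eq_right ?_
    have := orderOf_dvd_card (x := (-1 : Fˣ))
    rwa [orderOf_eq_prime (p := 2) (by simp) (fun e => h2 (by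
      have := congrArg Units.val e
      simp only [Units.val_neg, Units.val_one] at this
      linear_combination -this)), Fintype.card_units] at this
  rw [← hc]
  let e := zmodCyclicMulEquiv (inferInstance : IsCyclic (powMonoidHom 2 : Fˣ →* Fˣ).range)
  refine ⟨e.symm.toMonoidHom.comp (powMonoidHom 2 : Fˣ →* Fˣ).rangeRestrict, fun x => ?_, fun y d => ?_⟩
  · simp [Subtype.ext_iff]
  · obtain ⟨⟨_, x, rfl⟩, rfl⟩ := e.symm.surjective y
    have key : ∀ v : F, v ^ 2 * v ^ 2 = (x / d : F) ^ 2 → ∃ l : Fˣ, (d * l ^ 2) ^ 2 = x ^ 2 := fun v hv => by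
      have v0 : v ≠ 0 := fun e => by
        rw [e, eq_comm] at hv; simp at hv
      refine ⟨Units.mk0 v v0, Units.ext ?_⟩
      simp only [Units.val_pow_eq_pow_val, Units.val_mul, Units.val_mk0]
      rw [mul_pow, sq (v ^ 2), hv]; field_simp
    obtain ⟨l, hl⟩ : ∃ l : Fˣ, (d * l ^ 2) ^ 2 = x ^ 2 := by
      rcases sq_or h2 ns (x / d : F) with ⟨v, hv⟩ | ⟨v, hv⟩ <;> exact key v (by rw [← hv]; ring)
    exact ⟨l, congrArg e.symm (Subtype.ext hl)⟩

namespace Sw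

variable {n : G} (S : Sw ι k n) [Finite G] (p : ℕ) [Fact p.Prime] [CharP F p]
include S p

theorem ex_sq {l : F} (hl : l ≠ 0) : ∃ g, ∀ z, R ι g (pe 0 0 0 z) (pe 0 0 0 (l ^ 2 * z)) := by
  have := S.finite
  obtain ⟨c, w, σ, c0, w0, h⟩ := S.semi p
  have sj := Finite.surjective_of_injective σ.injective
  obtain ⟨l, rfl⟩ := sj l
  have l0 : l ≠ 0 := fun e => hl (by simp [e])
  refine ⟨n * (ι (hh l l0) * n⁻¹), fun z => ?_⟩
  obtain ⟨b, hb⟩ := sj (z / (w ^ 2 * c))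
  refine (((h b 0 0).symm.comp (S.ac_h l0 ..)).comp (h ..)).cast ?_ ?_ <;> rw [← mu_z k, mu_inj] <;>
    simp [hb] <;> field_simp

theorem is_sq {g : G} {c : F} (h : R ι g (pe 0 0 0 1) (pe 0 0 0 c)) : ∃ s, s ≠ 0 ∧ c = s ^ 2 := by
  have := S.finite
  have c0 := S.ne_zero one_ne_zero h
  rcases sq_or S.two S.ns c with ⟨v, hv⟩ | ⟨v, hv⟩
  · exact ⟨v, fun e => c0 (by simp [hv, e]), hv⟩
  have v0 : v ≠ 0 := fun e => c0 (by simpa [e] using hv)
  obtain ⟨z, z0, hz⟩ := S.nf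
  rcases sq_or S.two S.ns z with ⟨u, hu⟩ | ⟨u, hu⟩
  · obtain ⟨g', h'⟩ := S.ex_sq p (l := u) fun e => z0 (by simp [hu, e])
    exact (hz _ ((h' 1).cast rfl (by rw [hu, mul_one]))).elim
  · obtain ⟨g', h'⟩ := S.ex_sq p (l := u / v) (div_ne_zero (fun e => z0 (by simpa [e] using hu)) v0)
    exact (hz _ ((h.comp (h' c)).cast rfl (by
      rw [div_pow, ← hu, ← hv]; congr 1; field_simp))).elim

theorem lin_Z {g : G} (hg : g ∈ normalizer ((ZZ F).map ι : Set G)) :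
    ∃ s, s ≠ 0 ∧ ∀ z, R ι g (pe 0 0 0 z) (pe 0 0 0 (s ^ 2 * z)) := by
  obtain ⟨c, h⟩ := Setup.exZ hg 1
  obtain ⟨s, s0, rfl⟩ := S.is_sq p h
  obtain ⟨g', h'⟩ := S.ex_sq p s0
  obtain ⟨x, hx⟩ := S.mem_C one_ne_zero (h.comp ((h' 1).symm.cast (by rw [mul_one]) rfl))
  refine ⟨s, s0, fun z => ?_⟩
  have := (R.of_comm (g := ι x) (p := pe 0 0 0 z) (by rw [← map_mul, ← map_mul, pe_comm])).comp (h' z)
  rwa [hx, mul_inv_cancel_left] at this

theorem ac_n : ∃ s w : F, s ≠ 0 ∧ w ≠ 0 ∧ Ac ι k n !![0, s * w; s, 0] := by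
  have := S.finite
  obtain ⟨c, w, σ, c0, w0, h⟩ := S.semi p
  obtain ⟨s, s0, h1⟩ := S.lin_Z p (S.nn p)
  have e : ∀ z, w ^ 2 * c * (σ c * σ (σ z)) = s ^ 2 * z := fun z => by
    have := (S.eq_iff ((h 0 0 z).comp (h ..)) (h1 z)).1 (mu_z ..)
    rw [← mu_z k, mu_inj] at this
    rw [← map_mul]; exact this.2.2
  have e1 := e 1
  have σσ : ∀ z, σ (σ z) = z := fun z => mul_left_cancel₀ (pow_ne_zero 2 s0) (by
    simp only [map_one] at e1
    linear_combination e z - σ (σ z) * e1)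
  have σ1 : ∀ z, σ z = z := fun z => by_contra fun hz => by
    have d0 : z - σ z ≠ 0 := sub_ne_zero.2 (Ne.symm hz)
    have key : ∀ d v : F, d ≠ 0 → σ d = -d → d = v ^ 2 → False := fun d v d0 h1 h2 => by
      have v0 : v ≠ 0 := fun e => d0 (by simp [h2, e])
      refine S.ns (σ v / v) ?_
      rw [h2, map_pow] at h1
      field_simp; exact h1
    rcases sq_or S.two S.ns (z - σ z) with ⟨v, hv⟩ | ⟨v, hv⟩
    · exact key _ v d0 (by rw [map_sub, σσ]; ring) hv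
    · exact key _ v (neg_ne_zero.2 d0) (by rw [map_neg, map_sub, σσ]; ring) hv
  simp only [σ1] at h
  obtain ⟨r, r0, hr⟩ := S.is_sq p (c := w ^ 2 * c * c ^ 2) ((((((h 0 0 1).comp (R.my k 1 ..)).comp (h ..)).comp
    (R.my k (-w) ..)).comp (h ..)).cast (mu_z ..) (by rw [← mu_z k, mu_inj]; refine ⟨?_, ?_, ?_⟩ <;> ring))
  have hc : c = (r / (w * c)) ^ 2 := by field_simp; linear_combination hr
  refine ⟨r / (w * c), w, div_ne_zero r0 (mul_ne_zero w0 c0), w0, fun b u z => ?_⟩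
  generalize r / (w * c) = t at hc
  subst hc
  refine (h b u z).mcast ?_ ?_ ?_ <;>
    simp only [of_apply, cons_val', cons_val_zero, cons_val_one, cons_val_fin_one] <;> ring

theorem ac_d {l : F} (hl : l ≠ 0) : Ac ι k (n * ι (hh l hl) * n⁻¹) !![l, 0; 0, 1] := by
  obtain ⟨s, w, s0, w0, h⟩ := S.ac_n p
  refine ((h.mul (S.ac_h hl)).mul (h.inv (m' := !![0, s⁻¹; (s * w)⁻¹, 0]) ?_)).cast ?_ <;>
    simp [← Matrix.ext_iff, Fin.forall_fin_two] <;> field_simp <;> simp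

theorem ex_ac_Z {g : G} (hg : g ∈ normalizer ((MM F).map ι : Set G)) (hg' : g ∈ normalizer ((ZZ F).map ι : Set G)) :
    ∃ m : GL (Fin 2) F, Ac ι k g m := by
  obtain ⟨s, s0, h⟩ := S.lin_Z p hg'
  have h1 := S.ac_d p s0
  obtain ⟨x, hx⟩ := S.mem_C one_ne_zero ((h 1).comp ((h1 0 0 1).symm.cast (by simp [mu]) (mu_z ..)))
  have c := S.c_zero (hx ▸ mul_mem (inv_mem h1.mem) hg)
  have h2 := h1.mul (S.ac_C c)
  rw [hx, mul_inv_cancel_left] at h2
  have ha : x.a ≠ 0 := fun e => by have := x.det; simp [e, c] at this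
  exact ⟨GeneralLinearGroup.mkOfDetNeZero _ (by simp [s0, ha]), h2⟩

theorem ex_ac {g : G} (hg : g ∈ normalizer ((MM F).map ι : Set G)) : ∃ m : GL (Fin 2) F, Ac ι k g m := by
  by_cases hg' : g ∈ normalizer ((ZZ F).map ι : Set G)
  · exact S.ex_ac_Z p hg hg'
  obtain ⟨v, h⟩ := S.cell p hg hg'
  obtain ⟨m, hm⟩ := S.ex_ac_Z p (mul_mem (inv_mem S.nM) (mul_mem (y_NM _ _ _ _) hg)) h
  obtain ⟨s, w, s0, w0, h1⟩ := S.ac_n p
  have h2 := ((Ac.y v).inv (m' := !![1, v; 0, 1]) (by simp [one_fin_two])).mul (h1.mul hm)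
  rw [mul_inv_cancel_left, inv_mul_cancel_left] at h2
  exact ⟨GeneralLinearGroup.mkOfDetNeZero _ (by rw [det_mul, det_mul]; simp [s0, w0, m.det_ne_zero]), h2⟩

theorem ac_upper {a b d : F} (ha : a ≠ 0) (hd : d ≠ 0) : ∃ g, Ac ι k g !![a, b; 0, d] :=
  ⟨_, (((S.ac_d p ha).mul (Ac.y (-(b / (a * d))))).mul (S.ac_h hd)).cast (by
    simp [← Matrix.ext_iff, Fin.forall_fin_two]; field_simp)⟩

theorem ac_ex (m : GL (Fin 2) F) : ∃ g, Ac ι k g m := by
  have hd := m.det_ne_zero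
  rw [eta_fin_two m.1] at hd ⊢
  generalize m.1 0 0 = a at *
  generalize m.1 0 1 = b at *
  generalize m.1 1 0 = c at *
  generalize m.1 1 1 = d at *
  rw [det_fin_two_of] at hd
  by_cases hc : c = 0
  · subst hc
    exact S.ac_upper p (fun e => hd (by simp [e])) fun e => hd (by simp [e])
  obtain ⟨s, w, s0, w0, h⟩ := S.ac_n p
  obtain ⟨g, hg⟩ := S.ac_upper p (b := d / s) (div_ne_zero hc s0)
    (div_ne_zero (neg_ne_zero.2 hd) (mul_ne_zero hc (mul_ne_zero s0 w0)))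
  exact ⟨_, (((Ac.y (-(a / c))).mul h).mul hg).cast (by
    simp [← Matrix.ext_iff, Fin.forall_fin_two]; field_simp; simp)⟩

theorem exists_hom [Fintype F] : ∃ Φ : normalizer ((MM F).map ι : Set G) →*
    ProjGenLinGroup (Fin 2) F × Multiplicative (ZMod ((Fintype.card F - 1) / 2)),
    Function.Surjective Φ ∧ ∀ g, Φ g = 1 ↔ (g : G) ∈ (MM F).map ι := by
  obtain ⟨χ, h1, h2⟩ := exists_chi S.two S.ns
  let Ψ := (ProjGenLinGroup.mk : GL (Fin 2) F →* _).prod (χ.comp GeneralLinearGroup.det)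
  have neg : ∀ m : GL (Fin 2) F, Ψ (-m) = Ψ m := fun m => by
    have e : -m = m * .scalar _ (-1) := by ext i j; simp
    rw [e, map_mul, mul_eq_left]
    exact Prod.ext (ProjGenLinGroup.mk_scalar _) ((h1 _).2 (by simp))
  have wd : ∀ {g : G} {m m' : GL (Fin 2) F}, Ac ι k g m → Ac ι k g m' → Ψ m' = Ψ m := fun {g m m'} h h' => by
    rcases S.ac_eq h h' m.det_ne_zero with e | e
    · rw [Units.ext e]
    · rw [show m' = -m from Units.ext e, neg]
  choose f hf using fun g : normalizer ((MM F).map ι : Set G) => S.ex_ac p g.2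
  refine ⟨MonoidHom.mk' (fun g => Ψ (f g)) fun a b => ?_, ?_, fun g => ⟨fun h => ?_, fun h => ?_⟩⟩
  · rw [← map_mul]; exact wd ((hf a).mul (hf b)) (hf (a * b))
  · rintro ⟨x, y⟩
    obtain ⟨m, rfl⟩ := ProjGenLinGroup.mk_surjective x
    obtain ⟨l, rfl⟩ := h2 y m.det
    obtain ⟨g, hg⟩ := S.ac_ex p (m * .scalar _ l)
    refine ⟨⟨g, hg.mem⟩, (wd hg (hf ⟨g, hg.mem⟩)).trans (Prod.ext ?_ ?_)⟩ <;> simp [Ψ]
  · have e1 : ProjGenLinGroup.mk (f g) = 1 := congrArg Prod.fst h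
    have e2 : χ (f g).det = 1 := congrArg Prod.snd h
    rw [ProjGenLinGroup.mk_eq_one, GeneralLinearGroup.center_eq_range_scalar] at e1
    obtain ⟨l, hl⟩ := e1
    have e3 := congrArg Units.val ((h1 _).1 e2)
    have h3 := hf g
    rw [← hl] at e3 h3
    simp only [GeneralLinearGroup.det_scalar, Fintype.card_fin, Units.val_pow_eq_pow_val, Units.val_one] at e3
    rcases sq_eq_one_iff.1 ((sq_eq_one_iff.1 e3).resolve_right fun e => S.ns l (by rw [← sq, e])) with e | e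
    · exact S.mem_M_of_ac (h3.cast (by simp [e]))
    · exact S.mem_M_of_ac (h3.neg.cast (by simp [e]))
  · exact (wd (m := 1) (Ac.of_M h) (hf g)).trans (map_one Ψ)

theorem main [Fintype F] : ∃ J : Subgroup G, J ≤ normalizer ((MM F).map ι : Set G) ∧
    (MM F).map ι ⊔ J = normalizer ((MM F).map ι : Set G) ∧ (MM F).map ι ⊓ J = ⊥ ∧
    Nonempty (J ≃* (ProjGenLinGroup (Fin 2) F × Multiplicative (ZMod ((Fintype.card F - 1) / 2)))) := by
  have h0 := S.exists_hom p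
  set N := normalizer ((MM F).map ι : Set G)
  obtain ⟨Φ, h1, h2⟩ := h0
  have hP : (PP F).map ι ≤ N := fun _ h => S.NP_le_NM (le_normalizer h)
  let V : Subgroup (HS F) :=
    { carrier := {x | ∃ v, pe 0 0 v 0 = x}
      mul_mem' := by rintro _ _ ⟨v, rfl⟩ ⟨v', rfl⟩; exact ⟨v + v', by simp [pe_mul]⟩
      one_mem' := ⟨0, rfl⟩
      inv_mem' := by rintro _ ⟨v, rfl⟩; exact ⟨-v, by simp [pe_inv]⟩ }
  have a1 : ∀ x ∈ (V.map ι).subgroupOf N, x ∈ ((MM F).map ι).subgroupOf N → x = 1 := fun x hx hx' => by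
    obtain ⟨_, ⟨v, rfl⟩, e⟩ := hx
    obtain ⟨_, _, _, e'⟩ := mem_M.1 hx'
    have := congrArg HS.v (S.inj (e.trans e'.symm))
    exact Subtype.ext (e.symm.trans (by rw [show v = 0 from this, pe_zero, map_one]; rfl))
  have a2 : ∀ x ∈ ((PP F).map ι).subgroupOf N, ∃ y : ((MM F).map ι).subgroupOf N,
      (y : N)⁻¹ * x ∈ (V.map ι).subgroupOf N := fun x hx => by
    obtain ⟨b, u, v, z, e⟩ := mem_P.1 hx
    refine ⟨⟨⟨_, le_normalizer (pe_mem_M b (u - b * v) (z - (u - b * v) * v))⟩, pe_mem_M ..⟩, _, ⟨v, rfl⟩, ?_⟩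
    have e' : (x : G) = ι (pe b u v z) := e.symm
    simp only [coe_subtype, coe_mul, coe_inv, e']
    rw [← map_inv, ← map_mul, pe_inv, pe_mul]; congr 2 <;> ring
  obtain ⟨H, e1, e2⟩ := split_of_coprime_index (K := ((MM F).map ι).subgroupOf N) (U := ((PP F).map ι).subgroupOf N)
    (A := (V.map ι).subgroupOf N) (fun a ha b hb => Subtype.ext (M_comm ha hb)) (comap_mono M_le_P)
    (coprime_of_pgroup (pgroup_subgroupOf ((pgroup_P p).to_le M_le_P) N)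
      ((S.sylowP p).of_le hP le_top).not_dvd_relIndex) a1 a2
  refine ⟨H.map N.subtype, map_subtype_le _, ?_, ?_, ⟨(H.equivMapOfInjective _ N.subtype_injective).symm.trans
    (MulEquiv.ofBijective (Φ.comp H.subtype) ⟨(injective_iff_map_eq_one _).2 fun a ha => ?_, fun y => ?_⟩)⟩⟩
  · rw [← map_subgroupOf_eq_of_le (le_normalizer : (MM F).map ι ≤ N), ← Subgroup.map_sup, e1,
      ← MonoidHom.range_eq_map, range_subtype]
  · rw [← map_subgroupOf_eq_of_le (le_normalizer : (MM F).map ι ≤ N), ← map_inf _ _ _ N.subtype_injective, e2,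
      Subgroup.map_bot]
  · exact Subtype.ext (mem_bot.1 (e2.le ⟨(h2 _).1 ha, a.2⟩))
  · obtain ⟨g, rfl⟩ := h1 y
    obtain ⟨a, ha, b, hb, rfl⟩ := mem_sup_of_normal_left.1 (e1.ge (mem_top g))
    exact ⟨⟨b, hb⟩, by rw [map_mul, (h2 a).2 ha, one_mul]; rfl⟩

end Sw

end Cfsg.Agent.H5.HS
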