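import Cfsg.Agent.H8.Rank
import Cfsg.Agent.H8.PxQ
import Cfsg.Agent.H5.RankOne

/-!
# Klinger–Mason method, part 1: the quaternion module lemma, the rank step
-/

set_option autoImplicit false

namespace Cfsg.Agent.H5

open Subgroup Cfsg.Agent.H8
open scoped commutatorElement

/-- A quaternion group acting on an elementary abelian 2-group and centralizing a subgroup of index
at most two of the fixed points of its centre: the centre acts trivially. -/
theorem q8_module {M : Type*} [AddCommGroup M] (h2 : ∀ v : M, v + v = 0) (X Y Z : M →+ M)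
    (hX : ∀ v, X (X v) = Z v) (hY : ∀ v, Y (Y v) = Z v) (hW : ∀ v, X (Y (X (Y v))) = Z v)
    (hZ : ∀ v, Z (Z v) = v)
    (h : ∀ c c', Z c = c → Z c' = c' → (X c = c ∧ Y c = c) ∨ (X c' = c' ∧ Y c' = c') ∨
      (X (c + c') = c + c' ∧ Y (c + c') = c + c')) (v : M) : Z v = v := by
  have hneg : ∀ a b : M, a + b = 0 ↔ a = b := fun a b =>
    ⟨fun hab => by linear_combination (norm := abel1) hab - h2 b, fun hab => by rw [hab, h2]⟩
  let U : M → Prop := fun u => X u = u ∧ Y u = u
  have Uadd : ∀ a b, U a → U b → U (a + b) := fun a b ha hb =>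
    ⟨by rw [map_add, ha.1, hb.1], by rw [map_add, ha.2, hb.2]⟩
  -- general facts for a map `W` with `W² = Z` fixing `U`
  have key : ∀ W : M →+ M, (∀ v, W (W v) = Z v) → (∀ u, U u → W u = u) →
      (∀ c, Z c = c → U (W c + c)) ∧
      (∀ c, Z c = c → ¬ U c → W c = c → ∀ v, Z v = v) ∧
      (∀ c c', Z c = c → ¬ U c → Z c' = c' → W c' + c' = 0 ∨ W c' + c' = W c + c) := by
    intro W hW hU
    have hWZ : ∀ v, W (Z v) = Z (W v) := fun v => by rw [← hW, hW]
    have h3 : ∀ c c', Z c = c → ¬ U c → Z c' = c' → W c' + c' = 0 ∨ W c' + c' = W c + c := by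
      intro c c' hc hcU hc'
      rcases h c c' hc hc' with h1 | h1 | h1
      · exact absurd h1 hcU
      · left; rw [hU c' h1, h2]
      · right
        have := hU _ h1
        rw [map_add] at this
        linear_combination (norm := abel1) this - h2 (W c) + h2 c'
    refine ⟨fun c hc => ?_, fun c hc hcU hWc v => ?_, h3⟩
    · have hc' : Z (W c) = W c := by rw [← hWZ, hc]
      rcases h (W c) c hc' hc with h1 | h1 | h1
      · have e : W c = c := by rw [← hU _ h1, hW, hc]
        rw [e, h2]; exact ⟨map_zero _, map_zero _⟩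
      · rw [hU _ h1, h2]; exact ⟨map_zero _, map_zero _⟩
      · exact h1
    · have hall : ∀ c', Z c' = c' → W c' = c' := fun c' hc' => by
        rcases h3 c c' hc hcU hc' with h1 | h1
        · exact (hneg _ _).mp h1
        · rw [hWc, h2] at h1; exact (hneg _ _).mp h1
      have e1 : W (Z v + v) = Z v + v := hall _ (by rw [map_add, hZ, add_comm])
      have e2 : Z (W v + v) = W v + v := by
        rw [map_add, hWZ] at e1
        rw [map_add]
        linear_combination (norm := abel1) e1 - h2 (W v) + h2 (Z v)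
      have e3 := hall _ e2
      rw [map_add, hW] at e3
      linear_combination (norm := abel1) e3
  let W : M →+ M := X.comp Y
  have hWa : ∀ v, W v = X (Y v) := fun v => rfl
  obtain ⟨kX1, kX2, kX3⟩ := key X hX fun u hu => hu.1
  obtain ⟨kY1, kY2, kY3⟩ := key Y hY fun u hu => hu.2
  obtain ⟨kW1, kW2, kW3⟩ := key W hW fun u hu => by rw [hWa, hu.2, hu.1]
  have hXZ : ∀ v, X (Z v) = Z (X v) := fun v => by rw [← hX, hX]
  have hYZ : ∀ v, Y (Z v) = Z (Y v) := fun v => by rw [← hY, hY]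
  have hWZ : ∀ v, W (Z v) = Z (W v) := fun v => by rw [hWa, hWa, hYZ, hXZ]
  by_contra hv
  by_cases hA : ∀ v, U (Z v + v)
  · -- case A
    have gen : ∀ T : M →+ M, (∀ v, T (T v) = Z v) → (∀ u, U u → T u = u) →
        Z (T v + v) = T v + v ∧ ¬ U (T v + v) := by
      intro T hT hU
      have hTZ : ∀ v, T (Z v) = Z (T v) := fun v => by rw [← hT, hT]
      constructor
      · have e1 := hU _ (hA v)
        rw [map_add, hTZ] at e1
        rw [map_add]
        linear_combination (norm := abel1) e1 - h2 (T v) + h2 (Z v)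
      · intro hh
        have e3 := hU _ hh
        rw [map_add, hT] at e3
        exact hv (by linear_combination (norm := abel1) e3)
    obtain ⟨a1, a2⟩ := gen X hX fun u hu => hu.1
    obtain ⟨b1, b2⟩ := gen Y hY fun u hu => hu.2
    obtain ⟨-, c2⟩ := gen W hW fun u hu => by rw [hWa, hu.2, hu.1]
    apply c2
    have e1 : U (X v + v + (Y v + v)) := by
      rcases h _ _ a1 b1 with h1 | h1 | h1
      · exact absurd h1 a2
      · exact absurd h1 b2
      · exact h1
    have e2 := kX1 _ b1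
    have e3 := Uadd _ _ e1 e2
    have e4 : X v + v + (Y v + v) + (X (Y v + v) + (Y v + v)) = W v + v := by
      rw [map_add, hWa]
      linear_combination (norm := abel1) h2 (X v) + h2 (Y v) + h2 v
    rwa [e4] at e3
  · push Not at hA
    obtain ⟨u, hu⟩ := hA
    have hc : Z (Z u + u) = Z u + u := by rw [map_add, hZ, add_comm]
    set c := Z u + u with hcdef
    have hXc : X c ≠ c := fun e => hv (kX2 c hc hu e v)
    have hWc : W c ≠ c := fun e => hv (kW2 c hc hu e v)
    -- `v' = X u + u`, `ζ v' = X c + c`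
    have e1 : Z (X u + u) + (X u + u) = X c + c := by
      rw [hcdef, map_add, map_add, hXZ]; abel
    have e2 : U (X c + c) := kX1 c hc
    have e3 : Z (Y (X u + u) + (X u + u)) = Y (X u + u) + (X u + u) := by
      have := e2.2
      rw [← e1, map_add, hYZ] at this
      rw [map_add]
      linear_combination (norm := abel1) this - h2 (Y (X u + u)) + h2 (Z (X u + u))
    have e4 : Y (Y (X u + u) + (X u + u)) + (Y (X u + u) + (X u + u)) = X c + c := by
      rw [← e1, map_add, hY]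
      linear_combination (norm := abel1) h2 (Y (X u + u))
    rcases kY3 c _ hc hu e3 with h1 | h1
    · rw [e4] at h1; exact hXc ((hneg _ _).mp h1)
    · rw [e4] at h1
      apply hWc
      have e5 : X c = Y c := add_right_cancel h1
      rw [hWa, ← e5, hX, hc]

variable {G : Type*} [Group G]

/-- Local characteristic `q`, in ambient form. -/
def LC (q : ℕ) (G : Type*) [Group G] : Prop :=
  ∀ T : Subgroup G, IsPGroup q T → T ≠ ⊥ → ∃ R : Subgroup G, IsPGroup q R ∧
    R ≤ normalizer (T : Set G) ∧ normalizer (T : Set G) ≤ normalizer (R : Set G) ∧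
    ∀ g ∈ normalizer (T : Set G), g ∈ centralizer (R : Set G) → g ∈ R

theorem lc_of [Finite G] {q : ℕ} [Fact q.Prime]
    (h : ∀ T : Subgroup G, IsPGroup q T → T ≠ ⊥ →
      centralizer (pCore q ↥(normalizer (T : Set G)) : Set ↥(normalizer (T : Set G))) ≤
        pCore q ↥(normalizer (T : Set G))) : LC q G := by
  intro T hT hT1
  refine ⟨(pCore q ↥(normalizer (T : Set G))).map (normalizer (T : Set G)).subtype,
    L0.map_pCore_isPGroup _, map_subtype_le _, L0.le_normalizer_map_pCore _, fun g hg hc => ?_⟩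
  exact ⟨⟨g, hg⟩, h T hT hT1 fun x hx => Subtype.ext (hc x ⟨x, hx, rfl⟩), rfl⟩

theorem eq_one_of_mem_pgroup {p q : ℕ} (hpq : p.Coprime q) {R : Subgroup G} (hR : IsPGroup q R)
    {g : G} (hg : g ∈ R) (hp : g ^ p = 1) : g = 1 := by
  obtain ⟨k, hk⟩ := hR ⟨g, hg⟩
  have hk' : g ^ q ^ k = 1 := by simpa using congrArg Subtype.val hk
  have h1 := orderOf_dvd_of_pow_eq_one hp
  have h2 := orderOf_dvd_of_pow_eq_one hk'
  exact orderOf_eq_one_iff.mp (Nat.eq_one_of_dvd_coprimes (hpq.pow_right k) h1 h2)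

theorem pow_succ_le_card_sup [Finite G] {q : ℕ} [hq : Fact q.Prime] {B : Subgroup G} {w : G}
    (h : IsPGroup q (B ⊔ zpowers w : Subgroup G)) (hw : w ∉ B) {k : ℕ}
    (hk : q ^ k ≤ Nat.card B) : q ^ (k + 1) ≤ Nat.card (B ⊔ zpowers w : Subgroup G) :=
  pow_succ_le_card_of_lt h (lt_of_le_of_lt hk (H8.card_lt_of_lt (lt_of_le_of_ne le_sup_left
    fun e => hw (e ▸ mem_sup_right (mem_zpowers w)))))

theorem comm_pow_of_comm_sq {a u : G} {p : ℕ} (hp : Odd p) (ha : a ^ p = 1)
    (h : a ^ 2 * u = u * a ^ 2) : a * u = u * a := by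
  obtain ⟨m, rfl⟩ := hp
  have h1 : Commute (a ^ 2) u := h
  have h2 : a = ((a ^ 2) ^ m)⁻¹ := by
    rw [eq_inv_iff_mul_eq_one, ← pow_mul, ← pow_succ']; exact ha
  rw [h2]
  exact ((h1.pow_left m).inv_left).eq

section step

variable [Finite G] {p : ℕ} [hp : Fact p.Prime]

theorem km_step (hp2 : p ≠ 2) (hL : LC p G) {B V : Subgroup G} (hB : IsElementaryAbelian p B)
    (hB1 : B ≠ ⊥) (hV : IsElementaryAbelian 2 V) (hVB : V ≤ centralizer (B : Set G)) {v : G}
    (hv : v ∈ V) (hv1 : v ≠ 1) {k : ℕ} (hk : p ^ k ≤ Nat.card B) :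
    ∃ (H B' : Subgroup G) (w : G), H ≤ V ∧ H.relIndex V = 2 ∧ v ∉ H ∧ w ≠ 1 ∧ w ^ p = 1 ∧
      v * w * v⁻¹ = w⁻¹ ∧ w ∈ centralizer (H : Set G) ∧ IsElementaryAbelian p B' ∧
      p ^ (k + 1) ≤ Nat.card B' ∧ H ≤ centralizer (B' : Set G) := by
  haveI : Fact (Nat.Prime 2) := ⟨Nat.prime_two⟩
  have hcop : Nat.Coprime 2 p := (Nat.coprime_primes Nat.prime_two hp.out).mpr (Ne.symm hp2)
  obtain ⟨R, hR, hRN, hNR, hRC⟩ := hL B (elemAb_pgroup hB) hB1
  have hVN : V ≤ normalizer (B : Set G) := hVB.trans (centralizer_le_normalizer _)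
  have hVR : V ≤ normalizer (R : Set G) := hVN.trans hNR
  have hcR : CopAct V R := copAct_of_elemAb hV (not_dvd_card_of_pgroup hp2 hR) hVR
  have hc0 : CopAct V (R ⊓ centralizer (B : Set G)) :=
    hcR.inf_right (le_normalizer_centralizer hVN)
  have hv2 : v ^ 2 = 1 := elemAb_pow hV hv
  have hvv : v * v = 1 := by rw [← pow_two, hv2]
  have hvi : v⁻¹ = v := inv_eq_of_mul_eq_one_right hvv
  have hne : ¬ (R ⊓ centralizer (B : Set G)) ≤ centralizer {v} := by
    intro hle
    have h1 : CopAct (zpowers v) R := hcR.mono_left (zpowers_le.mpr hv)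
    have h2 : R ≤ centralizer ((zpowers v : Subgroup G) : Set G) :=
      h1.le_centralizer_of_normal (N := B) hRN
        (le_centralizer_iff.mp ((zpowers_le.mpr hv).trans hVB))
        (by rw [centralizer_zpowers]; exact hle)
    have h3 : v ∈ R := hRC v (hVN hv) (le_centralizer_iff.mp h2 (mem_zpowers v))
    exact hv1 (eq_one_of_mem_pgroup hcop hR h3 hv2)
  have hV1 : V ≠ ⊥ := fun e => hv1 (by rw [e] at hv; exact mem_bot.mp hv)
  by_contra hno
  apply hne
  refine hc0.le_of_hyperplanes hV hV1 fun H hHV hHi x hx => ?_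
  by_contra hxv
  apply hno
  have hvH : v ∉ H := fun hh => hxv (mem_centralizer_singleton_iff.mpr (hx.2 v hh).symm)
  let y : G := x⁻¹ * (v * x * v⁻¹)
  have hy1 : y ≠ 1 := fun e => hxv (mem_centralizer_singleton_iff.mpr (by
    have : x⁻¹ * (v * x * v⁻¹) = 1 := e
    calc x * v = x * (x⁻¹ * (v * x * v⁻¹)) * v := by rw [this, mul_one]
      _ = v * x := by group))
  have hVH : V ≤ normalizer (H : Set G) := le_normalizer_of_comm (elemAb_comm hV) hHV
  have hyK : y ∈ R ⊓ centralizer (B : Set G) ⊓ centralizer (H : Set G) :=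
    mul_mem (inv_mem hx) (conj_mem_of_le_normalizer
      (le_normalizer_inf hc0.norm (le_normalizer_centralizer hVH)) hv hx)
  have hyinv : v * y * v⁻¹ = y⁻¹ := by
    simp only [y, hvi, mul_inv_rev, inv_inv]
    calc v * (x⁻¹ * (v * x * v)) * v = v * x⁻¹ * v * x * (v * v) := by group
      _ = _ := by rw [hvv]; group
  obtain ⟨j, hj1, hj2⟩ := H9.exists_pow_ne_one_pow_eq_one (p := p) hy1
    (H9.exists_pow_eq_one_of_mem hR hyK.1.1)
  set w := y ^ p ^ j with hw
  have hwK : w ∈ R ⊓ centralizer (B : Set G) ⊓ centralizer (H : Set G) := pow_mem hyK _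
  have hwinv : v * w * v⁻¹ = w⁻¹ := by rw [hw, ← conj_pow, hyinv, inv_pow]
  have hB' : IsElementaryAbelian p (B ⊔ zpowers w : Subgroup G) :=
    elemAb_sup hB (elemAb_zpowers hj2) fun a ha b hb => by
      obtain ⟨n, rfl⟩ := mem_zpowers_iff.mp hb
      exact (Commute.zpow_right (hwK.1.2 a ha) n).eq
  have hwB : w ∉ B := fun hh => by
    have e1 : w * v = v * w := hVB hv w hh
    have e2 : w ^ 2 = 1 := by
      rw [← e1, mul_inv_cancel_right] at hwinv
      rw [pow_two]; nth_rewrite 2 [hwinv]; exact mul_inv_cancel w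
    exact hj1 (eq_one_of_mem_pgroup hcop hR hwK.1.1 e2)
  refine ⟨H, B ⊔ zpowers w, w, hHV, hHi, hvH, hj1, hj2, hwinv, hwK.2, hB',
    pow_succ_le_card_sup (elemAb_pgroup hB') hwB hk, ?_⟩
  rw [centralizer_sup_zpowers]
  exact le_inf (hHV.trans hVB) fun h hh => mem_centralizer_singleton_iff.mpr (hwK.2 h hh)

/-- `t` is an involution centralizing an elementary abelian `p`-subgroup of order at least `p^k`. -/
def KMGood (p k : ℕ) (t : G) : Prop :=
  t ≠ 1 ∧ t ^ 2 = 1 ∧ ∃ A : Subgroup G, IsElementaryAbelian p A ∧ p ^ k ≤ Nat.card A ∧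
    t ∈ centralizer (A : Set G)

theorem km_steps (hp2 : p ≠ 2) (hL : LC p G) (j : ℕ) : ∀ {B V : Subgroup G} {k : ℕ},
    IsElementaryAbelian p B → k ≠ 0 → p ^ k ≤ Nat.card B → IsElementaryAbelian 2 V →
    V ≤ centralizer (B : Set G) → 2 ^ (j + 1) ≤ Nat.card V → ∃ t ∈ V, KMGood p (k + j) t := by
  haveI : Fact (Nat.Prime 2) := ⟨Nat.prime_two⟩
  induction j with
  | zero =>
    intro B V k hB hk0 hk hV hVB hj
    obtain ⟨v, hv, hv1⟩ := exists_mem_ne_one_of_le_card (p := 2) (by norm_num) hj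
    exact ⟨v, hv, hv1, elemAb_pow hV hv, B, hB, hk, hVB hv⟩
  | succ j ih =>
    intro B V k hB hk0 hk hV hVB hj
    obtain ⟨v, hv, hv1⟩ := exists_mem_ne_one_of_le_card (p := 2) (by norm_num) hj
    obtain ⟨H, B', w, hHV, hHi, -, -, -, -, -, hB', hk', hHB'⟩ :=
      km_step hp2 hL hB (ne_bot_of_pow_le_card hk0 hk) hV hVB hv hv1 hk
    obtain ⟨t, ht, hg⟩ := ih hB' (Nat.succ_ne_zero k) hk' (elemAb_mono hV hHV) hHB'
      (pow_le_card_of_hyperplane hHV hHi hj)
    exact ⟨t, hHV ht, by rwa [show k + (j + 1) = k + 1 + j by ring]⟩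

theorem four_le_card {V : Subgroup G} (hV : IsElementaryAbelian 2 V) {z u : G} (hz : z ∈ V)
    (hu : u ∈ V) (hz1 : z ≠ 1) (hu1 : u ≠ 1) (huz : u ≠ z) : 2 ^ 2 ≤ Nat.card V := by
  haveI : Fact (Nat.Prime 2) := ⟨Nat.prime_two⟩
  have hle : zpowers z ⊔ zpowers u ≤ V := sup_le (zpowers_le.mpr hz) (zpowers_le.mpr hu)
  have ho : orderOf z = 2 := elemAb_orderOf hV hz hz1
  refine le_trans (pow_succ_le_card_sup (k := 1) ((elemAb_pgroup hV).to_le hle) (fun h => ?_) ?_)
    (card_le_of_le hle)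
  · rcases H9.eq_one_or_eq_of_card_le_two (H := zpowers z) (by rw [Nat.card_zpowers, ho])
      (mem_zpowers z) hz1 h with e | e
    · exact hu1 e
    · exact huz e
  · rw [Nat.card_zpowers, ho]; norm_num

end step

end Cfsg.Agent.H5
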