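import Cfsg.Agent.H5.KM1

/-!
# Klinger–Mason method, part 2
-/

set_option autoImplicit false

namespace Cfsg.Agent.H5

open Subgroup Cfsg.Agent.H8
open scoped commutatorElement

variable {G : Type*} [Group G] [Finite G] {p : ℕ} [hp : Fact p.Prime]

theorem km_inv_elemAb (hp2 : p ≠ 2) (hL : LC p G) {r : ℕ} (hr : 2 ≤ r)
    (hno : ∀ t : G, ¬ KMGood p (r + 1) t) {A : Subgroup G} (hA : IsElementaryAbelian p A)
    (hk : p ^ r ≤ Nat.card A) {z : G} (hz1 : z ≠ 1) (hz2 : z ^ 2 = 1)
    (hzA : z ∈ centralizer (A : Set G)) {V : Subgroup G} (hV : IsElementaryAbelian 2 V)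
    (hAV : A ≤ normalizer (V : Set G)) (hVz : V ≤ centralizer {z}) :
    ∀ v ∈ V, v = 1 ∨ v = z := by
  haveI : Fact (Nat.Prime 2) := ⟨Nat.prime_two⟩
  obtain ⟨s, rfl⟩ : ∃ s, r = s + 1 := ⟨r - 1, by omega⟩
  have hodd : Odd p := hp.out.odd_of_ne_two hp2
  have hzz : z * z = 1 := by rw [← pow_two, hz2]
  have hW : IsElementaryAbelian 2 (V ⊔ zpowers z : Subgroup G) :=
    elemAb_sup hV (elemAb_zpowers hz2) fun a ha b hb => by
      obtain ⟨n, rfl⟩ := mem_zpowers_iff.mp hb
      exact (Commute.zpow_right (mem_centralizer_singleton_iff.mp (hVz ha)) n).eq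
  have hAz : A ≤ normalizer ((zpowers z : Subgroup G) : Set G) :=
    (le_centralizer_iff.mp (zpowers_le.mpr hzA)).trans (centralizer_le_normalizer _)
  have hAW := le_normalizer_sup hAV hAz
  set W : Subgroup G := V ⊔ zpowers z with hWdef
  have hzW : z ∈ W := mem_sup_right (mem_zpowers z)
  have hc : CopAct A W :=
    copAct_of_elemAb hA (not_dvd_card_of_pgroup (Ne.symm hp2) (elemAb_pgroup hW)) hAW
  have hle : W ≤ zpowers z := by
    refine hc.le_of_hyperplanes hA (ne_bot_of_pow_le_card (Nat.succ_ne_zero s) hk)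
      fun B hBA hBi u hu => ?_
    by_contra huz
    have hu1 : u ≠ 1 := fun e => huz (e ▸ one_mem _)
    have huz' : u ≠ z := fun e => huz (e ▸ mem_zpowers _)
    have hWB : IsElementaryAbelian 2 (W ⊓ centralizer (B : Set G) : Subgroup G) :=
      elemAb_mono hW inf_le_left
    have hcard : Nat.card (W ⊓ centralizer (B : Set G) : Subgroup G) ≤ 4 := by
      by_contra hlt
      have h8 := pow_succ_le_card_of_lt (k := 2) (elemAb_pgroup hWB) (by omega)
      obtain ⟨t, -, ht⟩ := km_steps hp2 hL 2 (elemAb_mono hA hBA) (k := s) (by omega)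
        (pow_le_card_of_hyperplane hBA hBi hk) hWB inf_le_right h8
      exact hno t ht
    have hzB : z ∈ W ⊓ centralizer (B : Set G) := ⟨hzW, centralizer_le (SetLike.coe_subset_coe.mpr hBA) hzA⟩
    have huA : u ∈ centralizer (A : Set G) := by
      intro a ha
      have haz : a * z = z * a := hzA a ha
      have hmem : a * u * a⁻¹ ∈ W ⊓ centralizer (B : Set G) :=
        conj_mem_of_le_normalizer (le_normalizer_inf hAW
          (le_normalizer_centralizer (le_normalizer_of_comm (elemAb_comm hA) hBA))) ha hu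
      have huz2 : u * z ≠ 1 := fun e => huz' (by
        rw [← mul_one u, ← hzz, ← mul_assoc, e, one_mul])
      rcases H9.mem_four_of_card_le hcard hu hzB hu1 hz1 huz' huz2 hmem with e | e | e | e
      · exact absurd (by simpa [mul_inv_eq_iff_eq_mul] using e) hu1
      · rw [mul_inv_eq_iff_eq_mul] at e; exact e
      · exfalso; apply huz'
        rw [mul_inv_eq_iff_eq_mul, ← haz] at e
        exact mul_left_cancel e
      · refine comm_pow_of_comm_sq hodd (elemAb_pow hA ha) ?_
        rw [mul_inv_eq_iff_eq_mul] at e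
        calc a ^ 2 * u = a * (a * u) := by rw [pow_two, mul_assoc]
          _ = (a * u) * z * a := by conv_lhs => rw [e]
                                    simp only [mul_assoc]
          _ = u * z * (a * z) * a := by rw [e]; simp only [mul_assoc]
          _ = u * (z * z) * a * a := by rw [haz]; simp only [mul_assoc]
          _ = u * a ^ 2 := by rw [hzz, pow_two, mul_one, mul_assoc]
    have hWA : IsElementaryAbelian 2 (W ⊓ centralizer (A : Set G) : Subgroup G) :=
      elemAb_mono hW inf_le_left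
    obtain ⟨t, -, ht⟩ := km_steps hp2 hL 1 hA (k := s + 1) (by omega) hk hWA inf_le_right
      (four_le_card hWA ⟨hzW, hzA⟩ ⟨hu.1, huA⟩ hz1 hu1 huz')
    exact hno t ht
  intro v hv
  exact H9.eq_one_or_eq_of_card_le_two (H := zpowers z)
    (by rw [Nat.card_zpowers, orderOf_eq_prime hz2 hz1]) (mem_zpowers z) hz1
    (hle (mem_sup_left hv))

theorem km_inv_cyclic (hp2 : p ≠ 2) (hL : LC p G) {r : ℕ} (hr : 2 ≤ r)
    (hno : ∀ t : G, ¬ KMGood p (r + 1) t) {A : Subgroup G} (hA : IsElementaryAbelian p A)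
    (hk : p ^ r ≤ Nat.card A) {z : G} (hz1 : z ≠ 1) (hz2 : z ^ 2 = 1)
    (hzA : z ∈ centralizer (A : Set G)) {W : Subgroup G} (hW : IsPGroup 2 W)
    (hc : ∀ x ∈ W, ∀ y ∈ W, x * y = y * x)
    (hAW : A ≤ normalizer (W : Set G)) (hWz : W ≤ centralizer {z}) :
    IsCyclic W ∧ (∀ x ∈ W, x ^ 2 = 1 → x = 1 ∨ x = z) ∧ W ≤ centralizer (A : Set G) := by
  haveI : Fact (Nat.Prime 2) := ⟨Nat.prime_two⟩
  let V : Subgroup G :=
    { carrier := {x | x ∈ W ∧ x ^ 2 = 1}
      mul_mem' := fun {a b} ha hb => ⟨mul_mem ha.1 hb.1, by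
        rw [Commute.mul_pow (hc a ha.1 b hb.1), ha.2, hb.2, one_mul]⟩
      one_mem' := ⟨one_mem _, one_pow _⟩
      inv_mem' := fun {a} ha => ⟨inv_mem ha.1, by rw [inv_pow, ha.2, inv_one]⟩ }
  have hV : IsElementaryAbelian 2 V := H9.isElementaryAbelian_two_iff.mpr fun a ha => ha.2
  have hAV : A ≤ normalizer (V : Set G) := fun a ha =>
    H9.mem_normalizer_of_conj_mem fun x hx =>
      ⟨conj_mem_of_le_normalizer hAW ha hx.1, by rw [conj_pow, hx.2]; group⟩
  have h1 := km_inv_elemAb hp2 hL hr hno hA hk hz1 hz2 hzA hV hAV fun x hx => hWz hx.1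
  have h2 : ∀ x ∈ W, x ^ 2 = 1 → x = 1 ∨ x = z := fun x hx hx2 => h1 x ⟨hx, hx2⟩
  have h3 : IsCyclic W := by
    by_contra hnc
    obtain ⟨y, hy, c, hcW, hyo, hc2, hcy⟩ :=
      exists_order_prime_not_mem_of_comm hW (isMulCommutative_of hc) hnc
    have hy1 : y ≠ 1 := by rintro rfl; simp at hyo
    have hyz : y = z := (h2 y hy (by rw [← hyo, pow_orderOf_eq_one])).resolve_left hy1
    rcases h2 c hcW hc2 with e | e
    · exact hcy (e ▸ one_mem _)
    · exact hcy (by rw [e, hyz]; exact mem_zpowers z)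
  refine ⟨h3, h2, le_centralizer_iff.mp fun a ha => ?_⟩
  refine mem_centralizer_of_odd_of_isCyclic hW h3 (hAW ha) ?_
  exact (hp.out.odd_of_ne_two hp2).of_dvd_nat (orderOf_dvd_of_pow_eq_one (elemAb_pow hA ha))

/-- The properties of a critical subgroup of `O_2(C(z))` that are used. -/
structure KMCrit (p : ℕ) (z : G) (K : Subgroup G) : Prop where
  pg : IsPGroup 2 K
  mem : z ∈ K
  le : K ≤ centralizer {z}
  norm : centralizer {z} ≤ normalizer (K : Set G)
  comm : ∀ x ∈ K, ∀ y ∈ K, x * y = y * x ∨ x * y = y * x * z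
  sq : ∀ x ∈ K, x ^ 2 ∈ centralizer (K : Set G)
  cyc : IsCyclic (K ⊓ centralizer (K : Set G) : Subgroup G)
  inv : ∀ x ∈ K ⊓ centralizer (K : Set G), x ^ 2 = 1 → x = 1 ∨ x = z
  faith : ∀ g ∈ centralizer {z}, g ^ p = 1 → g ∈ centralizer (K : Set G) → g = 1

theorem normalizer_zpowers_of_sq {z : G} (hz1 : z ≠ 1) (hz2 : z ^ 2 = 1) :
    normalizer ((zpowers z : Subgroup G) : Set G) = centralizer {z} := by
  haveI : Fact (Nat.Prime 2) := ⟨Nat.prime_two⟩
  refine le_antisymm (fun g hg => ?_) ?_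
  · rcases H9.eq_one_or_eq_of_card_le_two (H := zpowers z)
      (by rw [Nat.card_zpowers, orderOf_eq_prime hz2 hz1]) (mem_zpowers z) hz1
      (H9.conj_mem_of_mem_normalizer hg (mem_zpowers z)) with e | e
    · exact absurd (by simpa [mul_inv_eq_iff_eq_mul] using e) hz1
    · exact mem_centralizer_singleton_iff.mpr (mul_inv_eq_iff_eq_mul.mp e)
  · rw [← centralizer_zpowers]; exact centralizer_le_normalizer _

theorem exists_kmCrit (hp2 : p ≠ 2) (hL : LC p G) (hL2 : LC 2 G) {r : ℕ} (hr : 2 ≤ r)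
    (hno : ∀ t : G, ¬ KMGood p (r + 1) t) {z : G} (hz : KMGood p r z) :
    ∃ K : Subgroup G, KMCrit p z K := by
  haveI : Fact (Nat.Prime 2) := ⟨Nat.prime_two⟩
  obtain ⟨hz1, hz2, A, hA, hk, hzA⟩ := hz
  have hcop : Nat.Coprime p 2 := (Nat.coprime_primes hp.out Nat.prime_two).mpr hp2
  obtain ⟨Q, hQ, hQN, hNQ, hQC⟩ := hL2 (zpowers z) (H9.isPGroup_zpowers ⟨1, by simpa using hz2⟩)
    (by simpa using hz1)
  rw [normalizer_zpowers_of_sq hz1 hz2] at hQN hNQ hQC
  obtain ⟨K, hKQ, hNK, h1, h2, h3, h4⟩ := exists_critical_in hQ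
  have hzz : z ∈ centralizer {z} := mem_centralizer_singleton_iff.mpr rfl
  have hzQ' : z ∈ centralizer (Q : Set G) := fun x hx => mem_centralizer_singleton_iff.mp (hQN hx)
  have hzQ : z ∈ Q := hQC z hzz hzQ'
  have hzK : z ∈ K := h3 ⟨hzQ, centralizer_le (SetLike.coe_subset_coe.mpr hKQ) hzQ'⟩
  have hK : IsPGroup 2 K := hQ.to_le hKQ
  have hAz : A ≤ centralizer {z} := fun a ha => mem_centralizer_singleton_iff.mpr (hzA a ha)
  have hAK : A ≤ normalizer (K : Set G) := (hAz.trans hNQ).trans hNK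
  obtain ⟨c1, c2, -⟩ := km_inv_cyclic hp2 hL hr hno hA hk hz1 hz2 hzA
    (W := K ⊓ centralizer (K : Set G)) (hK.to_le inf_le_left)
    (fun x hx y hy => hy.2 x hx.1) (le_normalizer_inf hAK (le_normalizer_centralizer hAK))
    ((inf_le_left.trans hKQ).trans hQN)
  refine ⟨K, hK, hzK, hKQ.trans hQN, hNQ.trans hNK, fun x hx y hy => ?_, h2, c1, c2,
    fun g hg hgp hgK => ?_⟩
  · have hm : ⁅x⁻¹, y⁻¹⁆ ∈ K ⊓ centralizer (K : Set G) :=
      h1 (commutator_mem_commutator (inv_mem hx) (inv_mem (hKQ hy)))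
    have e : x * y = y * x * ⁅x⁻¹, y⁻¹⁆ := by rw [commutatorElement_def]; group
    set c := ⁅x⁻¹, y⁻¹⁆
    have hxc : x * c = c * x := hm.2 x hx
    have hyc : y * c = c * y := hm.2 y hy
    have hc2 : c ^ 2 = 1 := by
      have e2 : y * x ^ 2 = x ^ 2 * y := h2 x hx y hy
      have e3 : x ^ 2 * y = y * x ^ 2 * c ^ 2 := by
        calc x ^ 2 * y = x * (x * y) := by rw [pow_two, mul_assoc]
          _ = (x * y) * x * c := by conv_lhs => rw [e]
                                    simp only [mul_assoc]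
          _ = y * x * (c * x) * c := by rw [e]; simp only [mul_assoc]
          _ = y * x ^ 2 * c ^ 2 := by rw [← hxc, pow_two, pow_two]; simp only [mul_assoc]
      rw [e2] at e3
      exact (mul_eq_left.mp e3.symm)
    rcases c2 c hm hc2 with h | h
    · left; rw [e, h, mul_one]
    · right; rw [e, h]
  · have hca : CopAct (zpowers g) Q := copAct_of_elemAb (elemAb_zpowers hgp)
      (not_dvd_card_of_pgroup (Ne.symm hp2) hQ) (zpowers_le.mpr (hNQ hg))
    have h5 := h4 _ hca (le_centralizer_iff.mp (zpowers_le.mpr hgK))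
    exact eq_one_of_mem_pgroup hcop hQ (hQC g hg (le_centralizer_iff.mp h5 (mem_zpowers g))) hgp

namespace KMCrit

variable {z : G} {K : Subgroup G}

omit [Finite G] hp in
theorem zc (hK : KMCrit p z K) {x : G} (hx : x ∈ K) : x * z = z * x :=
  mem_centralizer_singleton_iff.mp (hK.le hx)

omit [Finite G] hp in
theorem sq_mul (hK : KMCrit p z K) (hz2 : z ^ 2 = 1) {x y : G} (hx : x ∈ K) (hy : y ∈ K)
    (h : x * y = y * x * z) : (x * y) ^ 2 = x ^ 2 * y ^ 2 * z := by
  have hzz : z * z = 1 := by rw [← pow_two, hz2]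
  have e : y * x = x * y * z := by rw [h, mul_assoc _ z, hzz, mul_one]
  calc (x * y) ^ 2 = x * (y * x) * y := by rw [pow_two]; simp only [mul_assoc]
    _ = x * x * y * (z * y) := by rw [e]; simp only [mul_assoc]
    _ = _ := by rw [← hK.zc hy, pow_two, pow_two]; simp only [mul_assoc]

theorem pair (hK : KMCrit p z K) (hp2 : p ≠ 2) (hz1 : z ≠ 1) (hz2 : z ^ 2 = 1) {A : Subgroup G}
    (hA : IsElementaryAbelian p A) (hAz : A ≤ centralizer {z})
    (hcyc : ∀ W : Subgroup G, W ≤ K → (∀ x ∈ W, ∀ y ∈ W, x * y = y * x) →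
      A ≤ normalizer (W : Set G) → W ≤ centralizer (A : Set G))
    {B : Subgroup G} (hB : B ≤ A) {a : G} (ha : a ∈ A) {d : G}
    (hd : d ∈ K ⊓ centralizer (B : Set G)) (hda : d ∉ centralizer {a}) :
    ∃ x y : G, x ∈ K ⊓ centralizer (B : Set G) ⊓
        centralizer ((K ⊓ centralizer {a} : Subgroup G) : Set G) ∧
      y ∈ K ⊓ centralizer (B : Set G) ⊓
        centralizer ((K ⊓ centralizer {a} : Subgroup G) : Set G) ∧
      x ^ 2 = z ∧ y ^ 2 = z ∧ x * y = y * x * z := by
  have hcop : Nat.Coprime p 2 := (Nat.coprime_primes hp.out Nat.prime_two).mpr hp2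
  have hzz : z * z = 1 := by rw [← pow_two, hz2]
  have hzi : z⁻¹ = z := inv_eq_of_mul_eq_one_right hzz
  have hAK : A ≤ normalizer (K : Set G) := hAz.trans hK.norm
  set L₀ : Subgroup G := K ⊓ centralizer (B : Set G) ⊓
    centralizer ((K ⊓ centralizer {a} : Subgroup G) : Set G) with hL₀
  have hAa : A ≤ normalizer ((centralizer {a} : Subgroup G) : Set G) := by
    rw [← centralizer_zpowers]
    exact le_normalizer_centralizer (le_normalizer_of_comm (elemAb_comm hA) (zpowers_le.mpr ha))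
  have hAB : A ≤ normalizer ((K ⊓ centralizer (B : Set G) : Subgroup G) : Set G) :=
    le_normalizer_inf hAK (le_normalizer_centralizer (le_normalizer_of_comm (elemAb_comm hA) hB))
  have hAL₀ : A ≤ normalizer (L₀ : Set G) :=
    le_normalizer_inf hAB (le_normalizer_centralizer (le_normalizer_inf hAK hAa))
  have hmul : ∀ x ∈ K, ∀ y ∈ K, (x ^ 2 = 1 ∨ x ^ 2 = z) → (y ^ 2 = 1 ∨ y ^ 2 = z) →
      ((x * y) ^ 2 = 1 ∨ (x * y) ^ 2 = z) := by
    intro x hx y hy h1 h2
    rcases hK.comm x hx y hy with e | e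
    · rw [Commute.mul_pow e]
      rcases h1 with h1 | h1 <;> rcases h2 with h2 | h2 <;> simp [h1, h2, hzz]
    · rw [hK.sq_mul hz2 hx hy e]
      rcases h1 with h1 | h1 <;> rcases h2 with h2 | h2 <;> simp [h1, h2, hzz]
  let L : Subgroup G :=
    { carrier := {x | x ∈ L₀ ∧ (x ^ 2 = 1 ∨ x ^ 2 = z)}
      mul_mem' := fun {x y} hx hy => ⟨mul_mem hx.1 hy.1, hmul x hx.1.1.1 y hy.1.1.1 hx.2 hy.2⟩
      one_mem' := ⟨one_mem _, Or.inl (one_pow _)⟩
      inv_mem' := fun {x} hx => ⟨inv_mem hx.1, by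
        rw [inv_pow]
        rcases hx.2 with h | h
        · left; rw [h, inv_one]
        · right; rw [h, hzi]⟩ }
  have hconjz : ∀ g ∈ A, g * z * g⁻¹ = z := fun g hg => by
    rw [mem_centralizer_singleton_iff.mp (hAz hg), mul_inv_cancel_right]
  have hAL : A ≤ normalizer (L : Set G) := fun g hg =>
    H9.mem_normalizer_of_conj_mem fun x hx => ⟨conj_mem_of_le_normalizer hAL₀ hg hx.1, by
      rw [conj_pow]
      rcases hx.2 with h | h
      · left; rw [h]; group
      · right; rw [h, hconjz g hg]⟩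
  have hLK : L ≤ K := fun x hx => hx.1.1.1
  -- the commutator
  have hd' : a * d * a⁻¹ ∈ K ⊓ centralizer (B : Set G) := conj_mem_of_le_normalizer hAB ha hd
  set d' := a * d * a⁻¹ with hd'def
  have hZA : K ⊓ centralizer (K : Set G) ≤ centralizer (A : Set G) :=
    hcyc _ inf_le_left (fun x hx y hy => hy.2 x hx.1)
      (le_normalizer_inf hAK (le_normalizer_centralizer hAK))
  have hsq : d' ^ 2 = d ^ 2 := by
    rw [hd'def, conj_pow, hZA ⟨pow_mem hd.1 2, hK.sq d hd.1⟩ a ha, mul_inv_cancel_right]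
  have he : d⁻¹ * d' ∈ L := by
    refine ⟨⟨Subgroup.mul_mem _ (Subgroup.inv_mem _ hd) hd', fun c hc => ?_⟩, ?_⟩
    · have hca : c * a = a * c := mem_centralizer_singleton_iff.mp hc.2
      have hca' : a * c * a⁻¹ = c := by rw [← hca, mul_inv_cancel_right]
      rcases hK.comm d hd.1 c hc.1 with e | e
      · have e' : d' * c = c * d' := by
          conv_lhs => rw [← hca', hd'def, conj_mul, e, ← conj_mul, hca']
        exact (((show Commute d c from e).inv_left).mul_left e').eq.symm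
      · have e' : d' * c = c * d' * z := by
          conv_lhs => rw [← hca', hd'def, conj_mul, e, ← conj_mul, ← conj_mul, hca', hconjz a ha]
        have e'' : d⁻¹ * c = c * z * d⁻¹ := by
          calc d⁻¹ * c = d⁻¹ * (c * d * z) * z * d⁻¹ := by
                rw [mul_assoc _ _ z, mul_assoc _ z z, hzz]; group
            _ = c * z * d⁻¹ := by rw [← e]; group
        calc c * (d⁻¹ * d') = c * (z * z) * (d⁻¹ * d') := by rw [hzz, mul_one]
          _ = c * z * (z * (d⁻¹ * d')) := by simp only [mul_assoc]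
          _ = c * z * d⁻¹ * d' * z := by
            rw [← hK.zc (mul_mem (inv_mem hd.1) hd'.1)]; simp only [mul_assoc]
          _ = d⁻¹ * (c * d' * z) := by rw [← e'']; simp only [mul_assoc]
          _ = d⁻¹ * d' * c := by rw [← e']; exact (mul_assoc _ _ _).symm
    · rcases hK.comm d⁻¹ (inv_mem hd.1) d' hd'.1 with e | e
      · left; rw [Commute.mul_pow e, hsq]; group
      · right; rw [hK.sq_mul hz2 (inv_mem hd.1) hd'.1 e, hsq]; group
  have hna : ¬ ∀ x ∈ L, ∀ y ∈ L, x * y = y * x := by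
    intro hc
    have h1 : a * (d⁻¹ * d') = d⁻¹ * d' * a := hcyc L hLK hc hAL he a ha
    set e := d⁻¹ * d' with hedef
    have h2 : ∀ k : ℕ, a ^ k * d = d * e ^ k * a ^ k := by
      intro k
      induction k with
      | zero => simp
      | succ k ih =>
        have h3 : a * d = d * e * a := by rw [hedef, hd'def]; group
        have h4 : a * e ^ k = e ^ k * a := ((show Commute a e from h1).pow_right k).eq
        calc a ^ (k + 1) * d = a * (a ^ k * d) := by rw [pow_succ', mul_assoc]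
          _ = (a * d) * e ^ k * a ^ k := by rw [ih]; simp only [mul_assoc]
          _ = d * e * (a * e ^ k) * a ^ k := by rw [h3]; simp only [mul_assoc]
          _ = _ := by rw [h4, pow_succ', pow_succ']; simp only [mul_assoc]
    have h5 := h2 p
    rw [elemAb_pow hA ha, one_mul, mul_one] at h5
    have h6 : e = 1 := eq_one_of_mem_pgroup hcop hK.pg (hLK he) (mul_eq_left.mp h5.symm)
    apply hda
    have h7 := h2 1
    rw [h6] at h7
    exact mem_centralizer_singleton_iff.mpr (by simpa using h7.symm)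
  obtain ⟨x, hx, hx2, m, hm, hxm⟩ : ∃ x ∈ L, x ^ 2 = z ∧ ∃ m ∈ L, x * m ≠ m * x := by
    push Not at hna
    obtain ⟨l, hl, m, hm, hlm⟩ := hna
    rcases hl.2 with h1 | h1
    · rcases hm.2 with h2 | h2
      · refine ⟨l * m, mul_mem hl hm, ?_, m, hm, fun e => hlm ?_⟩
        · rw [hK.sq_mul hz2 (hLK hl) (hLK hm) ((hK.comm l (hLK hl) m (hLK hm)).resolve_left hlm),
            h1, h2, one_mul, one_mul]
        · rw [← mul_assoc] at e; exact mul_right_cancel e
      · exact ⟨m, hm, h2, l, hl, Ne.symm hlm⟩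
    · exact ⟨l, hl, h1, m, hm, hlm⟩
  by_contra hno
  have hcm : ∀ g ∈ A, ∀ h ∈ A, (g * x * g⁻¹) * (h * x * h⁻¹) = (h * x * h⁻¹) * (g * x * g⁻¹) := by
    intro g hg h hh
    have m1 := conj_mem_of_le_normalizer hAL hg hx
    have m2 := conj_mem_of_le_normalizer hAL hh hx
    refine (hK.comm _ (hLK m1) _ (hLK m2)).resolve_right fun e => hno ⟨_, _, m1.1, m2.1, ?_, ?_, e⟩
    · rw [conj_pow, hx2, hconjz g hg]
    · rw [conj_pow, hx2, hconjz h hh]
  let S : Set G := {y | ∃ g ∈ A, y = g * x * g⁻¹}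
  have hW : closure S ≤ centralizer (A : Set G) := by
    refine hcyc _ ((closure_le _).mpr ?_) ?_ ?_
    · rintro _ ⟨g, hg, rfl⟩; exact conj_mem_of_le_normalizer hAK hg (hLK hx)
    · have h1 : closure S ≤ centralizer S := (closure_le _).mpr (by
        rintro _ ⟨g, hg, rfl⟩ _ ⟨h, hh, rfl⟩; exact hcm h hh g hg)
      have h2 : closure S ≤ centralizer ((closure S : Subgroup G) : Set G) := by
        rwa [centralizer_closure]
      exact fun u hu v hv => h2 hv u hu
    · refine le_normalizer_closure_iff.mpr ?_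
      rintro g hg _ ⟨h, hh, rfl⟩
      exact subset_closure ⟨g * h, mul_mem hg hh, by group⟩
  have hxa : a * x = x * a := hW (subset_closure ⟨1, one_mem _, by group⟩) a ha
  exact hxm (hm.1.2 x ⟨hLK hx, mem_centralizer_singleton_iff.mpr hxa.symm⟩)

end KMCrit

end Cfsg.Agent.H5
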