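import Cfsg.Agent.H5.KM2

/-!
# Klinger–Mason method, part 3: the theorem
-/

set_option autoImplicit false

namespace Cfsg.Agent.H5

open Subgroup Cfsg.Agent.H8
open scoped commutatorElement

variable {G : Type*} [Group G]

/-- The action of `N(K)` on `K/Z(K)`. -/
def qact (K : Subgroup G) : normalizer (K : Set G) →* Monoid.End (K ⧸ center K) where
  toFun g := QuotientGroup.map _ _ (K.normalizerMonoidHom g).toMonoidHom (fun x hx => by
    rw [mem_comap]
    exact mem_center_iff.mpr fun y => by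
      obtain ⟨y, rfl⟩ := (K.normalizerMonoidHom g).surjective y
      simp only [MulEquiv.toMonoidHom_eq_coe, MonoidHom.coe_coe]
      rw [← map_mul, ← map_mul, mem_center_iff.mp hx y])
  map_one' := by
    refine MonoidHom.ext fun x => ?_
    induction x using QuotientGroup.induction_on with
    | H x => simp; rfl
  map_mul' g h := by
    refine MonoidHom.ext fun x => ?_
    induction x using QuotientGroup.induction_on with
    | H x => simp; rfl

theorem qact_mk (K : Subgroup G) (g : normalizer (K : Set G)) (x : K) :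
    qact K g (x : K ⧸ center K) =
      ((⟨g * x * (g : G)⁻¹, H9.conj_mem_of_mem_normalizer g.2 x.2⟩ : K) : K ⧸ center K) := rfl

theorem qact_mk_eq_iff (K : Subgroup G) (g : normalizer (K : Set G)) (x : K) :
    qact K g (x : K ⧸ center K) = x ↔
      (x : G)⁻¹ * (g * x * (g : G)⁻¹) ∈ centralizer (K : Set G) := by
  rw [qact_mk, eq_comm, QuotientGroup.eq, mem_center_iff]
  exact ⟨fun h y hy => congrArg Subtype.val (h ⟨y, hy⟩), fun h y => Subtype.ext (h y y.2)⟩

variable [Finite G] {p : ℕ} [hp : Fact p.Prime]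

namespace KMCrit

variable {z t : G} {K K' : Subgroup G}

theorem qact_ne_one (hK : KMCrit p t K') (hp2 : p ≠ 2) {w : G} (hw : w ∈ centralizer {t})
    (hw1 : w ≠ 1) (hwp : w ^ p = 1) (hz : z ∈ centralizer {t}) (hzw : z * w * z⁻¹ = w⁻¹) :
    qact K' ⟨z, hK.norm hz⟩ ≠ 1 := by
  haveI : Fact (Nat.Prime 2) := ⟨Nat.prime_two⟩
  intro h1
  have hodd := hp.out.odd_of_ne_two hp2
  have h2 : (⟨w, hK.norm hw⟩ : normalizer (K' : Set G)) ^ 2 ∈ (qact K').ker := by
    have h3 : (⟨z, hK.norm hz⟩ : normalizer (K' : Set G)) ∈ (qact K').ker := h1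
    have h4 := mul_mem ((qact K').normal_ker.conj_mem _ h3 ⟨w, hK.norm hw⟩) (inv_mem h3)
    convert h4 using 1
    refine Subtype.ext ?_
    change w ^ 2 = w * z * w⁻¹ * z⁻¹
    calc w ^ 2 = w * (w⁻¹)⁻¹ := by rw [inv_inv, pow_two]
      _ = _ := by conv_lhs => rw [← hzw]
                  group
  have h5 : (⟨w, hK.norm hw⟩ : normalizer (K' : Set G)) ∈ (qact K').ker := by
    obtain ⟨m, hm⟩ := hodd
    have e : (⟨w, hK.norm hw⟩ : normalizer (K' : Set G)) =
        (((⟨w, hK.norm hw⟩ : normalizer (K' : Set G)) ^ 2) ^ m)⁻¹ := by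
      rw [eq_inv_iff_mul_eq_one, ← pow_mul, ← pow_succ', ← hm]
      exact Subtype.ext hwp
    rw [e]; exact inv_mem (pow_mem h2 m)
  have hwK : zpowers w ≤ normalizer (K' : Set G) := zpowers_le.mpr (hK.norm hw)
  have hc : CopAct (zpowers w) K' := copAct_of_elemAb (elemAb_zpowers hwp)
    (not_dvd_card_of_pgroup (Ne.symm hp2) hK.pg) hwK
  have hZ : K' ⊓ centralizer (K' : Set G) ≤ centralizer ((zpowers w : Subgroup G) : Set G) := by
    refine le_centralizer_iff.mp (zpowers_le.mpr ?_)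
    exact mem_centralizer_of_odd_of_isCyclic (hK.pg.to_le inf_le_left) hK.cyc
      (le_normalizer_inf hwK (le_normalizer_centralizer hwK) (mem_zpowers w))
      (hodd.of_dvd_nat (orderOf_dvd_of_pow_eq_one hwp))
  have h6 := hc.le_centralizer_of_commutator_le hZ (commutator_le.mpr fun k hk a ha => by
    refine ⟨hc.commutator_le (commutator_mem_commutator hk ha), ?_⟩
    obtain ⟨n, rfl⟩ := mem_zpowers_iff.mp ha
    have h7 : qact K' ((⟨w, hK.norm hw⟩ : normalizer (K' : Set G)) ^ n) = 1 := zpow_mem h5 n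
    have h8 := (qact_mk_eq_iff K' ((⟨w, hK.norm hw⟩ : normalizer (K' : Set G)) ^ n)
      ⟨k⁻¹, inv_mem hk⟩).mp (by rw [h7]; rfl)
    simpa [commutatorElement_def, mul_assoc] using h8)
  exact hw1 (hK.faith w hw hwp (le_centralizer_iff.mp h6 (mem_zpowers w)))

omit [Finite G] hp in
theorem inter (hK : KMCrit p z K) (hK' : KMCrit p t K') (hz2 : z ^ 2 = 1) (ht : t ∈ K)
    (hzK' : z ∉ K') {j : G} (hj : j ∈ K) (hj' : j ∈ K') : j = 1 ∨ j = t ∨ j = t⁻¹ := by
  have hzz : z * z = 1 := by rw [← pow_two, hz2]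
  have hZ : ∀ i ∈ K, i ∈ K' → i ∈ centralizer (K : Set G) → i = 1 := by
    intro i hi hi' hc
    by_contra hi1
    obtain ⟨n, h1, h2⟩ := H9.exists_pow_ne_one_pow_eq_one (p := 2) hi1
      (H9.exists_pow_eq_one_of_mem hK.pg hi)
    rcases hK.inv _ ⟨pow_mem hi _, pow_mem hc _⟩ h2 with e | e
    · exact h1 e
    · exact hzK' (e ▸ pow_mem hi' _)
  have h1 : ∀ k ∈ K, k * t = t * k → k * j = j * k := by
    intro k hk hkt
    refine (hK.comm k hk j hj).resolve_right fun e => hzK' ?_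
    have h2 : k⁻¹ * j⁻¹ * k ∈ K' :=
      H9.conj_mem_of_mem_normalizer' (hK'.norm (mem_centralizer_singleton_iff.mpr hkt)) (inv_mem hj')
    have h3 : z = k⁻¹ * j⁻¹ * k * j := by
      rw [mul_assoc _ k j, e]; group
    rw [h3]; exact mul_mem h2 hj'
  by_cases hc : j ∈ centralizer (K : Set G)
  · exact Or.inl (hZ j hj hj' hc)
  · right; right
    obtain ⟨k₀, hk₀, hk₀j⟩ : ∃ k₀ ∈ K, k₀ * j ≠ j * k₀ := by
      by_contra hh; push Not at hh; exact hc hh
    have e0 := (hK.comm k₀ hk₀ j hj).resolve_left hk₀j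
    have e1 := (hK.comm k₀ hk₀ t ht).resolve_left fun e => hk₀j (h1 k₀ hk₀ e)
    have h4 : t * j ∈ centralizer (K : Set G) := by
      intro k hk
      rcases hK.comm k hk t ht with e | e
      · rw [← mul_assoc, e, mul_assoc, h1 k hk e, mul_assoc]
      · have h5 : k * k₀ * t = t * (k * k₀) := by
          calc k * k₀ * t = k * (k₀ * t) := mul_assoc _ _ _
            _ = (k * t) * k₀ * z := by rw [e1]; simp only [mul_assoc]
            _ = t * k * (z * k₀) * z := by rw [e]; simp only [mul_assoc]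
            _ = t * k * k₀ * (z * z) := by rw [← hK.zc hk₀]; simp only [mul_assoc]
            _ = _ := by rw [hzz, mul_one, mul_assoc]
        have h6 := h1 _ (mul_mem hk hk₀) h5
        have h7 : k * j = j * k * z := by
          refine (hK.comm k hk j hj).resolve_left fun e' => hk₀j ?_
          rw [mul_assoc, ← mul_assoc j, ← e', mul_assoc] at h6
          exact mul_left_cancel h6
        calc k * (t * j) = (k * t) * j := (mul_assoc _ _ _).symm
          _ = t * k * (z * j) := by rw [e]; simp only [mul_assoc]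
          _ = t * (k * j) * z := by rw [← hK.zc hj]; simp only [mul_assoc]
          _ = t * j * k * (z * z) := by rw [h7]; simp only [mul_assoc]
          _ = _ := by rw [hzz, mul_one]
    have h8 := hZ _ (mul_mem ht hj) (mul_mem hK'.mem hj') h4
    exact eq_inv_of_mul_eq_one_right h8

theorem final (hK : KMCrit p z K) (hK' : KMCrit p t K') (hp2 : p ≠ 2) (hz2 : z ^ 2 = 1)
    (ht : t ∈ K) {w : G} (hw : w ∈ centralizer {t}) (hw1 : w ≠ 1) (hwp : w ^ p = 1)
    (hzw : z * w * z⁻¹ = w⁻¹) {x y : G} (hx : x ∈ K) (hy : y ∈ K) (hxt : x ∈ centralizer {t})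
    (hyt : y ∈ centralizer {t}) (hx2 : x ^ 2 = z) (hy2 : y ^ 2 = z) (hxy : x * y = y * x * z) :
    False := by
  haveI : Fact (Nat.Prime 2) := ⟨Nat.prime_two⟩
  have hcop : Nat.Coprime p 2 := (Nat.coprime_primes hp.out Nat.prime_two).mpr hp2
  have hzz : z * z = 1 := by rw [← pow_two, hz2]
  have hzi : z⁻¹ = z := inv_eq_of_mul_eq_one_right hzz
  have hz : z ∈ centralizer {t} := hx2 ▸ pow_mem hxt 2
  have hzK' : z ∉ K' := by
    intro h
    have h1 : w * z * w⁻¹ * z⁻¹ ∈ K' :=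
      mul_mem (H9.conj_mem_of_mem_normalizer (hK'.norm hw) h) (inv_mem h)
    have h2 : w * z * w⁻¹ * z⁻¹ = w ^ 2 := by
      calc _ = w * (z * w * z⁻¹)⁻¹ := by group
        _ = _ := by rw [hzw, inv_inv, pow_two]
    rw [h2] at h1
    have h3 := eq_one_of_mem_pgroup hcop hK'.pg h1 (by rw [← pow_mul, mul_comm, pow_mul, hwp, one_pow])
    have h4 := Nat.eq_one_of_dvd_coprimes hcop (orderOf_dvd_of_pow_eq_one hwp)
      (orderOf_dvd_of_pow_eq_one h3)
    exact hw1 (orderOf_eq_one_iff.mp h4)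
  have htc : t ∈ centralizer (K' : Set G) := fun k hk => hK'.zc hk
  -- `z` centralizes `Z(K')`
  have hzZ : ∀ c ∈ K' ⊓ centralizer (K' : Set G), z * c = c * z := by
    obtain ⟨⟨g, hg⟩, hgen⟩ := hK'.cyc.exists_generator
    have hN : centralizer {t} ≤ normalizer ((K' ⊓ centralizer (K' : Set G) : Subgroup G) : Set G) :=
      le_normalizer_inf hK'.norm (le_normalizer_centralizer hK'.norm)
    have hgen' : ∀ c ∈ K' ⊓ centralizer (K' : Set G), ∃ n : ℤ, g ^ n = c := fun c hc => by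
      obtain ⟨n, hn⟩ := mem_zpowers_iff.mp (hgen ⟨c, hc⟩)
      exact ⟨n, congrArg Subtype.val hn⟩
    obtain ⟨m, hm⟩ := hgen' _ (conj_mem_of_le_normalizer hN hxt hg)
    obtain ⟨n, hn⟩ := hgen' _ (conj_mem_of_le_normalizer hN hyt hg)
    have e1 : x * y * g * (x * y)⁻¹ = y * x * g * (y * x)⁻¹ := by
      calc x * y * g * (x * y)⁻¹ = x * (y * g * y⁻¹) * x⁻¹ := by group
        _ = (x * g * x⁻¹) ^ n := by rw [← hn, conj_zpow]
        _ = (y * g * y⁻¹) ^ m := by rw [← hm, ← hn, ← zpow_mul, ← zpow_mul, mul_comm]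
        _ = y * (x * g * x⁻¹) * y⁻¹ := by rw [← hm, conj_zpow]
        _ = _ := by group
    have e2 : z * g = g * z := by
      rw [hxy] at e1
      calc z * g = (y * x)⁻¹ * (y * x * z * g * (y * x * z)⁻¹) * (y * x) * z := by group
        _ = g * z := by rw [e1]; group
    intro c hc
    obtain ⟨k, rfl⟩ := hgen' c hc
    exact ((show Commute z g from e2).zpow_right k).eq
  apply hK'.qact_ne_one hp2 hw hw1 hwp hz hzw
  letI : CommGroup (K' ⧸ center K') :=
    { mul_comm := fun a b => by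
        induction a using QuotientGroup.induction_on with
        | H a =>
        induction b using QuotientGroup.induction_on with
        | H b =>
        rw [← QuotientGroup.mk_mul, ← QuotientGroup.mk_mul, QuotientGroup.eq, mem_center_iff]
        intro k
        refine Subtype.ext ?_
        change (k : G) * ((a * b : G)⁻¹ * (b * a)) = (a * b : G)⁻¹ * (b * a) * k
        rcases hK'.comm b b.2 a a.2 with e | e
        · rw [e]; group
        · rw [e, inv_mul_cancel_left, hK'.zc k.2] }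
  let X := qact K' ⟨x, hK'.norm hxt⟩
  let Y := qact K' ⟨y, hK'.norm hyt⟩
  let Z := qact K' ⟨z, hK'.norm hz⟩
  have hXX : X * X = Z := by
    rw [← map_mul]; congr 1; exact Subtype.ext ((pow_two x).symm.trans hx2)
  have hYY : Y * Y = Z := by
    rw [← map_mul]; congr 1; exact Subtype.ext ((pow_two y).symm.trans hy2)
  have hWW : X * Y * (X * Y) = Z := by
    rw [← map_mul, ← map_mul]; congr 1
    refine Subtype.ext ?_
    change x * y * (x * y) = z
    rw [← pow_two, hK.sq_mul hz2 hx hy hxy, hx2, hy2, hzz, one_mul]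
  have hZZ : Z * Z = 1 := by
    rw [← map_mul, ← map_one (qact K')]; congr 1; exact Subtype.ext hzz
  have hfix : ∀ k : K', (k : G) * z = z * k → X k = k ∧ Y k = k := by
    intro k hk
    have hkK : (k : G) ∈ normalizer (K : Set G) := hK.norm (mem_centralizer_singleton_iff.mpr hk)
    have gen : ∀ (f : G) (hf : f ∈ K) (hft : f ∈ centralizer {t}),
        qact K' ⟨f, hK'.norm hft⟩ k = k := by
      intro f hf hft
      rw [qact_mk_eq_iff]
      have m1 : (k : G)⁻¹ * (f * k * f⁻¹) ∈ K := by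
        have := mul_mem (H9.conj_mem_of_mem_normalizer' hkK hf) (inv_mem hf)
        simpa only [mul_assoc] using this
      have m2 : (k : G)⁻¹ * (f * k * f⁻¹) ∈ K' :=
        mul_mem (inv_mem k.2) (H9.conj_mem_of_mem_normalizer (hK'.norm hft) k.2)
      rcases hK.inter hK' hz2 ht hzK' m1 m2 with e | e | e
      · exact e ▸ one_mem _
      · exact e ▸ htc
      · exact e ▸ inv_mem htc
    exact ⟨gen x hx hxt, gen y hy hyt⟩
  have hdich : ∀ k : K', Z k = k → (k : G) * z = z * k ∨ z * k * z⁻¹ = k * t := by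
    intro k hk
    have h1 := (qact_mk_eq_iff K' ⟨z, hK'.norm hz⟩ k).mp hk
    have m2 : (k : G)⁻¹ * (z * k * z⁻¹) ∈ K' :=
      mul_mem (inv_mem k.2) (H9.conj_mem_of_mem_normalizer (hK'.norm hz) k.2)
    have h2 := hzZ _ ⟨m2, h1⟩
    have h3 : ((k : G)⁻¹ * (z * k * z⁻¹)) ^ 2 = 1 := by
      have h4 : z * ((k : G)⁻¹ * (z * k * z⁻¹)) * z⁻¹ = ((k : G)⁻¹ * (z * k * z⁻¹))⁻¹ := by
        calc _ = z * (k : G)⁻¹ * z⁻¹ * (z * z) * k * (z * z)⁻¹ := by group
          _ = _ := by rw [hzz]; group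
      rw [h2, mul_inv_cancel_right] at h4
      rw [pow_two]; nth_rewrite 2 [h4]; exact mul_inv_cancel _
    rcases hK'.inv _ ⟨m2, h1⟩ h3 with e | e
    · left
      calc (k : G) * z = k * ((k : G)⁻¹ * (z * k * z⁻¹)) * z := by rw [e, mul_one]
        _ = _ := by group
    · right; rw [← e]; group
  have key := q8_module (M := Additive (K' ⧸ center K'))
    (fun v => by
      induction v using QuotientGroup.induction_on with
      | H a =>
      change ((a : K' ⧸ center K') * a) = 1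
      rw [← QuotientGroup.mk_mul, QuotientGroup.eq_one_iff, mem_center_iff]
      intro k
      refine Subtype.ext ?_
      have := hK'.sq a a.2 k k.2
      rw [pow_two] at this
      exact this)
    (MonoidHom.toAdditive X) (MonoidHom.toAdditive Y) (MonoidHom.toAdditive Z)
    (fun v => congrArg (fun f : Monoid.End (K' ⧸ center K') => f v.toMul) hXX)
    (fun v => congrArg (fun f : Monoid.End (K' ⧸ center K') => f v.toMul) hYY)
    (fun v => congrArg (fun f : Monoid.End (K' ⧸ center K') => f v.toMul) hWW)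
    (fun v => congrArg (fun f : Monoid.End (K' ⧸ center K') => f v.toMul) hZZ)
    (fun c c' hc hc' => by
      induction c using QuotientGroup.induction_on with
      | H a =>
      induction c' using QuotientGroup.induction_on with
      | H b =>
      rcases hdich a hc with e | e
      · exact Or.inl (hfix a e)
      rcases hdich b hc' with e' | e'
      · exact Or.inr (Or.inl (hfix b e'))
      refine Or.inr (Or.inr (hfix (a * b) ?_))
      have ht2 : t * t = 1 := by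
        have h4 : z * (z * (a : G) * z⁻¹) * z⁻¹ = a := by
          calc _ = (z * z) * a * (z * z)⁻¹ := by group
            _ = _ := by rw [hzz]; group
        rw [e, ← conj_mul, e, mem_centralizer_singleton_iff.mp hz, mul_inv_cancel_right,
          mul_assoc] at h4
        exact mul_eq_left.mp h4
      have h5 : z * ((a : G) * b) * z⁻¹ = a * b := by
        rw [← conj_mul, e, e', mul_assoc, ← mul_assoc t, ← hK'.zc b.2, mul_assoc, ht2, mul_one]
      exact (mul_inv_eq_iff_eq_mul.mp h5).symm)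
  exact MonoidHom.ext key

end KMCrit

theorem km_hyperplane (hp2 : p ≠ 2) {z : G} {K A : Subgroup G} (hK : KMCrit p z K)
    (hA : IsElementaryAbelian p A) (hAz : A ≤ centralizer {z}) {a : G} (ha : a ∈ A) (ha1 : a ≠ 1) :
    ∃ B : Subgroup G, B ≤ A ∧ B.relIndex A = p ∧
      ∃ d ∈ K ⊓ centralizer (B : Set G), d ∉ centralizer {a} := by
  haveI : Fact (Nat.Prime 2) := ⟨Nat.prime_two⟩
  have hc : CopAct A K := copAct_of_elemAb hA (not_dvd_card_of_pgroup (Ne.symm hp2) hK.pg)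
    (hAz.trans hK.norm)
  by_contra hno
  push Not at hno
  have h1 := hc.le_of_hyperplanes hA (fun e => ha1 (by rw [e] at ha; exact mem_bot.mp ha))
    (H := centralizer {a}) fun B h1 h2 d hd => hno B h1 h2 d hd
  exact ha1 (hK.faith a (hAz ha) (elemAb_pow hA ha) fun k hk =>
    mem_centralizer_singleton_iff.mp (h1 hk))

theorem km_good_succ (hp2 : p ≠ 2) (hL : LC p G) (hL2 : LC 2 G) {r : ℕ} (hr : 3 ≤ r)
    {z : G} (hz : KMGood p r z) : ∃ t : G, KMGood p (r + 1) t := by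
  haveI : Fact (Nat.Prime 2) := ⟨Nat.prime_two⟩
  by_contra hno
  push Not at hno
  obtain ⟨K, hK⟩ := exists_kmCrit hp2 hL hL2 (by omega) hno hz
  obtain ⟨hz1, hz2, A, hA, hk, hzA⟩ := hz
  have hzz : z * z = 1 := by rw [← pow_two, hz2]
  have hAz : A ≤ centralizer {z} := fun a ha => mem_centralizer_singleton_iff.mpr (hzA a ha)
  have hcyc : ∀ W : Subgroup G, W ≤ K → (∀ x ∈ W, ∀ y ∈ W, x * y = y * x) →
      A ≤ normalizer (W : Set G) → W ≤ centralizer (A : Set G) := fun W h1 h2 h3 =>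
    (km_inv_cyclic hp2 hL (by omega) hno hA hk hz1 hz2 hzA (hK.pg.to_le h1) h2 h3
      (h1.trans hK.le)).2.2
  obtain ⟨s, rfl⟩ : ∃ s, r = s + 2 := ⟨r - 2, by omega⟩
  obtain ⟨a₂, ha₂, ha₂1⟩ := exists_mem_ne_one_of_le_card (by omega) hk
  obtain ⟨B₂, hB₂, hi₂, d₂, hd₂, hda₂⟩ := km_hyperplane hp2 hK hA hAz ha₂ ha₂1
  obtain ⟨a₁, ha₁, ha₁1⟩ := exists_mem_ne_one_of_le_card (k := s + 1) (by omega)
    (pow_le_card_of_hyperplane hB₂ hi₂ hk)
  obtain ⟨B₁, hB₁, hi₁, d₁, hd₁, hda₁⟩ := km_hyperplane hp2 hK hA hAz (hB₂ ha₁) ha₁1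
  have hB₀ := pow_le_card_inf_of_hyperplanes hB₁ hB₂ hi₁ hi₂ hk
  obtain ⟨a₃, ha₃, ha₃1⟩ := exists_mem_ne_one_of_le_card (k := s) (by omega) hB₀
  obtain ⟨B₃, hB₃, hi₃, d₃, hd₃, hda₃⟩ := km_hyperplane hp2 hK hA hAz (hB₁ ha₃.1) ha₃1
  obtain ⟨x₁, y₁, hx₁, hy₁, sx₁, sy₁, c₁⟩ := hK.pair hp2 hz1 hz2 hA hAz hcyc hB₁ (hB₂ ha₁) hd₁ hda₁
  obtain ⟨x₂, y₂, hx₂, hy₂, sx₂, sy₂, c₂⟩ := hK.pair hp2 hz1 hz2 hA hAz hcyc hB₂ ha₂ hd₂ hda₂
  obtain ⟨x₃, y₃, hx₃, hy₃, sx₃, sy₃, c₃⟩ :=
    hK.pair hp2 hz1 hz2 hA hAz hcyc hB₃ (hB₁ ha₃.1) hd₃ hda₃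
  have m2 : ∀ g ∈ K ⊓ centralizer (B₂ : Set G), g ∈ K ⊓ centralizer {a₁} := fun g hg =>
    ⟨hg.1, mem_centralizer_singleton_iff.mpr (hg.2 a₁ ha₁).symm⟩
  have xx : x₂ * x₁ = x₁ * x₂ := hx₁.2 _ (m2 _ hx₂.1)
  have xy : y₂ * x₁ = x₁ * y₂ := hx₁.2 _ (m2 _ hy₂.1)
  have yx : x₂ * y₁ = y₁ * x₂ := hy₁.2 _ (m2 _ hx₂.1)
  have yy : y₂ * y₁ = y₁ * y₂ := hy₁.2 _ (m2 _ hy₂.1)
  set u := x₁ * x₂ with hu
  set v := y₁ * y₂ with hv
  have hu2 : u ^ 2 = 1 := by rw [hu, Commute.mul_pow xx.symm, sx₁, sx₂, hzz]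
  have hv2 : v ^ 2 = 1 := by rw [hv, Commute.mul_pow yy.symm, sy₁, sy₂, hzz]
  have huK : u ∈ K := mul_mem hx₁.1.1 hx₂.1.1
  have hvK : v ∈ K := mul_mem hy₁.1.1 hy₂.1.1
  have huv : u * v = v * u := by
    calc u * v = x₁ * (x₂ * y₁) * y₂ := by simp only [hu, hv, mul_assoc]
      _ = (x₁ * y₁) * (x₂ * y₂) := by rw [yx]; simp only [mul_assoc]
      _ = y₁ * x₁ * (z * (y₂ * x₂)) * z := by rw [c₁, c₂]; simp only [mul_assoc]
      _ = y₁ * (x₁ * y₂) * x₂ * (z * z) := by
        rw [← hK.zc (mul_mem hy₂.1.1 hx₂.1.1)]; simp only [mul_assoc]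
      _ = v * u := by rw [← xy, hzz]; simp only [hu, hv, mul_assoc, mul_one]
  have comm_zp : ∀ a b : G, a * b = b * a → ∀ c ∈ zpowers a, ∀ d ∈ zpowers b, c * d = d * c := by
    intro a b h c hc d hd
    obtain ⟨m, rfl⟩ := mem_zpowers_iff.mp hc
    obtain ⟨n, rfl⟩ := mem_zpowers_iff.mp hd
    exact (Commute.zpow_zpow h m n).eq
  have hU₁ : IsElementaryAbelian 2 (zpowers z ⊔ zpowers u : Subgroup G) :=
    elemAb_sup (elemAb_zpowers hz2) (elemAb_zpowers hu2) (comm_zp _ _ (hK.zc huK).symm)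
  have hcen : ∀ g : G, z * g = g * z → u * g = g * u →
      zpowers z ⊔ zpowers u ≤ centralizer {g} := fun g h1 h2 =>
    sup_le (zpowers_le.mpr (mem_centralizer_singleton_iff.mpr h1))
      (zpowers_le.mpr (mem_centralizer_singleton_iff.mpr h2))
  have hU : IsElementaryAbelian 2 (zpowers z ⊔ zpowers u ⊔ zpowers v : Subgroup G) :=
    elemAb_sup hU₁ (elemAb_zpowers hv2) fun a ha b hb => by
      obtain ⟨n, rfl⟩ := mem_zpowers_iff.mp hb
      exact (Commute.zpow_right (mem_centralizer_singleton_iff.mp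
        (hcen v (hK.zc hvK).symm huv ha)) n).eq
  have ne1 : x₁ * y₁ ≠ y₁ * x₁ := fun e => hz1 (by rw [e] at c₁; exact mul_eq_left.mp c₁.symm)
  have hcard : 2 ^ 3 ≤ Nat.card (zpowers z ⊔ zpowers u ⊔ zpowers v : Subgroup G) := by
    refine pow_succ_le_card_sup (elemAb_pgroup hU) (fun h => ne1 ?_)
      (pow_succ_le_card_sup (k := 1) (elemAb_pgroup hU₁) (fun h => ne1 ?_) ?_)
    · have h1 : v * x₁ = x₁ * v := mem_centralizer_singleton_iff.mp
        (hcen x₁ (hK.zc hx₁.1.1).symm (by rw [hu, mul_assoc, xx]) h)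
      rw [hv, mul_assoc, xy, ← mul_assoc, ← mul_assoc] at h1
      exact (mul_right_cancel h1).symm
    · have h1 : u * y₁ = y₁ * u := mem_centralizer_singleton_iff.mp
        (zpowers_le.mpr (mem_centralizer_singleton_iff.mpr (hK.zc hy₁.1.1).symm) h)
      rw [hu, mul_assoc, yx, ← mul_assoc, ← mul_assoc] at h1
      exact mul_right_cancel h1
    · rw [Nat.card_zpowers, orderOf_eq_prime hz2 hz1]; norm_num
  set U : Subgroup G := zpowers z ⊔ zpowers u ⊔ zpowers v with hUdef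
  have hB₀A : B₁ ⊓ B₂ ≤ A := inf_le_left.trans hB₁
  have hUle : U ≤ K ⊓ centralizer ((B₁ ⊓ B₂ : Subgroup G) : Set G) := by
    have l1 : K ⊓ centralizer (B₁ : Set G) ≤ K ⊓ centralizer ((B₁ ⊓ B₂ : Subgroup G) : Set G) :=
      inf_le_inf_left _ (centralizer_le (SetLike.coe_subset_coe.mpr inf_le_left))
    have l2 : K ⊓ centralizer (B₂ : Set G) ≤ K ⊓ centralizer ((B₁ ⊓ B₂ : Subgroup G) : Set G) :=
      inf_le_inf_left _ (centralizer_le (SetLike.coe_subset_coe.mpr inf_le_right))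
    refine sup_le (sup_le (zpowers_le.mpr ⟨hK.mem, ?_⟩) (zpowers_le.mpr ?_)) (zpowers_le.mpr ?_)
    · exact centralizer_le (SetLike.coe_subset_coe.mpr hB₀A) hzA
    · exact mul_mem (l1 hx₁.1) (l2 hx₂.1)
    · exact mul_mem (l1 hy₁.1) (l2 hy₂.1)
  obtain ⟨H, B', w, hHU, hHi, -, hw1, hwp, hzw, hwH, hB', hk', hHB'⟩ :=
    km_step hp2 hL (elemAb_mono hA hB₀A) (ne_bot_of_pow_le_card (k := s) (by omega) hB₀) hU
      (hUle.trans inf_le_right) (mem_sup_left (mem_sup_left (mem_zpowers z))) hz1 hB₀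
  obtain ⟨t, ht, htg⟩ := km_steps hp2 hL 1 hB' (Nat.succ_ne_zero s) hk' (elemAb_mono hU hHU) hHB'
    (pow_le_card_of_hyperplane hHU hHi hcard)
  obtain ⟨K', hK'⟩ := exists_kmCrit hp2 hL hL2 (by omega) hno htg
  have htm : t ∈ K ⊓ centralizer {a₃} := ⟨(hUle (hHU ht)).1,
    mem_centralizer_singleton_iff.mpr ((hUle (hHU ht)).2 a₃ ha₃).symm⟩
  exact hK.final hK' hp2 hz2 htm.1 (mem_centralizer_singleton_iff.mpr (hwH t ht).symm) hw1 hwp hzw
    hx₃.1.1 hy₃.1.1 (mem_centralizer_singleton_iff.mpr (hx₃.2 t htm).symm)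
    (mem_centralizer_singleton_iff.mpr (hy₃.2 t htm).symm) sx₃ sy₃ c₃

theorem km_not_good (hp2 : p ≠ 2) (hL : LC p G) (hL2 : LC 2 G) (z : G) : ¬ KMGood p 3 z := by
  intro hz
  have h : ∀ n : ℕ, ∃ t : G, KMGood p (n + 3) t := by
    intro n
    induction n with
    | zero => exact ⟨z, hz⟩
    | succ n ih =>
      obtain ⟨t, ht⟩ := ih
      exact km_good_succ hp2 hL hL2 (by omega) ht
  obtain ⟨t, -, -, A, -, hA, -⟩ := h (Nat.card G)
  have h1 := card_le_card_group A
  have h2 := Nat.lt_pow_self (n := Nat.card G + 3) hp.out.one_lt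
  omega

/-- The Klinger–Mason theorem. -/
theorem klinger_mason (hp2 : p ≠ 2) (hL : LC p G) (hL2 : LC 2 G) {T A : Subgroup G}
    (hT : IsPGroup 2 T) (hT1 : T ≠ ⊥) (hA : IsElementaryAbelian p A)
    (hAT : A ≤ normalizer (T : Set G)) : ¬ p ^ 3 ≤ Nat.card A := by
  haveI : Fact (Nat.Prime 2) := ⟨Nat.prime_two⟩
  intro hk
  let V : Subgroup G :=
    { carrier := {x | x ∈ T ⊓ centralizer (T : Set G) ∧ x ^ 2 = 1}
      mul_mem' := fun {a b} ha hb => ⟨mul_mem ha.1 hb.1, by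
        rw [Commute.mul_pow (hb.1.2 a ha.1.1), ha.2, hb.2, one_mul]⟩
      one_mem' := ⟨one_mem _, one_pow _⟩
      inv_mem' := fun {a} ha => ⟨inv_mem ha.1, by rw [inv_pow, ha.2, inv_one]⟩ }
  have hV : IsElementaryAbelian 2 V := H9.isElementaryAbelian_two_iff.mpr fun a ha => ha.2
  have hAV : A ≤ normalizer (V : Set G) := fun a ha =>
    H9.mem_normalizer_of_conj_mem fun x hx =>
      ⟨conj_mem_of_le_normalizer (le_normalizer_inf hAT (le_normalizer_centralizer hAT)) ha hx.1,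
        by rw [conj_pow, hx.2]; group⟩
  have hV1 : V ≠ ⊥ := by
    obtain ⟨x, hx, ho, -, hc⟩ := H9.exists_orderOf_centralized hT hT le_normalizer hT1
    intro e
    have : x ∈ V := ⟨⟨hx, hc⟩, by rw [← ho, pow_orderOf_eq_one]⟩
    rw [e, mem_bot] at this
    simp [this] at ho
  have hc : CopAct A V :=
    copAct_of_elemAb hA (not_dvd_card_of_pgroup (Ne.symm hp2) (elemAb_pgroup hV)) hAV
  obtain ⟨B, hBA, hBi, hne⟩ := hc.exists_hyperplane_inf_centralizer_ne_bot hA
    (ne_bot_of_pow_le_card (by norm_num) hk)  hV1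
  obtain ⟨⟨u, hu⟩, hu1⟩ := ne_bot_iff_exists_ne_one.mp hne
  have hu1' : u ≠ 1 := fun e => hu1 (Subtype.ext e)
  by_cases huA : u ∈ centralizer (A : Set G)
  · exact km_not_good hp2 hL hL2 u ⟨hu1', hu.1.2, A, hA, hk, huA⟩
  · obtain ⟨a, ha, hau⟩ : ∃ a ∈ A, a * u ≠ u * a := by
      by_contra hh; push Not at hh; exact huA hh
    have hVB : IsElementaryAbelian 2 (V ⊓ centralizer (B : Set G) : Subgroup G) :=
      elemAb_mono hV inf_le_left
    have hmem : a * u * a⁻¹ ∈ V ⊓ centralizer (B : Set G) :=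
      conj_mem_of_le_normalizer (le_normalizer_inf hAV
        (le_normalizer_centralizer (le_normalizer_of_comm (elemAb_comm hA) hBA))) ha hu
    obtain ⟨t, -, ht⟩ := km_steps hp2 hL 1 (elemAb_mono hA hBA) (k := 2) (by omega)
      (pow_le_card_of_hyperplane hBA hBi hk) hVB inf_le_right
      (four_le_card hVB hu hmem hu1' (by simpa [mul_inv_eq_iff_eq_mul] using hu1')
        (fun e => hau (mul_inv_eq_iff_eq_mul.mp e)))
    exact km_not_good hp2 hL hL2 t ht

end Cfsg.Agent.H5
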