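import Cfsg.Agent.H5.RankOne
import Mathlib.LinearAlgebra.Matrix.GeneralLinearGroup.Card

/-!
# The two double covers of `S₄` with normal `Q₈`
-/

set_option autoImplicit false

namespace Cfsg.Agent.H5

open Subgroup

variable {G : Type*} [Group G]

/-- The graph trick: a subgroup of a product projecting bijectively on the first factor is the
graph of a homomorphism. -/
theorem exists_hom_of_graph [Finite G] {Y : Type*} [Group Y] (H : Subgroup (G × Y)) [Finite H]
    (h1 : H.map (MonoidHom.fst G Y) = ⊤) (h2 : Nat.card H ≤ Nat.card G) :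
    ∃ φ : G →* Y, ∀ z ∈ H, φ z.1 = z.2 := by
  let π : H →* G := (MonoidHom.fst G Y).comp H.subtype
  have hs : Function.Surjective π := by
    intro g
    obtain ⟨z, hz, rfl⟩ : g ∈ H.map (MonoidHom.fst G Y) := h1 ▸ mem_top g
    exact ⟨⟨z, hz⟩, rfl⟩
  have hb : Function.Bijective π :=
    (Nat.bijective_iff_surjective_and_card π).mpr
      ⟨hs, le_antisymm h2 (Nat.card_le_card_of_surjective π hs)⟩
  let e := MulEquiv.ofBijective π hb
  refine ⟨((MonoidHom.snd G Y).comp H.subtype).comp e.symm.toMonoidHom, fun z hz => ?_⟩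
  have : e.symm z.1 = ⟨z, hz⟩ := by rw [MulEquiv.symm_apply_eq]; rfl
  change ((e.symm z.1 : H) : G × Y).2 = z.2
  rw [this]

/-- Relations in a double cover of `S₄`. -/
structure Rel48 (i j d t : G) : Prop where
  i4 : i ^ 4 = 1
  j2 : j ^ 2 = i ^ 2
  ji : j * i * j⁻¹ = i⁻¹
  d3 : d ^ 3 = 1
  di : d * i * d⁻¹ = j
  dj : d * j * d⁻¹ = i * j
  ti : t * i * t⁻¹ = i⁻¹
  tj : t * j * t⁻¹ = (i * j)⁻¹
  td : t * d * t⁻¹ = d⁻¹

theorem Rel48.prod {Y : Type*} [Group Y] {i j d t : G} {i' j' d' t' : Y} (h : Rel48 i j d t)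
    (h' : Rel48 i' j' d' t') : Rel48 (i, i') (j, j') (d, d') (t, t') :=
  ⟨Prod.ext h.i4 h'.i4, Prod.ext h.j2 h'.j2, Prod.ext h.ji h'.ji, Prod.ext h.d3 h'.d3,
    Prod.ext h.di h'.di, Prod.ext h.dj h'.dj, Prod.ext h.ti h'.ti, Prod.ext h.tj h'.tj,
    Prod.ext h.td h'.td⟩

theorem mem_normalizer_sup_zpowers [Finite G] {a b g : G} {H : Subgroup G}
    (hH : H = zpowers a ⊔ zpowers b) (ha : g * a * g⁻¹ ∈ H) (hb : g * b * g⁻¹ ∈ H) :
    g ∈ normalizer (H : Set G) := by
  apply H8.mem_normalizer_of_cj_le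
  conv_lhs => rw [hH]
  rw [H8.cj_sup]
  refine sup_le ?_ ?_ <;> rw [H8.cj, MonoidHom.map_zpowers]
  · exact zpowers_le_of_mem ha
  · exact zpowers_le_of_mem hb

namespace Rel48

variable {i j d t : G}

theorem orderOf_i (h : Rel48 i j d t) (hi : i ^ 2 ≠ 1) : orderOf i = 4 :=
  orderOf_eq_prime_pow (p := 2) (n := 1) (by simpa using hi) (by simpa using h.i4)

theorem not_commute (h : Rel48 i j d t) (hi : i ^ 2 ≠ 1) : j * i ≠ i * j := by
  intro e
  have := h.ji
  rw [e, mul_inv_cancel_right] at this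
  exact hi (by rw [sq]; nth_rewrite 2 [this]; exact mul_inv_cancel i)

theorem j_not_mem (h : Rel48 i j d t) (hi : i ^ 2 ≠ 1) : j ∉ zpowers i := by
  rintro ⟨k, hk⟩
  apply h.not_commute hi
  rw [← hk]; exact (Commute.self_zpow i k).symm

theorem card_closure [Finite G] (h : Rel48 i j d t) (hi : i ^ 2 ≠ 1)
    (ht : t ^ 2 = 1 ∨ t ^ 2 = i ^ 2) :
    Nat.card ↥(zpowers i ⊔ zpowers j ⊔ zpowers d ⊔ zpowers t) = 48 := by
  obtain ⟨e⟩ := nonempty_equiv_quaternion (n := 2) (h.orderOf_i hi) (h.j_not_mem hi) h.j2 h.ji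
  set Q := zpowers i ⊔ zpowers j with hQ
  have hiQ : i ∈ Q := mem_sup_left (mem_zpowers i)
  have hjQ : j ∈ Q := mem_sup_right (mem_zpowers j)
  have c1 : Nat.card Q = 8 := by
    rw [Nat.card_congr e.toEquiv, Nat.card_eq_fintype_card, QuaternionGroup.card]
  have hdN : d ∈ normalizer (Q : Set G) :=
    mem_normalizer_sup_zpowers hQ (h.di ▸ hjQ) (h.dj ▸ mul_mem hiQ hjQ)
  have htN : t ∈ normalizer (Q : Set G) :=
    mem_normalizer_sup_zpowers hQ (h.ti ▸ inv_mem hiQ) (h.tj ▸ inv_mem (mul_mem hiQ hjQ))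
  have hdQ : d ∉ Q := by
    intro hd
    have h8 : d ^ 8 = 1 := by
      rw [← c1]; exact congrArg Subtype.val (pow_card_eq_one' (x := (⟨d, hd⟩ : Q)))
    have hd1 : d = 1 := by
      calc d = d ^ 9 * (d ^ 8)⁻¹ := by group
        _ = (d ^ 3) ^ 3 * (d ^ 8)⁻¹ := by rw [← pow_mul]
        _ = 1 := by rw [h.d3, h8]; simp
    have := h.di
    rw [hd1] at this
    apply h.not_commute hi
    have e2 : i = j := by simpa using this
    rw [e2]
  haveI : Fact (Nat.Prime 3) := ⟨Nat.prime_three⟩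
  have c2 := card_sup_zpowers (p := 3) hdN hdQ (h.d3 ▸ one_mem _)
  have htM : t ∈ normalizer ((Q ⊔ zpowers d : Subgroup G) : Set G) := by
    apply H8.mem_normalizer_of_cj_le
    rw [H8.cj_sup, H8.cj_eq_self htN, H8.cj, MonoidHom.map_zpowers]
    refine sup_le_sup_left (zpowers_le_of_mem ?_) _
    change t * d * t⁻¹ ∈ _
    rw [h.td]; exact inv_mem (mem_zpowers d)
  have htM' : t ∉ Q ⊔ zpowers d := by
    intro ht'
    obtain ⟨q, hq, k, e1⟩ := (mem_sup_zpowers hdN).mp ht'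
    have e2 : q * (d * q⁻¹ * d⁻¹) = d⁻¹ * d⁻¹ := by
      have : Commute (d ^ k) d := (Commute.self_zpow d k).symm
      calc q * (d * q⁻¹ * d⁻¹) = q * (d * d ^ k) * (d ^ k)⁻¹ * q⁻¹ * d⁻¹ := by group
        _ = q * d ^ k * d * (q * d ^ k)⁻¹ * d⁻¹ := by rw [← this.eq]; group
        _ = _ := by rw [e1, h.td]
    have e3 : d⁻¹ * d⁻¹ = d := by
      calc d⁻¹ * d⁻¹ = d * (d ^ 3)⁻¹ := by group
        _ = d := by rw [h.d3]; simp
    apply hdQ
    rw [← e3, ← e2]
    exact mul_mem hq (H9.conj_mem_of_mem_normalizer hdN (inv_mem hq))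
  have c3 := card_sup_zpowers (p := 2) htM htM' (by
    rcases ht with ht | ht <;> rw [ht]
    · exact one_mem _
    · exact mem_sup_left (pow_mem hiQ 2))
  rw [c3, c2, c1]

theorem exists_hom [Finite G] {Y : Type*} [Group Y] [Finite Y] {i' j' d' t' : Y}
    (h : Rel48 i j d t) (hi : i ^ 2 ≠ 1) (hG : Nat.card G = 48) (h' : Rel48 i' j' d' t')
    (ht : (t ^ 2 = 1 ∧ t' ^ 2 = 1) ∨ (t ^ 2 = i ^ 2 ∧ t' ^ 2 = i' ^ 2)) :
    ∃ φ : G →* Y, φ i = i' ∧ φ j = j' ∧ φ d = d' ∧ φ t = t' := by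
  have c := (h.prod h').card_closure (fun e => hi (congrArg Prod.fst e)) (by
    rcases ht with ⟨h1, h2⟩ | ⟨h1, h2⟩
    · exact Or.inl (Prod.ext h1 h2)
    · exact Or.inr (Prod.ext h1 h2))
  have c' := h.card_closure hi (by tauto)
  obtain ⟨φ, hφ⟩ := exists_hom_of_graph
    (zpowers (i, i') ⊔ zpowers (j, j') ⊔ zpowers (d, d') ⊔ zpowers (t, t')) (by
      simp only [Subgroup.map_sup, MonoidHom.map_zpowers]
      exact eq_top_of_card_eq _ (c'.trans hG.symm)) (by rw [c, hG])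
  exact ⟨φ, hφ _ (mem_sup_left (mem_sup_left (mem_sup_left (mem_zpowers _)))),
    hφ _ (mem_sup_left (mem_sup_left (mem_sup_right (mem_zpowers _)))),
    hφ _ (mem_sup_left (mem_sup_right (mem_zpowers _))), hφ _ (mem_sup_right (mem_zpowers _))⟩

theorem nonempty_equiv_GL [Finite G] (h : Rel48 i j d t) (hi : i ^ 2 ≠ 1) (hG : Nat.card G = 48)
    (ht : t ^ 2 = 1) : Nonempty (G ≃* GL (Fin 2) (ZMod 3)) := by
  let i' : GL (Fin 2) (ZMod 3) := ⟨!![0, 1; 2, 0], !![0, 2; 1, 0], by decide, by decide⟩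
  let j' : GL (Fin 2) (ZMod 3) := ⟨!![1, 1; 1, 2], !![2, 2; 2, 1], by decide, by decide⟩
  let d' : GL (Fin 2) (ZMod 3) := ⟨!![0, 1; 2, 2], !![2, 2; 1, 0], by decide, by decide⟩
  let t' : GL (Fin 2) (ZMod 3) := ⟨!![0, 1; 1, 0], !![0, 1; 1, 0], by decide, by decide⟩
  have h' : Rel48 i' j' d' t' := by
    constructor <;> exact Units.ext (by decide)
  have hi' : i' ^ 2 ≠ 1 := fun e => absurd (congrArg Units.val e) (by decide)
  have ht' : t' ^ 2 = 1 := Units.ext (by decide)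
  have hc : Nat.card (GL (Fin 2) (ZMod 3)) = 48 := by
    haveI : Fact (Nat.Prime 3) := ⟨Nat.prime_three⟩
    rw [Matrix.card_GL_field]; simp [Fin.prod_univ_two]
  obtain ⟨φ, h1, h2, h3, h4⟩ := h.exists_hom hi hG h' (Or.inl ⟨ht, ht'⟩)
  have hs : Function.Surjective φ := by
    rw [← MonoidHom.range_eq_top, eq_top_iff,
      ← eq_top_of_card_eq _ ((h'.card_closure hi' (Or.inl ht')).trans hc.symm)]
    exact sup_le (sup_le (sup_le (zpowers_le_of_mem ⟨i, h1⟩) (zpowers_le_of_mem ⟨j, h2⟩))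
      (zpowers_le_of_mem ⟨d, h3⟩)) (zpowers_le_of_mem ⟨t, h4⟩)
  exact ⟨MulEquiv.ofBijective φ ((Nat.bijective_iff_surjective_and_card φ).mpr
    ⟨hs, hG.trans hc.symm⟩)⟩

theorem center_and_quotient [Finite G] (h : Rel48 i j d t) (hi : i ^ 2 ≠ 1) (hG : Nat.card G = 48)
    (ht : t ^ 2 = 1 ∨ t ^ 2 = i ^ 2) :
    Nat.card (center G) = 2 ∧ Nonempty (G ⧸ center G ≃* Equiv.Perm (Fin 4)) := by
  let i' : Equiv.Perm (Fin 4) := Equiv.swap 0 1 * Equiv.swap 2 3
  let j' : Equiv.Perm (Fin 4) := Equiv.swap 0 2 * Equiv.swap 1 3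
  let d' : Equiv.Perm (Fin 4) := Equiv.swap 1 2 * Equiv.swap 2 3
  let t' : Equiv.Perm (Fin 4) := Equiv.swap 2 3
  have h' : Rel48 i' j' d' t' := by constructor <;> decide
  obtain ⟨φ, h1, h2, h3, h4⟩ := h.exists_hom hi hG h' (by
    rcases ht with ht | ht
    · exact Or.inl ⟨ht, by decide⟩
    · exact Or.inr ⟨ht, by decide⟩)
  have hs : Function.Surjective φ := by
    intro σ
    have : ∀ σ : Equiv.Perm (Fin 4), ∃ (a b e : Fin 2) (c : Fin 3),
        σ = i' ^ a.val * j' ^ b.val * d' ^ c.val * t' ^ e.val := by decide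
    obtain ⟨a, b, e, c, rfl⟩ := this σ
    exact ⟨i ^ a.val * j ^ b.val * d ^ c.val * t ^ e.val, by simp [h1, h2, h3, h4]⟩
  have hk : Nat.card φ.ker = 2 := by
    have := φ.ker.card_mul_index
    rw [index_ker, MonoidHom.range_eq_top.mpr hs, card_top, Nat.card_perm, hG] at this
    rw [Nat.card_eq_fintype_card (α := Fin 4), Fintype.card_fin, show Nat.factorial 4 = 24 from rfl]
      at this
    omega
  have hle : center G ≤ φ.ker := by
    intro z hz
    have : ∀ σ : Equiv.Perm (Fin 4), (∀ τ, τ * σ = σ * τ) → σ = 1 := by decide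
    refine this _ fun τ => ?_
    obtain ⟨g, rfl⟩ := hs τ
    rw [← map_mul, mem_center_iff.mp hz g, map_mul]
  have hz : i ^ 2 ∈ center G := by
    have htop := eq_top_of_card_eq _ ((h.card_closure hi ht).trans hG.symm)
    have : (⊤ : Subgroup G) ≤ centralizer {i ^ 2} := by
      rw [← htop]
      have hinv : (i ^ 2)⁻¹ = i ^ 2 := by
        rw [inv_eq_iff_mul_eq_one, ← pow_add, h.i4]
      refine sup_le (sup_le (sup_le ?_ ?_) ?_) ?_ <;> apply zpowers_le_of_mem <;>
        rw [mem_centralizer_singleton_iff]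
      · group
      · rw [← h.j2]; group
      · rw [← mul_inv_eq_iff_eq_mul, ← conj_pow, h.di, h.j2]
      · rw [← mul_inv_eq_iff_eq_mul, ← conj_pow, h.ti, inv_pow, hinv]
    rw [mem_center_iff]
    exact fun g => mem_centralizer_singleton_iff.mp (this (mem_top g))
  have heq : center G = φ.ker := by
    refine eq_of_le_of_card_le hle ?_
    rw [hk]
    exact (center G).one_lt_card_iff_ne_bot.mpr fun h0 => hi (mem_bot.mp (h0 ▸ hz))
  refine ⟨heq ▸ hk, ⟨(QuotientGroup.quotientMulEquivOfEq heq).trans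
    (QuotientGroup.quotientKerEquivOfSurjective φ hs)⟩⟩

theorem sylow_equiv_quaternion [Finite G] (h : Rel48 i j d t) (hi : i ^ 2 ≠ 1)
    (hG : Nat.card G = 48) (ht : t ^ 2 = i ^ 2) (P : Sylow 2 G) :
    Nonempty ((P : Subgroup G) ≃* QuaternionGroup 4) := by
  have a2 : (j * t) ^ 2 = i := by
    calc (j * t) ^ 2 = j * (t * j * t⁻¹) * t ^ 2 := by simp only [sq]; group
      _ = i := by rw [h.tj, ht]; group
  have a4 : (j * t) ^ 4 = i ^ 2 := by rw [← a2, ← pow_mul]
  have ha : orderOf (j * t) = 2 * 4 :=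
    orderOf_eq_prime_pow (p := 2) (n := 2) (by rw [show 2 ^ 2 = 4 from rfl, a4]; exact hi)
      (by rw [show 2 ^ (2 + 1) = 2 * 4 from rfl, pow_mul, a2, h.i4])
  obtain ⟨e⟩ := nonempty_equiv_quaternion (n := 4) (b := j) ha (by
      rintro ⟨k, hk⟩
      apply h.not_commute hi
      rw [← hk, ← a2]
      exact ((Commute.self_zpow (j * t) k).pow_left 2).symm) (by rw [a4, h.j2]) (by
      calc j * (j * t) * j⁻¹ = j ^ 2 * t ^ 2 * t⁻¹ * j⁻¹ := by simp only [sq]; group
        _ = _ := by rw [h.j2, ht, ← pow_add, h.i4]; group)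
  have hc : Nat.card ↥(zpowers (j * t) ⊔ zpowers j) = 2 ^ (Nat.card G).factorization 2 := by
    rw [Nat.card_congr e.toEquiv, Nat.card_eq_fintype_card, QuaternionGroup.card, hG,
      show 48 = 2 ^ 4 * 3 from rfl, Nat.factorization_mul (by norm_num) (by norm_num),
      Nat.Prime.factorization_pow Nat.prime_two, Nat.Prime.factorization Nat.prime_three]
    simp
  exact ⟨(Sylow.equiv P (Sylow.ofCard _ hc)).trans e⟩

end Rel48

theorem quaternion_aut_gens (δ τ : MulAut (QuaternionGroup 2)) (h1 : δ ^ 3 = 1) (h2 : δ ≠ 1)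
    (h3 : τ * δ * τ⁻¹ = δ⁻¹) (h4 : τ ^ 2 = 1) :
    ∃ i, i ^ 2 ≠ 1 ∧ δ i * i * (δ i)⁻¹ = i⁻¹ ∧ δ (δ i) = i * δ i ∧ τ i = i⁻¹ ∧
      τ (δ i) = (i * δ i)⁻¹ := by
  let h : QuaternionGroup 2 → QuaternionGroup 2 → QuaternionGroup 2 → QuaternionGroup 2 :=
    fun u v x => match x with
      | .a n => u ^ n.val
      | .xa n => v * u ^ n.val
  have hh : ∀ σ : MulAut (QuaternionGroup 2), ∀ x, σ x = h (σ (.a 1)) (σ (.xa 0)) x := by
    intro σ x
    have : ∀ x, x = h (.a 1) (.xa 0) x := by decide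
    conv_lhs => rw [this x]
    rcases x with n | n <;> simp only [h, map_mul, map_pow]
  have key : ∀ u v : QuaternionGroup 2, u * v ≠ v * u → (∀ x, h u v (h u v (h u v x)) = x) →
      (∃ x, h u v x ≠ x) → ∀ u' v' : QuaternionGroup 2, u' * v' ≠ v' * u' →
      (∀ x, h u' v' (h u' v' x) = x) → (∀ x, h u v (h u' v' (h u v x)) = h u' v' x) →
      ∃ i, i ^ 2 ≠ 1 ∧ h u v i * i * (h u v i)⁻¹ = i⁻¹ ∧ h u v (h u v i) = i * h u v i ∧
        h u' v' i = i⁻¹ ∧ h u' v' (h u v i) = (i * h u v i)⁻¹ := by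
    decide
  have nc : ∀ σ : MulAut (QuaternionGroup 2), σ (.a 1) * σ (.xa 0) ≠ σ (.xa 0) * σ (.a 1) := by
    intro σ
    rw [← map_mul, ← map_mul, Ne, σ.apply_eq_iff_eq]; decide
  have := key (δ (.a 1)) (δ (.xa 0)) (nc δ) (fun x => by
      simp only [← hh]
      have := congrArg (fun σ : MulAut (QuaternionGroup 2) => σ x) h1
      simpa [pow_succ] using this)
    (by
      by_contra hc
      push Not at hc
      exact h2 (MulEquiv.ext fun x => by rw [hh δ x, hc x]; rfl))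
    (τ (.a 1)) (τ (.xa 0)) (nc τ) (fun x => by
      simp only [← hh]
      have := congrArg (fun σ : MulAut (QuaternionGroup 2) => σ x) h4
      simpa [pow_succ] using this) (fun x => by
      simp only [← hh]
      have h5 : δ * τ * δ = τ := by
        calc δ * τ * δ = δ * (τ * δ * τ⁻¹) * τ := by group
          _ = τ := by rw [h3]; group
      exact congrArg (fun σ : MulAut (QuaternionGroup 2) => σ x) h5)
  simpa only [← hh] using this

theorem quaternion_aut_fixed (δ : MulAut (QuaternionGroup 2)) (h1 : δ ^ 3 = 1) (h2 : δ ≠ 1)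
    (y : QuaternionGroup 2) (hy : δ y = y) : ∀ x, x * y = y * x := by
  let h : QuaternionGroup 2 → QuaternionGroup 2 → QuaternionGroup 2 → QuaternionGroup 2 :=
    fun u v x => match x with
      | .a n => u ^ n.val
      | .xa n => v * u ^ n.val
  have hh : ∀ σ : MulAut (QuaternionGroup 2), ∀ x, σ x = h (σ (.a 1)) (σ (.xa 0)) x := by
    intro σ x
    have : ∀ x, x = h (.a 1) (.xa 0) x := by decide
    conv_lhs => rw [this x]
    rcases x with n | n <;> simp only [h, map_mul, map_pow]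
  have key : ∀ u v : QuaternionGroup 2, (∀ x, h u v (h u v (h u v x)) = x) →
      (∃ x, h u v x ≠ x) → ∀ y, h u v y = y → ∀ x, x * y = y * x := by
    decide
  exact key (δ (.a 1)) (δ (.xa 0)) (fun x => by
      simp only [← hh]
      have := congrArg (fun σ : MulAut (QuaternionGroup 2) => σ x) h1
      simpa [pow_succ] using this)
    (by
      by_contra hc
      push Not at hc
      exact h2 (MulEquiv.ext fun x => by rw [hh δ x, hc x]; rfl)) y (by rw [← hh, hy])

theorem exists_rel48 [Finite G] (hc : centralizer (pCore 2 G : Set G) ≤ pCore 2 G)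
    (e : pCore 2 G ≃* QuaternionGroup 2) (hle : Nat.card G ≤ 48)
    (hn : ¬ ∃ P : Sylow 2 G, (P : Subgroup G).Normal) :
    Nat.card G = 48 ∧ ∃ i j d t : G, Rel48 i j d t ∧ i ^ 2 ≠ 1 ∧ (t ^ 2 = 1 ∨ t ^ 2 = i ^ 2) := by
  set Q := pCore 2 G with hQ
  have hQ2 : IsPGroup 2 Q := L0.pCore_isPGroup
  have cQ : Nat.card Q = 8 := by
    rw [Nat.card_congr e.toEquiv, Nat.card_eq_fintype_card, QuaternionGroup.card]
  have hG : Nat.card G = 48 := by
    obtain ⟨S⟩ : Nonempty (Sylow 2 G) := inferInstance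
    have h1 : Q < S := lt_of_le_of_ne (L0.pCore_le_sylow S) fun h => hn ⟨S, h ▸ inferInstance⟩
    obtain ⟨k, hk⟩ := S.2.exists_card_eq
    have h2 := card_lt_of_lt h1
    rw [cQ, hk, show 8 = 2 ^ 3 from rfl, Nat.pow_lt_pow_iff_right one_lt_two] at h2
    have h3 : 16 ∣ Nat.card G := ((pow_dvd_pow 2 h2).trans (hk ▸ card_subgroup_dvd_card _))
    obtain ⟨m, hm⟩ := h3
    have h4 : 0 < Nat.card G := Nat.card_pos
    have h5 : m = 1 ∨ m = 2 ∨ m = 3 := by omega
    rcases h5 with rfl | rfl | rfl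
    · exact absurd (exists_normal_sylow_of_isPGroup (IsPGroup.of_card (n := 4) hm)) hn
    · exact absurd (exists_normal_sylow_of_isPGroup (IsPGroup.of_card (n := 5) hm)) hn
    · exact hm
  refine ⟨hG, ?_⟩
  haveI : Fact (Nat.Prime 3) := ⟨Nat.prime_three⟩
  obtain ⟨d, hd⟩ := exists_prime_orderOf_dvd_card' (G := G) 3 (by rw [hG]; norm_num)
  have hd3 : d ^ 3 = 1 := hd ▸ pow_orderOf_eq_one d
  have hdQ : d ∉ Q := fun h => by
    have := Q.orderOf_dvd_natCard h
    rw [hd, cQ] at this; omega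
  have hN : ∀ g : G, g ∈ normalizer (Q : Set G) := fun g => by
    rw [normalizer_eq_top]; exact mem_top g
  set M := Q ⊔ zpowers d with hM
  have cM : Nat.card M = 24 := by rw [hM, card_sup_zpowers (p := 3) (hN d) hdQ (hd3 ▸ one_mem _), cQ]
  have iM : M.index = 2 := by
    have := M.card_mul_index
    rw [cM, hG] at this; omega
  haveI : M.Normal := normal_of_index_eq_two iM
  have hD : H8.IsSylowIn 3 (zpowers d) M := by
    refine H8.IsSylowIn.of_not_dvd_relIndex le_sup_right (H9.isPGroup_zpowers ⟨1, by simpa using hd3⟩) ?_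
    have := card_mul_relIndex_of_le (K := M) (H := zpowers d) le_sup_right
    rw [cM, Nat.card_zpowers, hd] at this
    have h8 : (zpowers d).relIndex M = 8 := by omega
    rw [h8]; norm_num
  obtain ⟨g, hg⟩ : ∃ g, g ∉ M := by
    by_contra h
    push Not at h
    rw [(eq_top_iff' M).mpr h, index_top] at iM; omega
  obtain ⟨k, hk, hkg⟩ := hD.frattini (g := g) (by rw [normalizer_eq_top]; exact mem_top g)
  obtain ⟨m, hm, ht2⟩ := H9.exists_coprime_pow_pElement (p := 2) (k * g)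
  set t := (k * g) ^ m with ht
  have htN : t ∈ normalizer (zpowers d : Set G) := pow_mem hkg m
  have htM : t ∉ M := by
    intro h
    obtain ⟨r, hr⟩ : ∃ r, m = 2 * r + 1 := ⟨m / 2, by omega⟩
    rw [ht, hr, pow_succ, pow_mul] at h
    have := (mul_mem_cancel_left (pow_mem (sq_mem_of_index_two iM _) r)).mp h
    exact hg ((mul_mem_cancel_left hk).mp this)
  have htd : t * d * t⁻¹ = d⁻¹ := by
    have h1 := H9.conj_mem_of_mem_normalizer htN (mem_zpowers d)
    have h2 : t * d * t⁻¹ = d ∨ t * d * t⁻¹ = d⁻¹ := by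
      classical
      rw [mem_zpowers_iff_mem_range_orderOf, hd] at h1
      obtain ⟨n, hn1, hn2⟩ := Finset.mem_image.mp h1
      have : n < 3 := Finset.mem_range.mp hn1
      interval_cases n
      · exfalso
        have : d = 1 := by simpa using hn2.symm
        rw [this, orderOf_one] at hd; omega
      · left; simpa using hn2.symm
      · right; rw [← hn2, eq_inv_iff_mul_eq_one, ← pow_succ, hd3]
    refine h2.resolve_left fun h3 => htM (mem_sup_left ?_)
    have hR : IsPGroup 2 ↥(Q ⊔ zpowers t) :=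
      IsPGroup.to_sup_of_normal_left hQ2 (H9.isPGroup_zpowers ht2)
    refine L0.le_pCore (N := Q ⊔ zpowers t) ?_ hR (mem_sup_right (mem_zpowers t))
    have htop : M ⊔ zpowers t = ⊤ := sup_zpowers_eq_top_of_index_prime Nat.prime_two iM htM
    rw [← normalizer_eq_top_iff, eq_top_iff, ← htop]
    refine sup_le (sup_le (le_sup_left.trans le_normalizer) (zpowers_le_of_mem ?_))
      (le_sup_right.trans le_normalizer)
    apply H8.mem_normalizer_of_cj_le
    rw [H8.cj_sup, H8.cj_eq_self (hN d), H8.cj, MonoidHom.map_zpowers]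
    refine sup_le_sup_left (zpowers_le_of_mem ?_) _
    change d * t * d⁻¹ ∈ _
    rw [← mul_inv_eq_iff_eq_mul.mp h3, mul_inv_cancel_right]; exact mem_zpowers t
  have ht2Q : t ^ 2 ∈ Q := by
    refine L0.le_of_le_sup_of_coprime (A := Q) (K := zpowers d) (P := zpowers (t ^ 2))
      (zpowers_le_of_mem (hN d)) (zpowers_le_of_mem (sq_mem_of_index_two iM t)) ?_ (mem_zpowers _)
    obtain ⟨n, hn⟩ := ht2
    rw [Nat.card_zpowers, Nat.card_zpowers, hd]
    have : orderOf (t ^ 2) ∣ 2 ^ n := orderOf_dvd_of_pow_eq_one (by rw [pow_right_comm, hn, one_pow])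
    exact Nat.Coprime.coprime_dvd_left this (Nat.Coprime.pow_left n (by norm_num))
  let σ : G →* MulAut (QuaternionGroup 2) :=
    (MulAut.congr e).toMonoidHom.comp (MulAut.conjNormal (H := Q))
  have hσ : ∀ g x, ((e.symm (σ g x) : Q) : G) = g * (e.symm x : Q) * g⁻¹ := by
    intro g x
    change ((e.symm (e (MulAut.conjNormal g (e.symm x))) : Q) : G) = _
    rw [e.symm_apply_apply]; rfl
  have hδ1 : σ d ≠ 1 := by
    intro h
    apply hdQ
    apply hc
    rw [mem_centralizer_iff]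
    intro y hy
    have := hσ d (e ⟨y, hy⟩)
    rw [h, MulAut.one_apply, e.symm_apply_apply] at this
    exact (mul_inv_eq_iff_eq_mul.mp this.symm).symm
  have hδ3 : σ d ^ 3 = 1 := by rw [← map_pow, hd3, map_one]
  have hcen := quaternion_aut_fixed (σ d) hδ3 hδ1 (e ⟨t ^ 2, ht2Q⟩) (by
    apply e.symm.injective
    apply Subtype.ext
    rw [hσ, e.symm_apply_apply]
    have : t ^ 2 * d * (t ^ 2)⁻¹ = d := by
      calc t ^ 2 * d * (t ^ 2)⁻¹ = t * (t * d * t⁻¹) * t⁻¹ := by simp only [sq]; group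
        _ = (t * d * t⁻¹)⁻¹ := by conv_lhs => rw [htd]
                                  group
        _ = d := by rw [htd, inv_inv]
    change d * t ^ 2 * d⁻¹ = t ^ 2
    rw [← mul_inv_eq_iff_eq_mul.mp this]; group)
  have hτ2 : σ t ^ 2 = 1 := by
    rw [← map_pow]
    ext x
    apply e.symm.injective
    apply Subtype.ext
    rw [hσ, MulAut.one_apply, mul_inv_eq_iff_eq_mul]
    have := congrArg (fun z => ((e.symm z : Q) : G)) (hcen x)
    simpa using this.symm
  obtain ⟨i, hi1, hi2, hi3, hi4, hi5⟩ := quaternion_aut_gens (σ d) (σ t) hδ3 hδ1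
    (by rw [← map_inv, ← map_mul, ← map_mul, htd, map_inv]) hτ2
  let ι : QuaternionGroup 2 →* G := Q.subtype.comp e.symm.toMonoidHom
  have hι : Function.Injective ι := Q.subtype_injective.comp e.symm.injective
  have hσ' : ∀ g x, ι (σ g x) = g * ι x * g⁻¹ := hσ
  have q1 : ∀ x : QuaternionGroup 2, x ^ 4 = 1 := by decide
  have q2 : ∀ x y : QuaternionGroup 2, x ^ 2 ≠ 1 → y ^ 2 ≠ 1 → x ^ 2 = y ^ 2 := by decide
  have q3 : ∀ x y : QuaternionGroup 2, x ^ 2 ≠ 1 → (∀ z, z * y = y * z) → y = 1 ∨ y = x ^ 2 := by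
    decide
  refine ⟨ι i, ι (σ d i), d, t, ⟨?_, ?_, ?_, hd3, (hσ' d i).symm, ?_, ?_, ?_, htd⟩, ?_, ?_⟩
  · rw [← map_pow, q1, map_one]
  · rw [← map_pow ι, ← map_pow ι, q2 (σ d i) i _ hi1]
    rw [← map_pow]; exact fun h => hi1 ((σ d).map_eq_one_iff.mp h)
  · rw [← map_inv, ← map_mul, ← map_mul, hi2, map_inv]
  · rw [← hσ', hi3, map_mul]
  · rw [← hσ', hi4, map_inv]
  · rw [← hσ', hi5, map_inv, map_mul]
  · rw [← map_pow, Ne, map_eq_one_iff ι hι]; exact hi1
  · have e1 : ι (e ⟨t ^ 2, ht2Q⟩) = t ^ 2 := by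
      change ((e.symm (e ⟨t ^ 2, ht2Q⟩) : Q) : G) = _
      rw [e.symm_apply_apply]
    rcases q3 i _ hi1 hcen with h | h
    · left; rw [← e1, h, map_one]
    · right; rw [← e1, h, map_pow]

end Cfsg.Agent.H5
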